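import Mathlib.RingTheory.NoetherNormalization
import Mathlib.RingTheory.Localization.Integral
import Mathlib.RingTheory.MvPolynomial.Localization
import Mathlib.RingTheory.IsTensorProduct
import Mathlib.RingTheory.FinitePresentation
import Mathlib.RingTheory.Flat.Localization
import Mathlib.RingTheory.TensorProduct.Free
import Mathlib.RingTheory.TensorProduct.Finite
import Mathlib.RingTheory.FiniteStability
import Mathlib.Algebra.Module.FinitePresentation
import Mathlib.RingTheory.Localization.BaseChange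
import Mathlib.RingTheory.KrullDimension.Polynomial
import Mathlib.RingTheory.KrullDimension.NonZeroDivisors
import Mathlib.RingTheory.KrullDimension.Field
import Mathlib.Algebra.Module.Torsion.Basic
import Groth.Agent.Segre.Param

/-!
Generic freeness.
-/

set_option autoImplicit false

noncomputable section

namespace Groth.Agent.Flat.GenericFree

universe u

open scoped TensorProduct nonZeroDivisors

variable {R : Type u} [CommRing R] [IsDomain R]

/-- after inverting some nonzero element the module becomes free -/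
def FreeAway (R M : Type u) [CommRing R] [AddCommGroup M] [Module R M] : Prop :=
  ∃ f : R, f ≠ 0 ∧ ∀ (L : Type u) [CommRing L] [Algebra R L],
    IsUnit (algebraMap R L f) → Module.Free L (L ⊗[R] M)

theorem FreeAway.of_free {M : Type u} [AddCommGroup M] [Module R M] {f : R} (hf : f ≠ 0)
    (h : Module.Free (Localization.Away f) (Localization.Away f ⊗[R] M)) : FreeAway R M := by
  refine ⟨f, hf, fun L _ _ hu => ?_⟩
  let φ : Localization.Away f →+* L := IsLocalization.Away.lift f hu
  letI := φ.toAlgebra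
  haveI : IsScalarTower R (Localization.Away f) L :=
    IsScalarTower.of_algebraMap_eq fun r => (IsLocalization.Away.lift_eq f hu r).symm
  exact Module.Free.of_equiv
    (TensorProduct.AlgebraTensorModule.cancelBaseChange R (Localization.Away f) L L M)

theorem FreeAway.of_killed {M : Type u} [AddCommGroup M] [Module R M] {f : R} (hf : f ≠ 0)
    (h : ∀ x : M, f • x = 0) : FreeAway R M := by
  refine ⟨f, hf, fun L _ _ hu => ?_⟩
  haveI : Subsingleton (L ⊗[R] M) := by
    refine subsingleton_of_forall_eq 0 fun z => ?_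
    induction z using TensorProduct.induction_on with
    | zero => rfl
    | tmul l x =>
      have e : l = f • ((↑hu.unit⁻¹ : L) * l) := by
        rw [Algebra.smul_def, ← mul_assoc, IsUnit.mul_val_inv, one_mul]
      rw [e, TensorProduct.smul_tmul, h, TensorProduct.tmul_zero]
    | add a b ha hb => rw [ha, hb, add_zero]
  infer_instance

theorem FreeAway.of_exact {M N Q : Type u} [AddCommGroup M] [Module R M] [AddCommGroup N]
    [Module R N] [AddCommGroup Q] [Module R Q] [Module.Free R N] {i : N →ₗ[R] M} {p : M →ₗ[R] Q}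
    (hi : Function.Injective i) (he : Function.Exact i p) (hp : Function.Surjective p)
    (hQ : FreeAway R Q) : FreeAway R M := by
  obtain ⟨f, hf, hfree⟩ := hQ
  let L := Localization.Away f
  haveI : Module.Free L (L ⊗[R] Q) := hfree L (IsLocalization.Away.algebraMap_isUnit f)
  haveI : Module.Flat R L := IsLocalization.flat L (Submonoid.powers f)
  have e1 : Function.Exact (i.baseChange L) (p.baseChange L) := lTensor_exact L he hp
  have e2 : Function.Injective (i.baseChange L) :=
    Module.Flat.lTensor_preserves_injective_linearMap (M := L) i hi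
  have e3 : Function.Surjective (p.baseChange L) := LinearMap.lTensor_surjective L hp
  obtain ⟨l, hl⟩ := Module.projective_lifting_property (p.baseChange L) LinearMap.id e3
  refine FreeAway.of_free hf (Module.Free.of_equiv
    ((e1.splitSurjectiveEquiv e2 ⟨l, hl⟩).1).symm)

/-- the inductive hypothesis -/
def Gen (n : ℕ) : Prop :=
  ∀ (R : Type u) [CommRing R] [IsDomain R] (M : Type u) [AddCommGroup M] [Module R M]
    [Module (MvPolynomial (Fin n) R) M] [IsScalarTower R (MvPolynomial (Fin n) R) M]
    [Module.Finite (MvPolynomial (Fin n) R) M], FreeAway R M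

attribute [local instance] MvPolynomial.algebraMvPolynomial

/-- transport of the inductive hypothesis along a pushout -/
theorem exists_free_of_pushout {s : ℕ} (hs : Gen.{u} s) (R R₁ A T : Type u) [CommRing R]
    [CommRing R₁] [IsDomain R₁] [CommRing A] [CommRing T] [Algebra R R₁] [Algebra R A]
    [Algebra R₁ T] [Algebra A T] [Algebra R T] [IsScalarTower R R₁ T] [IsScalarTower R A T]
    [Algebra.IsPushout R R₁ A T] (ψ : MvPolynomial (Fin s) R₁ →ₐ[R₁] T)
    (hψ : ψ.toRingHom.Finite)
    (M : Type u) [AddCommGroup M] [Module R M] [Module A M] [IsScalarTower R A M]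
    [Module.Finite A M] :
    ∃ h : R₁, h ≠ 0 ∧ ∀ (L : Type u) [CommRing L] [Algebra R L] [Algebra R₁ L]
      [IsScalarTower R R₁ L], IsUnit (algebraMap R₁ L h) → Module.Free L (L ⊗[R] M) := by
  letI : Algebra (MvPolynomial (Fin s) R₁) T := ψ.toRingHom.toAlgebra
  haveI : Module.Finite (MvPolynomial (Fin s) R₁) T := hψ
  haveI : Module.Finite (MvPolynomial (Fin s) R₁) (T ⊗[A] M) := Module.Finite.trans T _
  obtain ⟨h, hh, hfree⟩ := hs R₁ (T ⊗[A] M)
  refine ⟨h, hh, fun L _ _ _ _ hu => ?_⟩
  haveI := hfree L hu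
  exact Module.Free.of_equiv
    ((TensorProduct.AlgebraTensorModule.congr (LinearEquiv.refl L L)
      (Algebra.IsPushout.cancelBaseChange R R₁ A T M)).trans
      (TensorProduct.AlgebraTensorModule.cancelBaseChange R R₁ L L M))

/-- a module over an algebra finite over a polynomial ring after localisation -/
theorem freeAway_of_integral {s k : ℕ} (hs : Gen.{u} s) (A : Type u) [CommRing A] [Algebra R A]
    (x : Fin k → A) (hx : Function.Surjective (MvPolynomial.aeval x : MvPolynomial (Fin k) R → A))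
    (y : Fin s → A)
    (hint : ∀ j, (MvPolynomial.aeval (R := FractionRing R)
        fun i => (1 : FractionRing R) ⊗ₜ[R] y i).toRingHom.IsIntegralElem
      ((1 : FractionRing R) ⊗ₜ[R] x j))
    (M : Type u) [AddCommGroup M] [Module R M] [Module A M] [IsScalarTower R A M]
    [Module.Finite A M] : FreeAway R M := by
  classical
  let K := FractionRing R
  let γ : MvPolynomial (Fin s) R →ₐ[R] A := MvPolynomial.aeval y
  let γK : MvPolynomial (Fin s) K →ₐ[K] K ⊗[R] A :=
    MvPolynomial.aeval fun i => (1 : K) ⊗ₜ[R] y i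
  let ι : A →ₐ[R] K ⊗[R] A := Algebra.TensorProduct.includeRight
  let Γ : MvPolynomial (Fin s) R →ₐ[R] K ⊗[R] A := ι.comp γ
  have hΓ : ∀ q, Γ q = γK (MvPolynomial.map (algebraMap R K) q) := fun q => by
    show ι (MvPolynomial.aeval y q) = MvPolynomial.aeval _ (MvPolynomial.map (algebraMap R K) q)
    rw [MvPolynomial.aeval_map_algebraMap]
    exact MvPolynomial.comp_aeval_apply _ ι q
  have key : ∀ j, ∃ d : R, d ≠ 0 ∧ ∃ c : R, c ≠ 0 ∧ ∃ p : Polynomial (MvPolynomial (Fin s) R),
      p.Monic ∧ c • Polynomial.eval₂ γ.toRingHom (d • x j) p = 0 := by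
    intro j
    letI : Algebra (MvPolynomial (Fin s) K) (K ⊗[R] A) := γK.toRingHom.toAlgebra
    letI : Algebra (MvPolynomial (Fin s) R) (K ⊗[R] A) := Γ.toRingHom.toAlgebra
    haveI : IsScalarTower (MvPolynomial (Fin s) R) (MvPolynomial (Fin s) K) (K ⊗[R] A) :=
      IsScalarTower.of_algebraMap_eq fun q => hΓ q
    haveI := MvPolynomial.isLocalization (σ := Fin s) (R⁰) K
    have h1 : IsIntegral (MvPolynomial (Fin s) K) ((1 : K) ⊗ₜ[R] x j) := hint j
    obtain ⟨⟨m, hm⟩, p, hp, hp0⟩ :=
      h1.exists_multiple_integral_of_isLocalization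
        ((R⁰).map (MvPolynomial.C : R →+* MvPolynomial (Fin s) R))
    obtain ⟨d, hd, rfl⟩ := hm
    refine ⟨d, nonZeroDivisors.ne_zero hd, ?_⟩
    have h2 : (⟨MvPolynomial.C d, Submonoid.mem_map_of_mem _ hd⟩ :
        (R⁰).map (MvPolynomial.C : R →+* MvPolynomial (Fin s) R)) • ((1 : K) ⊗ₜ[R] x j) =
        ι (d • x j) := by
      rw [Submonoid.smul_def, Algebra.smul_def]
      show Γ (MvPolynomial.C d) * _ = _
      rw [← MvPolynomial.algebraMap_eq, AlgHom.commutes, ← Algebra.smul_def]
      rw [map_smul]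
      rfl
    rw [h2] at hp0
    have h3 : ι (Polynomial.eval₂ γ.toRingHom (d • x j) p) = 0 := by
      rw [← hp0]
      exact Polynomial.hom_eval₂ p γ.toRingHom ι.toRingHom (d • x j)
    obtain ⟨⟨c, hc⟩, hc0⟩ := (IsLocalizedModule.eq_zero_iff R⁰
      (f := TensorProduct.mk R K A 1)).mp h3
    exact ⟨c, nonZeroDivisors.ne_zero hc, p, hp, hc0⟩
  choose d hd c hc p hp hp0 using key
  let f₁ := ∏ j, d j * c j
  have hf₁ : f₁ ≠ 0 := Finset.prod_ne_zero_iff.mpr fun j _ => mul_ne_zero (hd j) (hc j)
  let R₁ := Localization.Away f₁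
  have hu₁ : IsUnit (algebraMap R R₁ f₁) := IsLocalization.Away.algebraMap_isUnit f₁
  haveI : IsDomain R₁ := IsLocalization.isDomain_localization
    (powers_le_nonZeroDivisors_of_noZeroDivisors hf₁)
  have hudc : ∀ j, IsUnit (algebraMap R R₁ (d j)) ∧ IsUnit (algebraMap R R₁ (c j)) := fun j => by
    have h := isUnit_of_dvd_unit (map_dvd (algebraMap R R₁)
      (Finset.dvd_prod_of_mem (fun j => d j * c j) (Finset.mem_univ j))) hu₁
    rw [map_mul] at h
    exact ⟨isUnit_of_mul_isUnit_left h, isUnit_of_mul_isUnit_right h⟩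
  let j₁ : A →ₐ[R] (R₁ ⊗[R] A) := Algebra.TensorProduct.includeRight
  let ψ : MvPolynomial (Fin s) R₁ →ₐ[R₁] (R₁ ⊗[R] A) := MvPolynomial.aeval fun i => j₁ (y i)
  have hψ : ∀ q, j₁ (γ q) = ψ (MvPolynomial.map (algebraMap R R₁) q) := fun q => by
    show j₁ (MvPolynomial.aeval y q) = MvPolynomial.aeval _ (MvPolynomial.map _ q)
    rw [MvPolynomial.aeval_map_algebraMap, ← MvPolynomial.comp_aeval_apply]
  letI : Algebra (MvPolynomial (Fin s) R₁) (R₁ ⊗[R] A) := ψ.toRingHom.toAlgebra
  haveI : IsScalarTower R₁ (MvPolynomial (Fin s) R₁) (R₁ ⊗[R] A) :=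
    IsScalarTower.of_algebraMap_eq fun r => (ψ.commutes r).symm
  have hgen : ∀ j, IsIntegral (MvPolynomial (Fin s) R₁) (j₁ (x j)) := by
    intro j
    have h0 : j₁ (Polynomial.eval₂ γ.toRingHom (d j • x j) (p j)) = 0 := by
      have h := congrArg j₁ (hp0 j)
      rw [map_smul, map_zero, ← algebraMap_smul R₁ (c j) (j₁ _)] at h
      exact (hudc j).2.smul_eq_zero.mp h
    have h1 : IsIntegral (MvPolynomial (Fin s) R₁) (j₁ (d j • x j)) := by
      refine ⟨(p j).map (MvPolynomial.map (algebraMap R R₁)), (hp j).map _, ?_⟩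
      rw [Polynomial.eval₂_map, ← h0]
      refine ((congrArg (fun φ : MvPolynomial (Fin s) R →+* (R₁ ⊗[R] A) =>
        Polynomial.eval₂ φ (j₁ (d j • x j)) (p j)) (RingHom.ext fun q => ?_)).trans
        (Polynomial.hom_eval₂ (p j) γ.toRingHom j₁.toRingHom (d j • x j)).symm)
      exact (hψ q).symm
    have h2 : j₁ (x j) = algebraMap R₁ (R₁ ⊗[R] A) (↑(hudc j).1.unit⁻¹) * j₁ (d j • x j) := by
      rw [map_smul, ← algebraMap_smul R₁ (d j) (j₁ (x j)), ← Algebra.smul_def, smul_smul,
        IsUnit.val_inv_mul, one_smul]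
    rw [h2]
    refine IsIntegral.mul ?_ h1
    rw [IsScalarTower.algebraMap_apply R₁ (MvPolynomial (Fin s) R₁) (R₁ ⊗[R] A)]
    exact isIntegral_algebraMap
  haveI : Algebra.IsIntegral (MvPolynomial (Fin s) R₁) (R₁ ⊗[R] A) := by
    refine ⟨fun z => ?_⟩
    induction z using TensorProduct.induction_on with
    | zero => exact isIntegral_zero
    | add a b ha hb => exact ha.add hb
    | tmul r a =>
      have e : r ⊗ₜ[R] a = algebraMap R₁ (R₁ ⊗[R] A) r * j₁ a := by
        show _ = ((r ⊗ₜ[R] (1 : A)) : R₁ ⊗[R] A) * ((1 : R₁) ⊗ₜ[R] a)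
        rw [Algebra.TensorProduct.tmul_mul_tmul, mul_one, one_mul]
      rw [e, IsScalarTower.algebraMap_apply R₁ (MvPolynomial (Fin s) R₁) (R₁ ⊗[R] A)]
      refine isIntegral_algebraMap.mul ?_
      obtain ⟨q, rfl⟩ := hx a
      clear e
      induction q using MvPolynomial.induction_on with
      | C r =>
        rw [MvPolynomial.aeval_C, AlgHom.commutes, IsScalarTower.algebraMap_apply R R₁ (R₁ ⊗[R] A),
          IsScalarTower.algebraMap_apply R₁ (MvPolynomial (Fin s) R₁) (R₁ ⊗[R] A)]
        exact isIntegral_algebraMap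
      | add a b ha hb => rw [map_add, map_add]; exact ha.add hb
      | mul_X a i ha =>
        rw [map_mul, map_mul, MvPolynomial.aeval_X]
        exact ha.mul (hgen i)
  haveI : Algebra.FiniteType R A := Algebra.FiniteType.of_surjective _ hx
  haveI : Algebra.FiniteType (MvPolynomial (Fin s) R₁) (R₁ ⊗[R] A) :=
    Algebra.FiniteType.of_restrictScalars_finiteType R₁ _ _
  haveI : Module.Finite (MvPolynomial (Fin s) R₁) (R₁ ⊗[R] A) := Algebra.IsIntegral.finite
  letI : Algebra A (R₁ ⊗[R] A) := Algebra.TensorProduct.rightAlgebra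
  obtain ⟨h, hh, hfree⟩ := exists_free_of_pushout hs R R₁ A (R₁ ⊗[R] A) ψ
    (RingHom.finite_algebraMap.mpr ‹Module.Finite (MvPolynomial (Fin s) R₁) (R₁ ⊗[R] A)›) M
  obtain ⟨⟨a, ⟨_, k', rfl⟩⟩, hak⟩ := IsLocalization.surj (Submonoid.powers f₁) h
  have hinj : Function.Injective (algebraMap R R₁) :=
    IsLocalization.injective R₁ (powers_le_nonZeroDivisors_of_noZeroDivisors hf₁)
  have hpu : IsUnit (algebraMap R R₁ (f₁ ^ k')) := by rw [map_pow]; exact hu₁.pow _
  have ha : a ≠ 0 := by
    rintro rfl
    rw [map_zero] at hak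
    exact hh (hpu.mul_left_eq_zero.mp hak)
  refine ⟨f₁ * a, mul_ne_zero hf₁ ha, fun L _ _ hu => ?_⟩
  rw [map_mul, IsUnit.mul_iff] at hu
  let φ : R₁ →+* L := IsLocalization.Away.lift f₁ hu.1
  letI := φ.toAlgebra
  haveI : IsScalarTower R R₁ L :=
    IsScalarTower.of_algebraMap_eq fun r => (IsLocalization.Away.lift_eq f₁ hu.1 r).symm
  have hhu : IsUnit (algebraMap R₁ L h) := by
    have := congrArg (algebraMap R₁ L) hak
    rw [map_mul, ← IsScalarTower.algebraMap_apply R R₁ L a] at this
    exact isUnit_of_mul_isUnit_left (this ▸ hu.2)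
  exact hfree L hhu

/-- a module killed by a nonzero polynomial -/
theorem freeAway_of_quotient {n : ℕ} (ih : ∀ s < n, Gen.{u} s)
    (g : MvPolynomial (Fin n) R) (hg : g ≠ 0) (A : Type u) [CommRing A] [Algebra R A]
    (x : Fin n → A) (hx : Function.Surjective (MvPolynomial.aeval x : MvPolynomial (Fin n) R → A))
    (hgx : MvPolynomial.aeval x g = 0)
    (M : Type u) [AddCommGroup M] [Module R M] [Module A M] [IsScalarTower R A M]
    [Module.Finite A M] : FreeAway R M := by
  classical
  let K := FractionRing R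
  let ι : A →ₐ[R] K ⊗[R] A := Algebra.TensorProduct.includeRight
  let φ : MvPolynomial (Fin n) K →ₐ[K] K ⊗[R] A := MvPolynomial.aeval fun j => ι (x j)
  have hφ : ∀ q, φ (MvPolynomial.map (algebraMap R K) q) = ι (MvPolynomial.aeval x q) := fun q => by
    show MvPolynomial.aeval _ (MvPolynomial.map (algebraMap R K) q) = _
    rw [MvPolynomial.aeval_map_algebraMap]
    exact (MvPolynomial.comp_aeval_apply _ ι q).symm
  have hφs : Function.Surjective φ := fun z => by
    induction z using TensorProduct.induction_on with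
    | zero => exact ⟨0, map_zero _⟩
    | add a b ha hb =>
      obtain ⟨p, rfl⟩ := ha
      obtain ⟨q, rfl⟩ := hb
      exact ⟨p + q, map_add _ _ _⟩
    | tmul r a =>
      obtain ⟨q, rfl⟩ := hx a
      refine ⟨r • MvPolynomial.map (algebraMap R K) q, ?_⟩
      rw [map_smul, hφ]
      show r • ((1 : K) ⊗ₜ[R] _) = _
      rw [TensorProduct.smul_tmul', smul_eq_mul, mul_one]
  rcases subsingleton_or_nontrivial (K ⊗[R] A) with hsub | hnt
  · obtain ⟨⟨c, hc⟩, hc0⟩ := (IsLocalizedModule.eq_zero_iff R⁰
      (f := TensorProduct.mk R K A 1)).mp (Subsingleton.elim (TensorProduct.mk R K A 1 1) 0)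
    refine FreeAway.of_killed (nonZeroDivisors.ne_zero hc) fun m => ?_
    rw [← one_smul A m, ← smul_assoc]
    rw [show c • (1 : A) = 0 from hc0, zero_smul]
  · have hdim : ringKrullDim (K ⊗[R] A) + 1 ≤ (n : WithBot ℕ∞) := by
      refine (ringKrullDim_succ_le_of_surjective φ.toRingHom hφs
        (r := MvPolynomial.map (algebraMap R K) g) ?_ ?_).trans ?_
      · refine mem_nonZeroDivisors_of_ne_zero ?_
        rw [Ne, map_eq_zero_iff _ (MvPolynomial.map_injective _ (IsFractionRing.injective R K))]
        exact hg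
      · show φ _ = 0
        rw [hφ, hgx, map_zero]
      · rw [MvPolynomial.ringKrullDim_of_isNoetherianRing, ringKrullDim_eq_zero_of_field]
        simp
    haveI : Algebra.FiniteType K (K ⊗[R] A) := Algebra.FiniteType.of_surjective φ hφs
    obtain ⟨s, G, hGi, hGf⟩ := exists_finite_inj_algHom_of_fg K (K ⊗[R] A)
    have hsn : s < n := by
      have h1 : ringKrullDim (MvPolynomial (Fin s) K) = ringKrullDim (K ⊗[R] A) :=
        Segre.Param.ringKrullDim_eq_of_isIntegral G.toRingHom (RingHom.IsIntegral.of_finite hGf) hGi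
      rw [MvPolynomial.ringKrullDim_of_isNoetherianRing, ringKrullDim_eq_zero_of_field,
        zero_add, Nat.card_fin] at h1
      rw [← h1] at hdim
      simpa [Nat.succ_le_iff] using (show (s + 1 : ℕ) ≤ n by exact_mod_cast hdim)
    have hsc : ∀ i : Fin s, ∃ y : A, ∃ r : R, r ≠ 0 ∧
        algebraMap R K r • G (MvPolynomial.X i) = ι y := fun i => by
      obtain ⟨⟨y, ⟨r, hr⟩⟩, h⟩ :=
        IsLocalizedModule.surj R⁰ (TensorProduct.mk R K A 1) (G (MvPolynomial.X i))
      exact ⟨y, r, nonZeroDivisors.ne_zero hr, (algebraMap_smul K r _).trans h⟩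
    choose y r hr hy using hsc
    let σ : MvPolynomial (Fin s) K →ₐ[K] MvPolynomial (Fin s) K :=
      MvPolynomial.aeval fun i => algebraMap R K (r i) • MvPolynomial.X i
    have hσ : Function.Surjective σ := by
      intro q
      induction q using MvPolynomial.induction_on with
      | C c => exact ⟨MvPolynomial.C c, by simp [σ]⟩
      | add a b ha hb =>
        obtain ⟨p, rfl⟩ := ha
        obtain ⟨q, rfl⟩ := hb
        exact ⟨p + q, map_add _ _ _⟩
      | mul_X a i ha =>
        obtain ⟨p, rfl⟩ := ha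
        have hne : algebraMap R K (r i) ≠ 0 :=
          (map_ne_zero_iff _ (IsFractionRing.injective R K)).mpr (hr i)
        refine ⟨p * ((algebraMap R K (r i))⁻¹ • MvPolynomial.X i), ?_⟩
        rw [map_mul, map_smul]
        simp only [σ, MvPolynomial.aeval_X, smul_smul]
        rw [inv_mul_cancel₀ hne, one_smul]
    have hcomp : G.comp σ = MvPolynomial.aeval fun i => (1 : K) ⊗ₜ[R] y i := by
      refine MvPolynomial.algHom_ext fun i => ?_
      simp only [σ, AlgHom.comp_apply, MvPolynomial.aeval_X, map_smul]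
      exact hy i
    have hfin : (MvPolynomial.aeval fun i => (1 : K) ⊗ₜ[R] y i :
        MvPolynomial (Fin s) K →ₐ[K] K ⊗[R] A).toRingHom.Finite := by
      rw [← hcomp]
      exact RingHom.Finite.comp hGf (RingHom.Finite.of_surjective σ.toRingHom hσ)
    exact freeAway_of_integral (ih s hsn) A x hx y (fun j => hfin.to_isIntegral _) M

/-- the induction step -/
theorem gen (n : ℕ) : Gen.{u} n := by
  induction n using Nat.strong_induction_on with
  | _ n ih =>
    intro R _ _ M _ _ _ _ _
    classical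
    obtain ⟨k, m, hm⟩ := Module.Finite.exists_fin (R := MvPolynomial (Fin n) R) (M := M)
    obtain ⟨t, ht, htmax⟩ := (Finset.univ.powerset.filter fun t : Finset (Fin k) =>
      LinearIndepOn (MvPolynomial (Fin n) R) m (t : Set (Fin k))).exists_maximal
      ⟨∅, by simp [linearIndepOn_empty]⟩
    simp only [Finset.mem_filter, Finset.mem_powerset, Finset.subset_univ, true_and] at ht htmax
    let N : Submodule (MvPolynomial (Fin n) R) M :=
      Submodule.span _ (Set.range fun i : (t : Set (Fin k)) => m i)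
    have hdep : ∀ j, ∃ g : MvPolynomial (Fin n) R, g ≠ 0 ∧ g • m j ∈ N := by
      intro j
      by_cases hj : j ∈ t
      · exact ⟨1, one_ne_zero, by rw [one_smul]; exact Submodule.subset_span ⟨⟨j, hj⟩, rfl⟩⟩
      · have hnli : ¬ LinearIndepOn (MvPolynomial (Fin n) R) m ((insert j t : Finset _) : Set _) :=
          fun h => hj (htmax h (Finset.subset_insert j t) (Finset.mem_insert_self j t))
        simp only [linearIndepOn_finset_iff, not_forall] at hnli
        obtain ⟨l, hl, i, hi, hli⟩ := hnli
        rw [Finset.sum_insert hj] at hl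
        refine ⟨l j, fun h0 => ?_, ?_⟩
        · rw [h0, zero_smul, zero_add] at hl
          rcases Finset.mem_insert.mp hi with rfl | hi'
          · exact hli h0
          · exact hli (linearIndepOn_finset_iff.mp ht l hl i hi')
        · rw [eq_neg_of_add_eq_zero_left hl]
          exact N.neg_mem (N.sum_mem fun i hi => N.smul_mem _
            (Submodule.subset_span ⟨⟨i, hi⟩, rfl⟩))
    choose g hg hgN using hdep
    let G := ∏ j, g j
    have hG : G ≠ 0 := Finset.prod_ne_zero_iff.mpr fun j _ => hg j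
    have hkill : ∀ x : M, G • x ∈ N := fun x => by
      have hx : x ∈ Submodule.span (MvPolynomial (Fin n) R) (Set.range m) := hm ▸ trivial
      induction hx using Submodule.span_induction with
      | mem x hx =>
        obtain ⟨j, rfl⟩ := hx
        obtain ⟨c, hc⟩ := Finset.dvd_prod_of_mem g (Finset.mem_univ j)
        rw [show G = g j * c from hc, mul_comm, mul_smul]
        exact N.smul_mem _ (hgN j)
      | zero => simp
      | add a b _ _ ha hb => rw [smul_add]; exact N.add_mem ha hb
      | smul a b _ hb => rw [smul_comm]; exact N.smul_mem _ hb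
    haveI : Module.Free (MvPolynomial (Fin n) R) N :=
      Module.Free.of_basis (Module.Basis.span ht.linearIndependent)
    haveI : Module.Free R N := Module.Free.of_basis
      ((Module.Free.chooseBasis R (MvPolynomial (Fin n) R)).smulTower
        (Module.Free.chooseBasis (MvPolynomial (Fin n) R) N))
    refine FreeAway.of_exact (i := N.subtype.restrictScalars R) (p := N.mkQ.restrictScalars R)
      (Submodule.injective_subtype N) (LinearMap.exact_subtype_mkQ N)
      (Submodule.mkQ_surjective N) ?_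
    have htor : Module.IsTorsionBySet (MvPolynomial (Fin n) R) (M ⧸ N)
        (Ideal.span {G} : Ideal (MvPolynomial (Fin n) R)) := by
      intro z a
      obtain ⟨b, hb⟩ := Ideal.mem_span_singleton'.mp a.2
      obtain ⟨z, rfl⟩ := Submodule.mkQ_surjective N z
      rw [← hb, mul_smul, ← map_smul]
      rw [show N.mkQ (G • z) = 0 from (Submodule.Quotient.mk_eq_zero N).mpr (hkill z), smul_zero]
    letI := htor.module
    haveI : IsScalarTower R (MvPolynomial (Fin n) R ⧸ Ideal.span {G}) (M ⧸ N) :=
      htor.isScalarTower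
    haveI : IsScalarTower (MvPolynomial (Fin n) R)
      (MvPolynomial (Fin n) R ⧸ Ideal.span {G}) (M ⧸ N) := htor.isScalarTower
    haveI : Module.Finite (MvPolynomial (Fin n) R ⧸ Ideal.span {G}) (M ⧸ N) :=
      Module.Finite.of_restrictScalars_finite (MvPolynomial (Fin n) R) _ _
    have hmk : (MvPolynomial.aeval fun i =>
        Ideal.Quotient.mk (Ideal.span {G}) (MvPolynomial.X i)) =
        Ideal.Quotient.mkₐ R (Ideal.span {G}) :=
      MvPolynomial.algHom_ext fun i => by simp
    refine freeAway_of_quotient ih G hG (MvPolynomial (Fin n) R ⧸ Ideal.span {G})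
      (fun i => Ideal.Quotient.mk (Ideal.span {G}) (MvPolynomial.X i)) ?_ ?_ (M ⧸ N)
    · rw [hmk]; exact Ideal.Quotient.mkₐ_surjective R _
    · rw [hmk]; exact Ideal.Quotient.eq_zero_iff_mem.mpr (Ideal.mem_span_singleton_self G)

/-- finite modules over finite type algebras -/
theorem freeAway_of_finite (S M : Type u) [CommRing S] [Algebra R S] [Algebra.FiniteType R S]
    [AddCommGroup M] [Module R M] [Module S M] [IsScalarTower R S M] [Module.Finite S M] :
    FreeAway R M := by
  obtain ⟨n, π, hπ⟩ := Algebra.FiniteType.iff_quotient_mvPolynomial''.mp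
    (inferInstance : Algebra.FiniteType R S)
  letI : Algebra (MvPolynomial (Fin n) R) S := π.toRingHom.toAlgebra
  letI : Module (MvPolynomial (Fin n) R) M := Module.compHom M π.toRingHom
  haveI : IsScalarTower (MvPolynomial (Fin n) R) S M :=
    IsScalarTower.of_algebraMap_smul fun q z => rfl
  haveI : IsScalarTower R (MvPolynomial (Fin n) R) M :=
    IsScalarTower.of_algebraMap_smul fun r z => by
      show π (algebraMap R _ r) • z = _
      rw [π.commutes, algebraMap_smul]
  haveI : Module.Finite (MvPolynomial (Fin n) R) S :=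
    Module.Finite.of_surjective (Algebra.linearMap (MvPolynomial (Fin n) R) S) hπ
  haveI : Module.Finite (MvPolynomial (Fin n) R) M := Module.Finite.trans S M
  exact gen n R M

/-- every submodule of a finite free module over a polynomial ring is, up to torsion over the
base, finitely generated -/
theorem exists_fg_clear {n : ℕ} {ι : Type} [Finite ι]
    (N : Submodule (MvPolynomial (Fin n) R) (ι → MvPolynomial (Fin n) R)) :
    ∃ N₀ ≤ N, N₀.FG ∧ ∀ z ∈ N, ∃ d : R, d ≠ 0 ∧ d • z ∈ N₀ := by
  classical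
  let K := FractionRing R
  let P := MvPolynomial (Fin n) R
  let j : (ι → P) → (ι → MvPolynomial (Fin n) K) := fun v i => algebraMap P _ (v i)
  have hjinj : Function.Injective j := fun v w h => funext fun i =>
    MvPolynomial.map_injective _ (IsFractionRing.injective R K) (congrFun h i)
  obtain ⟨T, hT, hspan⟩ := Submodule.fg_span_iff_fg_span_finset_subset (R := MvPolynomial (Fin n) K)
    (j '' (N : Set (ι → P))) |>.mp (IsNoetherian.noetherian _)
  have hT' : ∀ v ∈ T, ∃ w ∈ N, j w = v := fun v hv => hT hv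
  choose! pre hpre hjpre using hT'
  refine ⟨Submodule.span P (pre '' T), Submodule.span_le.mpr ?_,
    Submodule.fg_span (T.finite_toSet.image _), fun z hz => ?_⟩
  · rintro _ ⟨v, hv, rfl⟩
    exact hpre v hv
  · have hmem : j z ∈ Submodule.span (MvPolynomial (Fin n) K) (T : Set (ι → MvPolynomial (Fin n) K)) :=
      hspan ▸ Submodule.subset_span ⟨z, hz, rfl⟩
    obtain ⟨q, hq⟩ := Submodule.mem_span_finset'.mp hmem
    haveI := MvPolynomial.isLocalization (σ := Fin n) (R⁰) K
    obtain ⟨⟨_, d, hd, rfl⟩, hdq⟩ := IsLocalization.exist_integer_multiples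
      ((R⁰).map (MvPolynomial.C : R →+* P)) Finset.univ q
    choose b hb using fun t => hdq t (Finset.mem_univ t)
    refine ⟨d, nonZeroDivisors.ne_zero hd, ?_⟩
    have key : d • z = ∑ t : {x // x ∈ T}, b t • pre t := by
      refine hjinj (funext fun i => ?_)
      have h1 : j z i = ∑ t : {x // x ∈ T}, q t * (t : ι → MvPolynomial (Fin n) K) i := by
        rw [← hq]; simp
      show algebraMap P _ (d • z i) = algebraMap P _ ((∑ t, b t • pre t) i)
      rw [MvPolynomial.smul_eq_C_mul, map_mul, Finset.sum_apply, map_sum]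
      show _ * j z i = _
      rw [h1, Finset.mul_sum]
      refine Finset.sum_congr rfl fun t _ => ?_
      rw [Pi.smul_apply, smul_eq_mul, map_mul, hb t]
      show _ = (MvPolynomial.C d : P) • q t * _
      rw [Algebra.smul_def, mul_assoc]
      congr 2
      exact (congrFun (hjpre t t.2) i).symm
    rw [key]
    exact Submodule.sum_mem _ fun t _ => Submodule.smul_mem _ _
      (Submodule.subset_span ⟨t, t.2, rfl⟩)

/-- torsion kernels die after inverting one element -/
theorem exists_kill {N M : Type u} [AddCommGroup N] [Module R N] [AddCommGroup M] [Module R M]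
    (hN : FreeAway R N) (p : N →ₗ[R] M) (hp : ∀ z, p z = 0 → ∃ d : R, d ≠ 0 ∧ d • z = 0) :
    ∃ f : R, f ≠ 0 ∧ ∀ z, p z = 0 → ∃ k : ℕ, f ^ k • z = 0 := by
  obtain ⟨f, hf, hfree⟩ := hN
  refine ⟨f, hf, fun z hz => ?_⟩
  have hle := powers_le_nonZeroDivisors_of_noZeroDivisors hf
  haveI : IsDomain (Localization.Away f) := IsLocalization.isDomain_localization hle
  haveI : Module.Free (Localization.Away f) (Localization.Away f ⊗[R] N) :=
    hfree _ (IsLocalization.Away.algebraMap_isUnit f)
  obtain ⟨d, hd, hdz⟩ := hp z hz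
  have h1 : algebraMap R (Localization.Away f) d • ((1 : Localization.Away f) ⊗ₜ[R] z) = 0 := by
    rw [algebraMap_smul, ← TensorProduct.tmul_smul, hdz, TensorProduct.tmul_zero]
  have h2 : (1 : Localization.Away f) ⊗ₜ[R] z = 0 :=
    (smul_eq_zero.mp h1).resolve_left ((map_ne_zero_iff _ (IsLocalization.injective _ hle)).mpr hd)
  obtain ⟨⟨_, k, rfl⟩, hk⟩ := (IsLocalizedModule.eq_zero_iff (Submonoid.powers f)
    (f := TensorProduct.mk R (Localization.Away f) N 1)).mp h2
  exact ⟨k, hk⟩

theorem bijective_baseChange {N M : Type u} [AddCommGroup N] [Module R N] [AddCommGroup M]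
    [Module R M] (p : N →ₗ[R] M) (hp : Function.Surjective p) {f : R}
    (h : ∀ z, p z = 0 → ∃ k : ℕ, f ^ k • z = 0) (L : Type u) [CommRing L] [Algebra R L]
    (hu : IsUnit (algebraMap R L f)) : Function.Bijective (p.baseChange L) := by
  refine ⟨(injective_iff_map_eq_zero _).mpr fun w hw => ?_, LinearMap.lTensor_surjective L hp⟩
  obtain ⟨v, rfl⟩ := (lTensor_exact L (LinearMap.exact_subtype_ker_map p) hp w).mp hw
  clear hw
  induction v using TensorProduct.induction_on with
  | zero => exact map_zero _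
  | add a b ha hb =>
    rw [map_add, ha, hb, add_zero]
  | tmul l z =>
    obtain ⟨k, hk⟩ := h z z.2
    have hu' : IsUnit (algebraMap R L (f ^ k)) := by rw [map_pow]; exact hu.pow k
    rw [LinearMap.lTensor_tmul]
    show l ⊗ₜ[R] (z : N) = 0
    rw [← hu'.smul_eq_zero, algebraMap_smul, ← TensorProduct.tmul_smul, hk, TensorProduct.tmul_zero]

/-- Generic freeness with finite presentation. -/
theorem generic_freeness (S M : Type u) [CommRing S] [Algebra R S] [Algebra.FiniteType R S]
    [AddCommGroup M] [Module R M] [Module S M] [IsScalarTower R S M] [Module.Finite S M] :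
    ∃ f : R, f ≠ 0 ∧ Module.Free (Localization.Away f) (Localization.Away f ⊗[R] M) ∧
      Module.Free (Localization.Away f) (Localization.Away f ⊗[R] S) ∧
      Algebra.FinitePresentation (Localization.Away f) (Localization.Away f ⊗[R] S) ∧
      Module.FinitePresentation (Localization.Away (algebraMap R S f))
        (LocalizedModule (Submonoid.powers (algebraMap R S f)) M) := by
  classical
  obtain ⟨n, π, hπ⟩ := Algebra.FiniteType.iff_quotient_mvPolynomial''.mp
    (inferInstance : Algebra.FiniteType R S)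
  let P := MvPolynomial (Fin n) R
  letI : Algebra P S := π.toRingHom.toAlgebra
  letI : Module P M := Module.compHom M π.toRingHom
  haveI : IsScalarTower P S M := IsScalarTower.of_algebraMap_smul fun q z => rfl
  haveI : IsScalarTower R P S := IsScalarTower.of_algebraMap_eq fun r => (π.commutes r).symm
  haveI : IsScalarTower R P M := IsScalarTower.of_algebraMap_smul fun r z => by
    show π (algebraMap R _ r) • z = _
    rw [π.commutes, algebraMap_smul]
  haveI : Module.Finite P S := Module.Finite.of_surjective (Algebra.linearMap P S) hπ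
  haveI : Module.Finite P M := Module.Finite.trans S M
  -- the module
  obtain ⟨m, p, hp⟩ := Module.Finite.exists_fin' P M
  obtain ⟨N₀, hN₀le, hN₀fg, hN₀⟩ := exists_fg_clear (LinearMap.ker p)
  let q : ((Fin m → P) ⧸ N₀) →ₗ[P] M := N₀.liftQ p hN₀le
  have hqs : Function.Surjective q := fun y => by
    obtain ⟨v, rfl⟩ := hp y; exact ⟨Submodule.Quotient.mk v, rfl⟩
  have hqk : ∀ z, q.restrictScalars R z = 0 → ∃ d : R, d ≠ 0 ∧ d • z = 0 := fun z hz => by
    obtain ⟨v, rfl⟩ := Submodule.mkQ_surjective N₀ z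
    obtain ⟨d, hd, hdv⟩ := hN₀ v hz
    exact ⟨d, hd, (Submodule.Quotient.mk_smul N₀ d v).symm.trans
      ((Submodule.Quotient.mk_eq_zero N₀).mpr hdv)⟩
  obtain ⟨f₁, hf₁, hk₁⟩ := exists_kill (gen n R ((Fin m → P) ⧸ N₀)) (q.restrictScalars R) hqk
  -- the algebra
  let ev : (Unit → P) →ₗ[P] S := (Algebra.linearMap P S) ∘ₗ LinearMap.proj ()
  obtain ⟨J₀, hJ₀le, hJ₀fg, hJ₀⟩ := exists_fg_clear (LinearMap.ker ev)
  let I₀ : Ideal P := J₀.map (LinearMap.proj () : (Unit → P) →ₗ[P] P)
  have hI₀fg : I₀.FG := hJ₀fg.map _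
  have hI₀le : ∀ a ∈ I₀, π a = 0 := by
    rintro _ ⟨v, hv, rfl⟩
    exact hJ₀le hv
  let π₀ : (P ⧸ I₀) →ₐ[R] S := Ideal.Quotient.liftₐ I₀ π hI₀le
  have hπ₀s : Function.Surjective π₀ := fun y => by
    obtain ⟨v, rfl⟩ := hπ y; exact ⟨Ideal.Quotient.mk I₀ v, rfl⟩
  have hπ₀k : ∀ z, π₀.toLinearMap z = 0 → ∃ d : R, d ≠ 0 ∧ d • z = 0 := fun z hz => by
    obtain ⟨v, rfl⟩ := Ideal.Quotient.mk_surjective z
    obtain ⟨d, hd, hdv⟩ := hJ₀ (fun _ => v) hz
    refine ⟨d, hd, ?_⟩
    rw [← Ideal.Quotient.mkₐ_eq_mk R I₀, ← map_smul]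
    exact Ideal.Quotient.eq_zero_iff_mem.mpr ⟨_, hdv, rfl⟩
  haveI : Algebra.FinitePresentation R (P ⧸ I₀) := Algebra.FinitePresentation.quotient hI₀fg
  obtain ⟨f₂, hf₂, hk₂⟩ :=
    exists_kill (freeAway_of_finite (P ⧸ I₀) (P ⧸ I₀)) π₀.toLinearMap hπ₀k
  obtain ⟨f₃, hf₃, hfreeM⟩ := gen n R M
  obtain ⟨f₄, hf₄, hfreeS⟩ := gen n R S
  let f := f₁ * f₂ * f₃ * f₄
  have hu := IsLocalization.Away.algebraMap_isUnit (S := Localization.Away f) f
  simp only [f, map_mul, IsUnit.mul_iff] at hu
  refine ⟨f, by positivity, hfreeM _ hu.1.2, hfreeS _ hu.2, ?_, ?_⟩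
  · have hbij := bijective_baseChange π₀.toLinearMap hπ₀s hk₂ (Localization.Away f) hu.1.1.2
    have e : ⇑(Algebra.TensorProduct.map (AlgHom.id (Localization.Away f) (Localization.Away f)) π₀)
        = ⇑(π₀.toLinearMap.baseChange (Localization.Away f)) := funext fun w => by
      induction w using TensorProduct.induction_on with
      | zero => simp
      | tmul a b => simp
      | add a b ha hb => rw [map_add, map_add, ha, hb]
    let E := AlgEquiv.ofBijective
      (Algebra.TensorProduct.map (AlgHom.id (Localization.Away f) (Localization.Away f)) π₀)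
      (by rw [e]; exact hbij)
    exact Algebra.FinitePresentation.equiv (A := Localization.Away f ⊗[R] (P ⧸ I₀)) E
  · haveI : Module.FinitePresentation P ((Fin m → P) ⧸ N₀) :=
      Module.finitePresentation_of_surjective N₀.mkQ (Submodule.mkQ_surjective N₀)
        (by rw [Submodule.ker_mkQ]; exact hN₀fg)
    let p₁ : S ⊗[P] ((Fin m → P) ⧸ N₀) →ₗ[S] M := q.liftBaseChange S
    have hp₁s : Function.Surjective p₁ := fun y => by
      obtain ⟨v, rfl⟩ := hqs y
      exact ⟨1 ⊗ₜ v, by simp [p₁]⟩
    let g := algebraMap R S f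
    have hp₁k : ∀ w, p₁ w = 0 → ∃ k : ℕ, g ^ k • w = 0 := fun w hw => by
      obtain ⟨z, rfl⟩ := TensorProduct.mk_surjective P _ S hπ w
      have hz : q z = 0 := by simpa [p₁] using hw
      obtain ⟨k, hk⟩ := hk₁ z hz
      refine ⟨k, ?_⟩
      rw [← map_pow, algebraMap_smul]
      show f ^ k • ((1 : S) ⊗ₜ[P] z) = 0
      have hz' : f ^ k • z = 0 := by
        show (f₁ * f₂ * f₃ * f₄) ^ k • z = 0
        rw [show (f₁ * f₂ * f₃ * f₄) ^ k = (f₂ * f₃ * f₄) ^ k * f₁ ^ k by ring, mul_smul, hk,
          smul_zero]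
      rw [← algebraMap_smul P, ← TensorProduct.tmul_smul, algebraMap_smul, hz',
        TensorProduct.tmul_zero]
    let Lg := LocalizedModule.mkLinearMap (Submonoid.powers g) M
    haveI : IsLocalizedModule (Submonoid.powers g) (Lg ∘ₗ p₁) := by
      refine ⟨IsLocalizedModule.map_units Lg, fun y => ?_, fun {x₁ x₂} h => ?_⟩
      · obtain ⟨⟨v, t⟩, hvt⟩ := IsLocalizedModule.surj (Submonoid.powers g) Lg y
        obtain ⟨w, rfl⟩ := hp₁s v
        exact ⟨⟨w, t⟩, hvt⟩
      · obtain ⟨⟨_, a, rfl⟩, ha⟩ :=
          IsLocalizedModule.exists_of_eq (S := Submonoid.powers g) (f := Lg) h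
        have h0 : p₁ (g ^ a • (x₁ - x₂)) = 0 := by
          rw [map_smul, map_sub, smul_sub, sub_eq_zero]
          exact ha
        obtain ⟨k, hk⟩ := hp₁k _ h0
        refine ⟨⟨g ^ (k + a), k + a, rfl⟩, ?_⟩
        show g ^ (k + a) • x₁ = g ^ (k + a) • x₂
        refine sub_eq_zero.mp (Eq.trans ?_ hk)
        rw [smul_smul, ← pow_add]
        exact (smul_sub _ _ _).symm
    exact _root_.FinitePresentation.of_isBaseChange (Lg ∘ₗ p₁)
      ((isLocalizedModule_iff_isBaseChange (Submonoid.powers g) _ _).mp inferInstance)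

end Groth.Agent.Flat.GenericFree
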