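import Groth.Agent.Flat.Descent
import Groth.Agent.Flat.GenericFree
import Mathlib.RingTheory.Spectrum.Prime.Topology
import Mathlib.RingTheory.Ideal.Quotient.Noetherian

/-!
Flatness at a prime, and openness of the flat locus over Noetherian rings.
-/

set_option autoImplicit false

noncomputable section

namespace Groth.Agent.Flat.FlatAt

universe u

open scoped TensorProduct

/-- `M_q` is flat over `R`, expressed without localization -/
def FlatAt (R : Type u) {S : Type u} (M : Type u) [CommRing R] [CommRing S] [Algebra R S]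
    [AddCommGroup M] [Module R M] [Module S M] [IsScalarTower R S M] (q : Ideal S) : Prop :=
  ∀ ⦃P Q : Type u⦄ [AddCommGroup P] [Module R P] [AddCommGroup Q] [Module R Q] (f : P →ₗ[R] Q),
    Function.Injective f → ∀ x : M ⊗[R] P, f.lTensor M x = 0 → ∃ s, s ∉ q ∧ s • x = 0

variable {R S M : Type u} [CommRing R] [CommRing S] [Algebra R S] [AddCommGroup M] [Module R M]
  [Module S M] [IsScalarTower R S M]

section basic

variable (q : Ideal S) [q.IsPrime]

theorem flatAt_iff {L : Type u} [AddCommGroup L] [Module R L] [Module S L] [IsScalarTower R S L]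
    (ℓ : M →ₗ[S] L) [IsLocalizedModule q.primeCompl ℓ] : FlatAt R M q ↔ Module.Flat R L := by
  constructor
  · intro h
    rw [Module.Flat.iff_lTensor_injective']
    intro a
    exact Descent.lTensor_localized_injective q.primeCompl ℓ a.subtype
      (h a.subtype (Submodule.injective_subtype a))
  · intro h P Q _ _ _ _ f hf x hx
    exact Descent.exists_smul_eq_zero_of_injective q.primeCompl ℓ f
      (Module.Flat.lTensor_preserves_injective_linearMap f hf) hx

theorem flatAt_iff_localizedModule :
    FlatAt R M q ↔ Module.Flat R (LocalizedModule q.primeCompl M) :=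
  flatAt_iff q (LocalizedModule.mkLinearMap q.primeCompl M)

theorem flatAt_of_forall_ideal
    (h : ∀ (a : Ideal R) (x : M ⊗[R] a), a.subtype.lTensor M x = 0 → ∃ s, s ∉ q ∧ s • x = 0) :
    FlatAt R M q := by
  rw [flatAt_iff_localizedModule, Module.Flat.iff_lTensor_injective']
  exact fun a => Descent.lTensor_localized_injective q.primeCompl
    (LocalizedModule.mkLinearMap q.primeCompl M) a.subtype (h a)

end basic

theorem FlatAt.of_flat [Module.Flat R M] (q : Ideal S) (hq : q ≠ ⊤) : FlatAt R M q :=
  fun _ Q _ _ _ _ f hf x hx => ⟨1, fun h => hq ((Ideal.eq_top_iff_one q).mpr h), by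
    rw [Module.Flat.lTensor_preserves_injective_linearMap f hf
      (hx.trans (map_zero (f.lTensor M)).symm), smul_zero]⟩

theorem FlatAt.generalize {q q' : Ideal S} (h : FlatAt R M q) (hle : q' ≤ q) : FlatAt R M q' :=
  fun _ _ _ _ _ _ f hf x hx => (h f hf x hx).imp fun _ hs => ⟨fun h' => hs.1 (hle h'), hs.2⟩

theorem smul_map {N P : Type u} [AddCommGroup N] [Module R N] [Module S N] [IsScalarTower R S N]
    [AddCommGroup P] [Module R P] (u : M →ₗ[R] N) (φ : S → S)
    (hu : ∀ s m, u (s • m) = φ s • u m) (s : S) (x : M ⊗[R] P) :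
    u.rTensor P (s • x) = φ s • u.rTensor P x := by
  induction x using TensorProduct.induction_on with
  | zero => simp
  | add a b ha hb => simp only [smul_add, map_add, ha, hb]
  | tmul m p => simp [TensorProduct.smul_tmul', hu]

theorem FlatAt.of_linearEquiv {N : Type u} [AddCommGroup N] [Module R N] [Module S N]
    [IsScalarTower R S N] {q : Ideal S} (h : FlatAt R M q) (e : M ≃ₗ[S] N) : FlatAt R N q := by
  intro P Q _ _ _ _ f hf x hx
  obtain ⟨s, hs, hs0⟩ := h f hf ((e.symm.toLinearMap.restrictScalars R).rTensor P x) (by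
    rw [← LinearMap.comp_apply, LinearMap.lTensor_comp_rTensor, ← LinearMap.rTensor_comp_lTensor,
      LinearMap.comp_apply, hx, map_zero])
  refine ⟨s, hs, ?_⟩
  have := congrArg ((e.toLinearMap.restrictScalars R).rTensor P) hs0
  rw [map_zero, smul_map (N := N) (e.toLinearMap.restrictScalars R) id (fun s m => e.map_smul s m),
    ← LinearMap.rTensor_comp_apply] at this
  rwa [show (e.toLinearMap.restrictScalars R) ∘ₗ (e.symm.toLinearMap.restrictScalars R) =
    LinearMap.id from LinearMap.ext fun m => e.apply_symm_apply m, LinearMap.rTensor_id] at this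

/-- only the image of the coefficient ring in the endomorphisms matters -/
theorem flatAt_comap_iff {S' : Type u} [CommRing S'] [Algebra R S'] [Module S' M]
    [IsScalarTower R S' M] (π : S' →+* S) (hπ : Function.Surjective π)
    (hsmul : ∀ (s : S') (m : M), π s • m = s • m) (q : Ideal S) :
    FlatAt R M (q.comap π) ↔ FlatAt R M q := by
  have key : ∀ {P : Type u} [AddCommGroup P] [Module R P] (s : S') (x : M ⊗[R] P),
      π s • x = s • x := fun s x => by
    induction x using TensorProduct.induction_on with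
    | zero => simp
    | add a b ha hb => simp only [smul_add, ha, hb]
    | tmul m p => simp [TensorProduct.smul_tmul', hsmul]
  constructor
  · intro h P Q _ _ _ _ f hf x hx
    obtain ⟨s, hs, hs0⟩ := h f hf x hx
    exact ⟨π s, hs, (key s x).trans hs0⟩
  · intro h P Q _ _ _ _ f hf x hx
    obtain ⟨s, hs, hs0⟩ := h f hf x hx
    obtain ⟨s, rfl⟩ := hπ s
    exact ⟨s, hs, (key s x).symm.trans hs0⟩

section baseChange

variable {R' S' M' : Type u} [CommRing R'] [Algebra R R'] [CommRing S'] [Algebra R' S']
  [AddCommGroup M'] [Module R' M'] [Module S' M'] [IsScalarTower R' S' M'] [Module R M']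
  [IsScalarTower R R' M'] (φ : S →+* S') (j : M →ₗ[R] M') (hj : IsBaseChange R' j)
  (hφ : ∀ s m, j (s • m) = φ s • j m)
  {P : Type u} [AddCommGroup P] [Module R P] [Module R' P] [IsScalarTower R R' P]

/-- `M ⊗_R P ≅ M' ⊗_{R'} P` -/
def twist : M ⊗[R] P ≃ₗ[R] M' ⊗[R'] P :=
  (TensorProduct.comm R M P).trans
    (((TensorProduct.AlgebraTensorModule.cancelBaseChange R R' R' P M).symm.trans
      ((TensorProduct.AlgebraTensorModule.congr (LinearEquiv.refl R' P) hj.equiv).trans
        (TensorProduct.comm R' P M'))).restrictScalars R)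

theorem twist_tmul (m : M) (p : P) : twist j hj (m ⊗ₜ[R] p) = j m ⊗ₜ[R'] p := by
  simp [twist, IsBaseChange.equiv_tmul]

include hφ in
theorem twist_smul (s : S) (x : M ⊗[R] P) : twist j hj (s • x) = φ s • twist j hj x := by
  induction x using TensorProduct.induction_on with
  | zero => simp
  | add a b ha hb => simp only [smul_add, map_add, ha, hb]
  | tmul m p => simp [twist_tmul, TensorProduct.smul_tmul', hφ]

theorem twist_lTensor {Q : Type u} [AddCommGroup Q] [Module R Q] [Module R' Q]
    [IsScalarTower R R' Q] (f : P →ₗ[R'] Q) (x : M ⊗[R] P) :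
    twist j hj ((f.restrictScalars R).lTensor M x) = f.lTensor M' (twist j hj x) := by
  induction x using TensorProduct.induction_on with
  | zero => simp
  | add a b ha hb => simp only [map_add, ha, hb]
  | tmul m p => simp [twist_tmul]

include hj hφ in
theorem FlatAt.baseChange {q : Ideal S} (q' : Ideal S') [q'.IsPrime] (hq : q'.comap φ ≤ q)
    (h : FlatAt R M q) : FlatAt R' M' q' := by
  refine flatAt_of_forall_ideal q' fun a x hx => ?_
  obtain ⟨x, rfl⟩ := (twist j hj).surjective x
  rw [← twist_lTensor, map_eq_zero_iff _ (twist j hj).injective] at hx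
  obtain ⟨s, hs, hs0⟩ := h (a.subtype.restrictScalars R) (Submodule.injective_subtype a) x hx
  refine ⟨φ s, fun h' => hs (hq h'), ?_⟩
  rw [← twist_smul φ j hj hφ, hs0, map_zero]

include hj hφ in
theorem FlatAt.of_localization (T : Submonoid R) [IsLocalization T R'] {q' : Ideal S'}
    (q : Ideal S) [q.IsPrime] (hT : ∀ c ∈ T, algebraMap R S c ∉ q)
    (hS : ∀ s', s' ∉ q' → ∃ s, s ∉ q ∧ ∃ u : S', φ s = u * s')
    (h : FlatAt R' M' q') : FlatAt R M q := by
  refine flatAt_of_forall_ideal q fun a x hx => ?_
  haveI : Module.Flat R R' := IsLocalization.flat R' T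
  let mkA : a →ₗ[R] R' ⊗[R] a := TensorProduct.mk R R' a 1
  let mkR : R →ₗ[R] R' ⊗[R] R := TensorProduct.mk R R' R 1
  have hcomp : ∀ x, (a.subtype.baseChange R').restrictScalars R (mkA x) = mkR (a.subtype x) :=
    fun x => by simp [mkA, mkR]
  let x' := twist j hj (mkA.lTensor M x)
  have hx' : (a.subtype.baseChange R').lTensor M' x' = 0 := by
    rw [← twist_lTensor, ← LinearMap.lTensor_comp_apply,
      show (a.subtype.baseChange R').restrictScalars R ∘ₗ mkA = mkR ∘ₗ a.subtype from
        LinearMap.ext hcomp, LinearMap.lTensor_comp_apply, hx, map_zero, map_zero]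
  obtain ⟨s', hs', hs0⟩ := h (a.subtype.baseChange R')
    (Module.Flat.lTensor_preserves_injective_linearMap _ (Submodule.injective_subtype a)) x' hx'
  obtain ⟨s, hs, v, hv⟩ := hS s' hs'
  have h1 : mkA.lTensor M (s • x) = 0 := by
    have e : mkA.lTensor M (s • x) = s • mkA.lTensor M x := by
      clear hs0 hx' hx x'
      induction x using TensorProduct.induction_on with
      | zero => simp
      | add a b ha hb => simp only [smul_add, map_add, ha, hb]
      | tmul m p => simp [TensorProduct.smul_tmul']
    refine (twist (R' := R') (M' := M') j hj).injective ?_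
    rw [e, twist_smul φ j hj hφ, hv, mul_smul, hs0, smul_zero, map_zero]
  have h2 : TensorProduct.mk R R' (M ⊗[R] a) 1 (s • x) = 0 := by
    have e : ∀ z, TensorProduct.mk R R' (M ⊗[R] a) 1 z =
        TensorProduct.leftComm R M R' a (mkA.lTensor M z) := fun z => by
      induction z using TensorProduct.induction_on with
      | zero => simp
      | add u v hu hv => simp only [map_add, hu, hv]
      | tmul m p => simp [mkA]
    rw [e, h1, map_zero]
  obtain ⟨⟨c, hc⟩, hc0⟩ := (IsLocalizedModule.eq_zero_iff T
    (f := TensorProduct.mk R R' (M ⊗[R] a) 1)).mp h2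
  refine ⟨algebraMap R S c * s, fun h' => ?_, ?_⟩
  · exact (‹q.IsPrime›.mem_or_mem h').elim (hT c hc) hs
  · rw [mul_smul, algebraMap_smul]
    exact hc0

end baseChange

section noetherian

/-- a criterion for openness in Noetherian spectra -/
theorem isOpen_of_criterion [IsNoetherianRing S] (U : Set (PrimeSpectrum S))
    (hgen : ∀ x y : PrimeSpectrum S, x.asIdeal ≤ y.asIdeal → y ∈ U → x ∈ U)
    (h : ∀ x ∈ U, ∃ g ∉ x.asIdeal, ∀ y : PrimeSpectrum S, x.asIdeal ≤ y.asIdeal →
      g ∉ y.asIdeal → y ∈ U) : IsOpen U := by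
  suffices H : ∀ I : Ideal S, ∀ x ∈ U, I ≤ x.asIdeal → ∃ g ∉ x.asIdeal,
      ∀ y : PrimeSpectrum S, I ≤ y.asIdeal → g ∉ y.asIdeal → y ∈ U by
    rw [isOpen_iff_forall_mem_open]
    intro x hx
    obtain ⟨g, hg, hgU⟩ := H ⊥ x hx bot_le
    exact ⟨PrimeSpectrum.basicOpen g, fun y hy => hgU y bot_le hy,
      (PrimeSpectrum.basicOpen g).isOpen, hg⟩
  intro I
  induction I using WellFoundedGT.induction with
  | _ I ih =>
  intro x hx hIx
  by_cases hI : I.IsPrime
  · obtain ⟨g, hg, hgU⟩ := h ⟨I, hI⟩ (hgen _ x hIx hx)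
    by_cases hgx : g ∈ x.asIdeal
    · have hlt : I < I ⊔ Ideal.span {g} := left_lt_sup.mpr fun h' =>
        hg (h' (Ideal.mem_span_singleton_self g))
      obtain ⟨g', hg', hgU'⟩ := ih _ hlt x hx
        (sup_le hIx ((Ideal.span_singleton_le_iff_mem _).mpr hgx))
      refine ⟨g', hg', fun y hIy hy => ?_⟩
      by_cases hgy : g ∈ y.asIdeal
      · exact hgU' y (sup_le hIy ((Ideal.span_singleton_le_iff_mem _).mpr hgy)) hy
      · exact hgU y hIy hgy
    · exact ⟨g, hgx, fun y hIy hy => hgU y hIy hy⟩
  · have hne : I ≠ ⊤ := fun h' => x.isPrime.ne_top (top_le_iff.mp (h' ▸ hIx))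
    obtain ⟨a, ha, b, hb, hab⟩ := (Ideal.not_isPrime_iff.mp hI).resolve_left hne
    rcases x.isPrime.mem_or_mem (hIx hab) with hax | hbx
    · obtain ⟨g, hg, hgU⟩ := ih _ (left_lt_sup.mpr fun h' =>
        ha (h' (Ideal.mem_span_singleton_self a))) x hx
        (sup_le hIx ((Ideal.span_singleton_le_iff_mem _).mpr hax))
      by_cases hbx : b ∈ x.asIdeal
      · obtain ⟨g', hg', hgU'⟩ := ih _ (left_lt_sup.mpr fun h' =>
          hb (h' (Ideal.mem_span_singleton_self b))) x hx
          (sup_le hIx ((Ideal.span_singleton_le_iff_mem _).mpr hbx))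
        refine ⟨g * g', fun h' => (x.isPrime.mem_or_mem h').elim hg hg', fun y hIy hy => ?_⟩
        rcases y.isPrime.mem_or_mem (hIy hab) with hay | hby
        · exact hgU y (sup_le hIy ((Ideal.span_singleton_le_iff_mem _).mpr hay))
            fun h' => hy (y.asIdeal.mul_mem_right g' h')
        · exact hgU' y (sup_le hIy ((Ideal.span_singleton_le_iff_mem _).mpr hby))
            fun h' => hy (y.asIdeal.mul_mem_left g h')
      · refine ⟨g * b, fun h' => (x.isPrime.mem_or_mem h').elim hg hbx, fun y hIy hy => ?_⟩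
        rcases y.isPrime.mem_or_mem (hIy hab) with hay | hby
        · exact hgU y (sup_le hIy ((Ideal.span_singleton_le_iff_mem _).mpr hay))
            fun h' => hy (y.asIdeal.mul_mem_right b h')
        · exact absurd (y.asIdeal.mul_mem_left g hby) hy
    · by_cases hax : a ∈ x.asIdeal
      · obtain ⟨g, hg, hgU⟩ := ih _ (left_lt_sup.mpr fun h' =>
          ha (h' (Ideal.mem_span_singleton_self a))) x hx
          (sup_le hIx ((Ideal.span_singleton_le_iff_mem _).mpr hax))
        obtain ⟨g', hg', hgU'⟩ := ih _ (left_lt_sup.mpr fun h' =>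
          hb (h' (Ideal.mem_span_singleton_self b))) x hx
          (sup_le hIx ((Ideal.span_singleton_le_iff_mem _).mpr hbx))
        refine ⟨g * g', fun h' => (x.isPrime.mem_or_mem h').elim hg hg', fun y hIy hy => ?_⟩
        rcases y.isPrime.mem_or_mem (hIy hab) with hay | hby
        · exact hgU y (sup_le hIy ((Ideal.span_singleton_le_iff_mem _).mpr hay))
            fun h' => hy (y.asIdeal.mul_mem_right g' h')
        · exact hgU' y (sup_le hIy ((Ideal.span_singleton_le_iff_mem _).mpr hby))
            fun h' => hy (y.asIdeal.mul_mem_left g h')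
      · obtain ⟨g', hg', hgU'⟩ := ih _ (left_lt_sup.mpr fun h' =>
          hb (h' (Ideal.mem_span_singleton_self b))) x hx
          (sup_le hIx ((Ideal.span_singleton_le_iff_mem _).mpr hbx))
        refine ⟨a * g', fun h' => (x.isPrime.mem_or_mem h').elim hax hg', fun y hIy hy => ?_⟩
        rcases y.isPrime.mem_or_mem (hIy hab) with hay | hby
        · exact absurd (y.asIdeal.mul_mem_right g' hay) hy
        · exact hgU' y (sup_le hIy ((Ideal.span_singleton_le_iff_mem _).mpr hby))
            fun h' => hy (y.asIdeal.mul_mem_left a h')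

/-- elements killed by elements outside `q` are killed by one element outside `q` -/
theorem exists_smul_kill {N : Type u} [AddCommGroup N] [Module S N] (q : Ideal S) [q.IsPrime]
    (K : Submodule S N) (hK : K.FG) (h : ∀ x ∈ K, ∃ s, s ∉ q ∧ s • x = 0) :
    ∃ g, g ∉ q ∧ ∀ x ∈ K, g • x = 0 := by
  classical
  obtain ⟨t, rfl⟩ := hK
  choose! s hs hs0 using fun x (hx : x ∈ t) => h x (Submodule.subset_span hx)
  refine ⟨∏ x ∈ t, s x, fun h' => ?_, fun x hx => ?_⟩
  · obtain ⟨x, hx, hx'⟩ := Ideal.IsPrime.prod_mem_iff.mp h'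
    exact hs x hx hx'
  · induction hx using Submodule.span_induction with
    | mem x hx =>
      obtain ⟨d, hd⟩ := Finset.dvd_prod_of_mem s hx
      rw [hd, mul_comm, mul_smul, hs0 x hx, smul_zero]
    | zero => rw [smul_zero]
    | add a b _ _ ha hb => rw [smul_add, ha, hb, add_zero]
    | smul c a _ ha => rw [smul_comm, ha, smul_zero]

variable [IsNoetherianRing R] [IsNoetherianRing S] [Module.Finite S M]

theorem isOpen_flatLocus_noetherian [Algebra.FiniteType R S] :
    IsOpen {q : PrimeSpectrum S | FlatAt R M q.asIdeal} := by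
  refine isOpen_of_criterion _ (fun x y hle hy => hy.generalize hle) fun x hx => ?_
  classical
  let p := x.asIdeal.comap (algebraMap R S)
  let I := p.map (algebraMap R S)
  -- the module mod `p` is generically free
  letI : Module (R ⧸ p) (M ⧸ (I • ⊤ : Submodule S M)) :=
    Module.compHom _ (Ideal.quotientMap I (algebraMap R S) Ideal.le_comap_map)
  haveI : IsScalarTower (R ⧸ p) (S ⧸ I) (M ⧸ (I • ⊤ : Submodule S M)) :=
    IsScalarTower.of_algebraMap_smul fun c z => by
      obtain ⟨c, rfl⟩ := Ideal.Quotient.mk_surjective c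
      rfl
  haveI : IsScalarTower R (R ⧸ p) (M ⧸ (I • ⊤ : Submodule S M)) :=
    IsScalarTower.of_algebraMap_smul fun c z => by
      show (Ideal.Quotient.mk I (algebraMap R S c)) • z = c • z
      rw [← algebraMap_smul S c z]
      rfl
  haveI : Module.Finite (S ⧸ I) (M ⧸ (I • ⊤ : Submodule S M)) :=
    Module.Finite.of_restrictScalars_finite S _ _
  haveI : Algebra.FiniteType (R ⧸ p) (S ⧸ I) := Algebra.FiniteType.of_restrictScalars_finiteType R _ _
  obtain ⟨f, hf, hfree⟩ := GenericFree.freeAway_of_finite (R := R ⧸ p) (S ⧸ I)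
    (M ⧸ (I • ⊤ : Submodule S M))
  obtain ⟨f, rfl⟩ := Ideal.Quotient.mk_surjective f
  have hfp : algebraMap R S f ∉ x.asIdeal := fun h => hf (Ideal.Quotient.eq_zero_iff_mem.mpr h)
  -- the kernel of `p ⊗ M → M` vanishes near `x`
  haveI : Module.Finite R p := Module.Finite.iff_fg.mpr (IsNoetherian.noetherian p)
  haveI : Module.Finite S (M ⊗[R] p) := Criteria.finite_tensor p
  let μ : M ⊗[R] p →ₗ[S] M ⊗[R] R := TensorProduct.AlgebraTensorModule.lTensor S M p.subtype
  obtain ⟨g, hg, hgK⟩ := exists_smul_kill x.asIdeal (LinearMap.ker μ)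
    (IsNoetherian.noetherian _) (fun z hz => hx p.subtype (Submodule.injective_subtype p) z hz)
  refine ⟨g * algebraMap R S f, fun h => (x.isPrime.mem_or_mem h).elim hg hfp,
    fun y hxy hy => ?_⟩
  have hgy : g ∉ y.asIdeal := fun h => hy (y.asIdeal.mul_mem_right _ h)
  have hfy : algebraMap R S f ∉ y.asIdeal := fun h => hy (y.asIdeal.mul_mem_left g h)
  show FlatAt R M y.asIdeal
  rw [flatAt_iff_localizedModule]
  let Sy := Localization y.asIdeal.primeCompl
  let L := LocalizedModule y.asIdeal.primeCompl M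
  let ℓ : M →ₗ[S] L := LocalizedModule.mkLinearMap y.asIdeal.primeCompl M
  haveI : Module.Finite Sy L := Module.Finite.of_isLocalizedModule y.asIdeal.primeCompl ℓ
  haveI : IsNoetherianRing Sy :=
    IsLocalization.isNoetherianRing y.asIdeal.primeCompl Sy inferInstance
  refine Criteria.local_criterion (S := Sy) p ?_ ?_ ?_
  · refine le_trans ?_ (IsLocalRing.maximalIdeal_le_jacobson _)
    rw [IsScalarTower.algebraMap_eq R S Sy, ← Ideal.map_map]
    refine (Ideal.map_mono (Ideal.map_comap_le.trans hxy)).trans ?_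
    rw [Localization.AtPrime.map_eq_maximalIdeal]
  · rw [← LinearMap.lTensor_inj_iff_rTensor_inj]
    exact Descent.lTensor_localized_injective y.asIdeal.primeCompl ℓ p.subtype
      fun z hz => ⟨g, hgy, hgK z hz⟩
  · refine Descent.flat_baseChange_of_injective fun a => ?_
    refine Descent.lTensor_localized_injective y.asIdeal.primeCompl ℓ _ fun z hz => ?_
    let Rf := Localization.Away f
    let A := (R ⧸ p) ⊗[R] Rf
    have hu : IsUnit (algebraMap (R ⧸ p) A (Ideal.Quotient.mk p f)) := by
      have : IsUnit ((1 : R ⧸ p) ⊗ₜ[R] algebraMap R Rf f) :=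
        (IsLocalization.Away.algebraMap_isUnit f).map Algebra.TensorProduct.includeRight
      rwa [Algebra.algebraMap_eq_smul_one f, ← TensorProduct.smul_tmul, ← Algebra.algebraMap_eq_smul_one,
        ← Algebra.TensorProduct.algebraMap_apply] at this
    haveI := hfree A hu
    haveI : Module.Flat R Rf := IsLocalization.flat Rf (Submonoid.powers f)
    haveI : Module.Flat (R ⧸ p) (A ⊗[R ⧸ p] (M ⧸ (I • ⊤ : Submodule S M))) :=
      Module.Flat.trans (R ⧸ p) A _
    let e1 : ((R ⧸ p) ⊗[R] M) ≃ₗ[R ⧸ p] (M ⧸ (I • ⊤ : Submodule S M)) :=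
      LinearEquiv.extendScalarsOfSurjective Ideal.Quotient.mk_surjective
        ((TensorProduct.quotTensorEquivQuotSMul M p).trans
          (((Submodule.quotEquivOfEq _ _ (show p • (⊤ : Submodule R M) = ((p.map (algebraMap R S)) • (⊤ : Submodule S M)).restrictScalars R by rw [Ideal.smul_restrictScalars, Submodule.restrictScalars_top])).trans
            (Submodule.Quotient.restrictScalarsEquiv R _))))
    have hflat : Module.Flat (R ⧸ p) ((R ⧸ p) ⊗[R] (Rf ⊗[R] M)) :=
      Module.Flat.of_linearEquiv
        (((TensorProduct.AlgebraTensorModule.assoc R R (R ⧸ p) (R ⧸ p) Rf M).symm.trans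
          ((TensorProduct.AlgebraTensorModule.cancelBaseChange R (R ⧸ p) A A M).symm.restrictScalars
            (R ⧸ p))).trans
          ((TensorProduct.AlgebraTensorModule.congr (LinearEquiv.refl A A) e1).restrictScalars
            (R ⧸ p)))
    obtain ⟨c, ⟨k, rfl⟩, hck⟩ := Descent.exists_smul_eq_zero_of_injective (S := R)
      (Submonoid.powers f) (TensorProduct.mk R Rf M 1) (a.subtype.restrictScalars R)
      (LocalCriterion.lTensor_restrictScalars_injective hflat a.subtype
        (Submodule.injective_subtype a)) hz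
    refine ⟨algebraMap R S f ^ k, fun h => hfy (y.isPrime.mem_of_pow_mem k h), ?_⟩
    rw [← map_pow, algebraMap_smul]
    exact hck

end noetherian

end Groth.Agent.Flat.FlatAt
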