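import Groth.Agent.Flat.LocalCriterion
import Mathlib.RingTheory.Flat.Tensor
import Mathlib.RingTheory.Flat.FaithfullyFlat.Basic
import Mathlib.LinearAlgebra.TensorProduct.Quotient
import Mathlib.RingTheory.Jacobson.Ideal

/-!
Consequences of the local criterion of flatness.
-/

set_option autoImplicit false

noncomputable section

namespace Groth.Agent.Flat.Criteria

universe u

open scoped TensorProduct
open Groth.Agent.Flat.LocalCriterion

section transfer

variable {R S N : Type u} [CommRing R] [CommRing S] [Algebra R S] [AddCommGroup N] [Module R N]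
  [Module S N] [IsScalarTower R S N]

theorem mem_map_pow_smul (I : Ideal R) {k : ℕ} {x : N} (h : x ∈ I ^ k • (⊤ : Submodule R N)) :
    x ∈ I.map (algebraMap R S) ^ k • (⊤ : Submodule S N) := by
  refine Submodule.smul_induction_on h (fun r hr n _ => ?_) (fun p q hp hq => add_mem hp hq)
  rw [← algebraMap_smul S r n, ← Ideal.map_pow]
  exact Submodule.smul_mem_smul (Ideal.mem_map_of_mem _ hr) trivial

theorem eq_zero_of_forall_mem [IsNoetherianRing S] [Module.Finite S N] (I : Ideal R)
    (hI : I.map (algebraMap R S) ≤ Ideal.jacobson ⊥) {x : N}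
    (h : ∀ k, x ∈ I ^ k • (⊤ : Submodule R N)) : x = 0 := by
  have : x ∈ (⨅ k : ℕ, I.map (algebraMap R S) ^ k • ⊤ : Submodule S N) :=
    Submodule.mem_iInf _ |>.mpr fun k => mem_map_pow_smul I (h k)
  rwa [Ideal.iInf_pow_smul_eq_bot_of_le_jacobson _ hI, Submodule.mem_bot] at this

theorem finite_tensor (P : Type u) [AddCommGroup P] [Module R P] [Module.Finite R P]
    [Module.Finite S N] : Module.Finite S (N ⊗[R] P) := by
  obtain ⟨n, f, hf⟩ := Module.Finite.exists_fin' R P
  refine Module.Finite.of_surjective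
    ((TensorProduct.AlgebraTensorModule.map (LinearMap.id : N →ₗ[S] N) f) ∘ₗ
      (TensorProduct.piScalarRight R S N (Fin n)).symm.toLinearMap) ?_
  rw [LinearMap.coe_comp, LinearEquiv.coe_coe]
  refine Function.Surjective.comp ?_ (LinearEquiv.surjective _)
  exact LinearMap.lTensor_surjective N hf

theorem flat_of_ker_le_pow [IsNoetherianRing R] [IsNoetherianRing S] [Module.Finite S N]
    (I : Ideal R) (hI : I.map (algebraMap R S) ≤ Ideal.jacobson ⊥)
    (hinj : ∀ (a : Ideal R) (n : ℕ), Function.Injective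
      (((a.map (Ideal.Quotient.mk (I ^ n))).restrictScalars R).subtype.lTensor N)) :
    Module.Flat R N := by
  rw [Module.Flat.iff_lTensor_injective']
  intro a
  rw [injective_iff_map_eq_zero]
  intro x hx
  haveI : Module.Finite R a := Module.Finite.iff_fg.mpr (IsNoetherian.noetherian a)
  haveI : Module.Finite S (N ⊗[R] a) := finite_tensor a
  exact eq_zero_of_forall_mem (S := S) I hI fun k => ker_le_pow_smul I a (hinj a) hx k

/-- local criterion of flatness -/
theorem local_criterion [IsNoetherianRing R] [IsNoetherianRing S] [Module.Finite S N]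
    (I : Ideal R) (hI : I.map (algebraMap R S) ≤ Ideal.jacobson ⊥)
    (h1 : Function.Injective (I.subtype.rTensor N))
    (h2 : Module.Flat (R ⧸ I) ((R ⧸ I) ⊗[R] N)) : Module.Flat R N := by
  refine flat_of_ker_le_pow (S := S) I hI fun a n => ?_
  let J : Submodule R (R ⧸ I ^ n) := (a.map (Ideal.Quotient.mk (I ^ n))).restrictScalars R
  refine (torZero_of_killed_pow I h1 h2 n ((R ⧸ I ^ n) ⧸ J) fun r hr x => ?_).lTensor_injective
    (Submodule.injective_subtype J) (LinearMap.exact_subtype_mkQ J) (Submodule.mkQ_surjective J)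
  obtain ⟨x, rfl⟩ := Submodule.mkQ_surjective J x
  obtain ⟨y, rfl⟩ := Ideal.Quotient.mk_surjective x
  have : r • Ideal.Quotient.mk (I ^ n) y = 0 :=
    Ideal.Quotient.eq_zero_iff_mem.mpr (Ideal.mul_mem_right y _ hr)
  rw [← map_smul, this, map_zero]

end transfer

section injectiveMod

variable {R S : Type u} [CommRing R] [CommRing S] [Algebra R S]
  {N M : Type u} [AddCommGroup N] [Module R N] [Module S N] [IsScalarTower R S N]
  [AddCommGroup M] [Module R M]

/-- multiplication of an ideal into a module -/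
def mu (I : Ideal R) (P : Type u) [AddCommGroup P] [Module R P] : I ⊗[R] P →ₗ[R] P :=
  (TensorProduct.lid R P).toLinearMap ∘ₗ I.subtype.rTensor P

theorem mu_tmul (I : Ideal R) (P : Type u) [AddCommGroup P] [Module R P] (r : I) (p : P) :
    mu I P (r ⊗ₜ p) = (r : R) • p := by simp [mu]

theorem mu_mem (I J : Ideal R) (P : Type u) [AddCommGroup P] [Module R P] (W : Submodule R I)
    (hW : ∀ w ∈ W, (w : R) ∈ J) (y : W ⊗[R] P) :
    mu I P (W.subtype.rTensor P y) ∈ J • (⊤ : Submodule R P) := by
  induction y using TensorProduct.induction_on with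
  | zero => simp
  | add p q hp hq => rw [map_add, map_add]; exact add_mem hp hq
  | tmul w p =>
    rw [LinearMap.rTensor_tmul, mu_tmul]
    exact Submodule.smul_mem_smul (hW _ w.2) trivial

theorem exists_mu_eq (I : Ideal R) {P : Type u} [AddCommGroup P] [Module R P] {x : P}
    (h : x ∈ I • (⊤ : Submodule R P)) : ∃ z, mu I P z = x := by
  refine Submodule.smul_induction_on h (fun r hr p _ => ⟨⟨r, hr⟩ ⊗ₜ p, mu_tmul _ _ _ _⟩) ?_
  rintro p q ⟨z, rfl⟩ ⟨w, rfl⟩
  exact ⟨z + w, map_add _ _ _⟩

variable [Module.Flat R M] (u : N →ₗ[R] M) (m : Ideal R) [m.IsMaximal]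

theorem comap_smul_le_step (hu : Function.Injective (u.lTensor (R ⧸ m))) (a : Ideal R) (k : ℕ)
    {x : N} (hx : x ∈ m ^ k • (⊤ : Submodule R N)) (hux : u x ∈ a • (⊤ : Submodule R M)) :
    x ∈ m ^ (k + 1) • ⊤ ⊔ a • (⊤ : Submodule R N) := by
  obtain ⟨z, rfl⟩ := exists_mu_eq _ hx
  let W : Submodule R ↥(m ^ k) :=
    Submodule.comap (m ^ k).subtype (m ^ (k + 1) ⊔ a)
  let q := W.mkQ
  have hk : ∀ r ∈ m, ∀ v : ↥(m ^ k) ⧸ W, r • v = 0 := by
    intro r hr v
    obtain ⟨v, rfl⟩ := Submodule.mkQ_surjective W v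
    rw [← map_smul, Submodule.mkQ_apply, Submodule.Quotient.mk_eq_zero]
    show r * (v : R) ∈ m ^ (k + 1) ⊔ a
    exact Ideal.mem_sup_left (by rw [pow_succ']; exact Ideal.mul_mem_mul hr v.2)
  let q₀ : ↥(m ^ k) →ₗ[R] R ⧸ a := a.mkQ ∘ₗ (m ^ k).subtype
  have hw : q₀.rTensor M (u.lTensor _ z) = 0 := by
    have e : ∀ t : ↥(m ^ k) ⊗[R] N,
        q₀.rTensor M (u.lTensor _ t) = (1 : R ⧸ a) ⊗ₜ[R] u (mu _ N t) := by
      intro t
      induction t using TensorProduct.induction_on with
      | zero => simp
      | add p q hp hq => simp only [map_add, hp, hq, TensorProduct.tmul_add]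
      | tmul r n =>
        rw [LinearMap.lTensor_tmul, LinearMap.rTensor_tmul, mu_tmul, map_smul,
          ← TensorProduct.smul_tmul]
        congr 1
        show Ideal.Quotient.mk a r = Ideal.Quotient.mk a ((r : R) * 1)
        rw [mul_one]
    rw [e]
    refine Submodule.smul_induction_on hux (fun r hr p _ => ?_) (fun p q hp hq => ?_)
    · rw [← TensorProduct.smul_tmul]
      have : r • (1 : R ⧸ a) = 0 :=
        (show Ideal.Quotient.mk a (r * 1) = 0 by rw [mul_one, Ideal.Quotient.eq_zero_iff_mem]; exact hr)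
      rw [this, TensorProduct.zero_tmul]
    · rw [TensorProduct.tmul_add, hp, hq, add_zero]
  obtain ⟨y, hy⟩ :=
    (Module.Flat.rTensor_exact M (LinearMap.exact_subtype_ker_map q₀) _).mp hw
  have h0 : q.rTensor N z = 0 := by
    have ht : Module.IsTorsionBySet R (↥(m ^ k) ⧸ W) m := fun v r => hk r.1 r.2 v
    letI := ht.module
    haveI : IsScalarTower R (R ⧸ m) (↥(m ^ k) ⧸ W) := ⟨fun r b v => by
      obtain ⟨b, rfl⟩ := Ideal.Quotient.mk_surjective b
      show (Ideal.Quotient.mk m (r * b)) • v = r • (Ideal.Quotient.mk m b) • v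
      simp [mul_smul]⟩
    haveI : Module.Flat (R ⧸ m) (↥(m ^ k) ⧸ W) := by
      letI := Ideal.Quotient.field m
      exact Module.Flat.of_free
    have hinj : Function.Injective (u.lTensor (↥(m ^ k) ⧸ W)) := by
      intro s t hst
      obtain ⟨s, rfl⟩ := (TensorProduct.AlgebraTensorModule.cancelBaseChange R (R ⧸ m) (R ⧸ m)
        (↥(m ^ k) ⧸ W) N).surjective s
      obtain ⟨t, rfl⟩ := (TensorProduct.AlgebraTensorModule.cancelBaseChange R (R ⧸ m) (R ⧸ m)
        (↥(m ^ k) ⧸ W) N).surjective t
      rw [← cancel_lTensor, ← cancel_lTensor] at hst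
      exact congrArg _ (Module.Flat.lTensor_preserves_injective_linearMap (u.baseChange (R ⧸ m)) hu
        ((LinearEquiv.injective _) hst))
    refine hinj ?_
    rw [map_zero, ← LinearMap.comp_apply, LinearMap.lTensor_comp_rTensor,
      ← LinearMap.rTensor_comp_lTensor, LinearMap.comp_apply, ← hy, ← LinearMap.comp_apply,
      ← LinearMap.rTensor_comp]
    have : q ∘ₗ (LinearMap.ker q₀).subtype = 0 := by
      refine LinearMap.ext fun v => (Submodule.Quotient.mk_eq_zero W).mpr ?_
      exact Ideal.mem_sup_right (Ideal.Quotient.eq_zero_iff_mem.mp v.2)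
    rw [this, LinearMap.rTensor_zero, LinearMap.zero_apply]
  obtain ⟨y, rfl⟩ := (rTensor_exact N (LinearMap.exact_subtype_mkQ W)
    (Submodule.mkQ_surjective W) z).mp h0
  rw [← Submodule.sup_smul]
  exact mu_mem _ _ N W (fun w hw => hw) y

theorem comap_smul_le [IsNoetherianRing S] [Module.Finite S N]
    (hm : m.map (algebraMap R S) ≤ Ideal.jacobson ⊥)
    (hu : Function.Injective (u.lTensor (R ⧸ m))) (a : Ideal R) :
    (a • (⊤ : Submodule R M)).comap u ≤ a • (⊤ : Submodule R N) := by
  intro x hx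
  let T : Submodule S N := a.map (algebraMap R S) • ⊤
  have hT : ∀ y, y ∈ a • (⊤ : Submodule R N) ↔ y ∈ T := fun y =>
    ((Submodule.restrictScalars_mem R T y).symm.trans
      (by simp only [T, Ideal.smul_top_eq_map, Ideal.smul_restrictScalars,
        Submodule.restrictScalars_top])).symm
  have hk : ∀ k, x ∈ m ^ k • ⊤ ⊔ a • (⊤ : Submodule R N) := by
    intro k
    induction k with
    | zero => simp
    | succ k ih =>
      obtain ⟨y, hy, w, hw, rfl⟩ := Submodule.mem_sup.mp ih
      have hux : u y ∈ a • (⊤ : Submodule R M) := by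
        have hw' : u w ∈ a • (⊤ : Submodule R M) := by
          refine Submodule.smul_induction_on hw (fun r hr n _ => ?_) (fun p q hp hq => ?_)
          · rw [map_smul]; exact Submodule.smul_mem_smul hr trivial
          · rw [map_add]; exact add_mem hp hq
        have := sub_mem (show u (y + w) ∈ a • (⊤ : Submodule R M) from hx) hw'
        rwa [map_add, add_sub_cancel_right] at this
      exact add_mem (comap_smul_le_step u m hu a k hy hux) (Submodule.mem_sup_right hw)
  refine (hT x).mpr ((Submodule.Quotient.mk_eq_zero T).mp ?_)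
  refine eq_zero_of_forall_mem (S := S) (N := N ⧸ T) m hm fun k => ?_
  obtain ⟨y, hy, w, hw, rfl⟩ := Submodule.mem_sup.mp (hk k)
  rw [Submodule.Quotient.mk_add, (Submodule.Quotient.mk_eq_zero T).mpr ((hT w).mp hw), add_zero]
  refine Submodule.smul_induction_on hy (fun r hr n _ => ?_) (fun p q hp hq => ?_)
  · rw [Submodule.Quotient.mk_smul]
    exact Submodule.smul_mem_smul hr trivial
  · rw [Submodule.Quotient.mk_add]; exact add_mem hp hq

theorem lTensor_quot_injective (a : Ideal R)
    (h : (a • (⊤ : Submodule R M)).comap u ≤ a • (⊤ : Submodule R N)) :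
    Function.Injective (u.lTensor (R ⧸ a)) := by
  rw [injective_iff_map_eq_zero]
  intro t ht
  obtain ⟨x, rfl⟩ := TensorProduct.mk_surjective R N (R ⧸ a) Ideal.Quotient.mk_surjective t
  rw [TensorProduct.mk_apply, LinearMap.lTensor_tmul] at ht
  rw [TensorProduct.mk_apply]
  have e : ∀ (P : Type u) [AddCommGroup P] [Module R P] (p : P),
      (1 : R ⧸ a) ⊗ₜ[R] p = 0 ↔ p ∈ a • (⊤ : Submodule R P) := by
    intro P _ _ p
    have e1 : TensorProduct.quotTensorEquivQuotSMul P a ((1 : R ⧸ a) ⊗ₜ[R] p) =
        Submodule.Quotient.mk p :=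
      (TensorProduct.quotTensorEquivQuotSMul_mk_tmul a (1 : R) p).trans (by rw [one_smul])
    rw [← LinearEquiv.map_eq_zero_iff (TensorProduct.quotTensorEquivQuotSMul P a), e1,
      Submodule.Quotient.mk_eq_zero]
  exact (e N x).mpr (h ((e M _).mp ht))

theorem injective_and_flat_quotient [IsNoetherianRing S] [Module.Finite S N]
    (hm : m.map (algebraMap R S) ≤ Ideal.jacobson ⊥)
    (hu : Function.Injective (u.lTensor (R ⧸ m))) :
    Function.Injective u ∧ Module.Flat R (M ⧸ LinearMap.range u) := by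
  have hinj : Function.Injective u := by
    rw [injective_iff_map_eq_zero]
    intro x hx
    have := comap_smul_le (S := S) u m hm hu ⊥ (x := x)
      (by rw [Submodule.mem_comap, hx]; exact zero_mem _)
    rwa [Submodule.bot_smul, Submodule.mem_bot] at this
  refine ⟨hinj, Module.Flat.iff_lTensor_injective'.mpr fun a => ?_⟩
  have h := lTensor_quot_injective u a (comap_smul_le (S := S) u m hm hu a)
  rw [LinearMap.lTensor_inj_iff_rTensor_inj] at h
  exact lTensor_injective_of_exact_of_exact_of_rTensor_injective (M₂ := M)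
    (f₁ := u) (f₂ := (LinearMap.range u).mkQ) (g₁ := a.subtype) (g₂ := a.mkQ)
    (LinearMap.exact_map_mkQ_range u) (Submodule.mkQ_surjective _)
    (LinearMap.exact_subtype_mkQ a) (Submodule.mkQ_surjective a) h
    (Module.Flat.lTensor_preserves_injective_linearMap _ (Submodule.injective_subtype _))

end injectiveMod

end Groth.Agent.Flat.Criteria
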