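import Groth.Agent.Flat.FibreCriterion
import Groth.Agent.Mor.Cancel
import Mathlib.AlgebraicGeometry.Morphisms.Flat
import Mathlib.AlgebraicGeometry.Morphisms.FormallyUnramified
import Mathlib.AlgebraicGeometry.Morphisms.SmoothFiber
import Mathlib.AlgebraicGeometry.Morphisms.FlatMono
import Mathlib.AlgebraicGeometry.Morphisms.UniversallyInjective
import Mathlib.AlgebraicGeometry.Morphisms.Etale
import Mathlib.RingTheory.Kaehler.TensorProduct
import Mathlib.RingTheory.LocalRing.Module

/-!
Morphisms over a base which are flat, resp. unramified, on every fibre.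
-/

set_option autoImplicit false
set_option backward.isDefEq.respectTransparency false

noncomputable section

universe u

namespace Groth.Agent.Flat.FibreScheme

open scoped TensorProduct
open AlgebraicGeometry CategoryTheory CategoryTheory.Limits
open FlatAt FibreCriterion

section algebra

attribute [local instance] Algebra.TensorProduct.rightAlgebra

/-- elements killed by `p` which die in `κ(p) ⊗ N` are torsion -/
theorem exists_smul_eq_zero_of_one_tmul {R N : Type u} [CommRing R] [AddCommGroup N] [Module R N]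
    (p : Ideal R) [p.IsPrime] (hN : ∀ a ∈ p, ∀ x : N, a • x = 0) (x : N)
    (h : (1 : p.ResidueField) ⊗ₜ[R] x = 0) : ∃ t, t ∉ p ∧ t • x = 0 := by
  by_contra hne
  push Not at hne
  let ι : (R ⧸ p) →ₗ[R] N := Submodule.liftQ p (LinearMap.toSpanSingleton R N x)
    fun a ha => LinearMap.mem_ker.mpr (hN a ha x)
  have hι : Function.Injective ι := by
    rw [injective_iff_map_eq_zero]
    intro z hz
    obtain ⟨c, rfl⟩ := Ideal.Quotient.mk_surjective z
    refine Ideal.Quotient.eq_zero_iff_mem.mpr ?_
    by_contra hc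
    exact hne c hc hz
  have hinj := flat_residueField_lTensor_injective (A := R) p ι hι
    (fun a ha z => by
      obtain ⟨c, rfl⟩ := Ideal.Quotient.mk_surjective z
      refine Ideal.Quotient.eq_zero_iff_mem.mpr ?_
      exact Ideal.mul_mem_right c p ha)
    (fun a ha z => hN a ha z)
  have h0 : (1 : p.ResidueField) ⊗ₜ[R] (1 : R ⧸ p) = 0 := hinj (by
    rw [map_zero, LinearMap.lTensor_tmul, show ι (1 : R ⧸ p) = (1 : R) • x from rfl, one_smul, h])
  have h1 := congrArg ((p.liftQ (Algebra.linearMap R p.ResidueField) fun a ha =>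
    LinearMap.mem_ker.mpr (Ideal.algebraMap_residueField_eq_zero.mpr ha)).liftBaseChange
      p.ResidueField) h0
  rw [map_zero, LinearMap.liftBaseChange_one_tmul] at h1
  exact one_ne_zero ((map_one (algebraMap R p.ResidueField)).symm.trans h1)

variable {R B C : Type u} [CommRing R] [CommRing B] [CommRing C] [Algebra R B] [Algebra B C]
  [Algebra R C] [IsScalarTower R B C]

/-- flatness of the fibre gives the fibre condition -/
theorem flatAtKilled_of_fibre {M : Type u} [AddCommGroup M] [Module R M] [Module B M] [Module C M]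
    [IsScalarTower R B M] [IsScalarTower B C M]
    (p : Ideal R) [p.IsPrime] (q : Ideal C) (hq : q.comap (algebraMap R C) = p)
    (h : Module.Flat (B ⊗[R] p.ResidueField) ((B ⊗[R] p.ResidueField) ⊗[B] M)) :
    FlatAtKilled B M (p.map (algebraMap R B)) q := by
  intro P Q _ _ _ _ f hf hP hQ x hx
  letI : Module R P := Module.compHom P (algebraMap R B)
  haveI : IsScalarTower R B P := IsScalarTower.of_algebraMap_smul fun _ _ => rfl
  letI : Module R Q := Module.compHom Q (algebraMap R B)
  haveI : IsScalarTower R B Q := IsScalarTower.of_algebraMap_smul fun _ _ => rfl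
  haveI : IsScalarTower R C M := IsScalarTower.of_algebraMap_smul fun r m => by
    rw [IsScalarTower.algebraMap_apply R B C, algebraMap_smul, algebraMap_smul]
  let κ := p.ResidueField
  let K := B ⊗[R] κ
  haveI : Algebra.IsPushout R κ B K := Algebra.IsPushout.symm inferInstance
  let eP : K ⊗[B] P ≃ₗ[κ] κ ⊗[R] P := Algebra.IsPushout.cancelBaseChange R κ B K P
  let eQ : K ⊗[B] Q ≃ₗ[κ] κ ⊗[R] Q := Algebra.IsPushout.cancelBaseChange R κ B K Q
  have hf' : Function.Injective (f.baseChange K) := by
    have hκ := flat_residueField_lTensor_injective (A := R) p (f.restrictScalars R) hf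
      (fun a ha z => hP _ (Ideal.mem_map_of_mem _ ha) z)
      (fun a ha z => hQ _ (Ideal.mem_map_of_mem _ ha) z)
    have key : ∀ z, eQ (f.baseChange K z) = (f.restrictScalars R).lTensor κ (eP z) := fun z => by
      obtain ⟨z, rfl⟩ := eP.symm.surjective z
      rw [LinearEquiv.apply_symm_apply]
      induction z using TensorProduct.induction_on with
      | zero => simp
      | add a b ha hb => simp only [map_add, ha, hb]
      | tmul k v =>
        refine eQ.symm.injective ?_
        simp [eP, eQ, Algebra.IsPushout.cancelBaseChange_symm_tmul]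
    intro a b hab
    refine eP.injective (hκ ?_)
    rw [← key, ← key, hab]
  let mkP : P →ₗ[B] K ⊗[B] P := TensorProduct.mk B K P 1
  have hx' : mkP.lTensor M x = 0 := by
    refine LocalCriterion.lTensor_restrictScalars_injective h (f.baseChange K) hf' ?_
    rw [map_zero, ← LinearMap.lTensor_comp_apply,
      show (f.baseChange K).restrictScalars B ∘ₗ mkP = TensorProduct.mk B K Q 1 ∘ₗ f from
        LinearMap.ext fun v => by simp [mkP],
      LinearMap.lTensor_comp_apply, hx, map_zero]
  have key : ∀ z, TensorProduct.leftComm B K M P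
      ((Algebra.IsPushout.cancelBaseChange R κ B K (M ⊗[B] P)).symm (1 ⊗ₜ z)) =
      mkP.lTensor M z := fun z => by
    induction z using TensorProduct.induction_on with
    | zero => simp
    | add a b ha hb => simp only [TensorProduct.tmul_add, map_add, ha, hb]
    | tmul m v => simp [mkP, Algebra.IsPushout.cancelBaseChange_symm_tmul]
  have h1 : (1 : κ) ⊗ₜ[R] x = 0 := by
    refine (Algebra.IsPushout.cancelBaseChange R κ B K (M ⊗[B] P)).symm.injective
      ((TensorProduct.leftComm B K M P).injective ?_)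
    rw [key, hx', map_zero, map_zero]
  obtain ⟨t, ht, ht0⟩ := exists_smul_eq_zero_of_one_tmul p (fun a ha z => by
    induction z using TensorProduct.induction_on with
    | zero => simp
    | add u v hu hv => rw [smul_add, hu, hv, add_zero]
    | tmul m v =>
      rw [← algebraMap_smul B a (m ⊗ₜ[B] v), ← TensorProduct.tmul_smul,
        hP _ (Ideal.mem_map_of_mem _ ha) v, TensorProduct.tmul_zero]) x h1
  refine ⟨algebraMap R C t, fun h' => ht (hq ▸ h'), ?_⟩
  rw [algebraMap_smul]
  exact ht0

/-- right and left base change agree -/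
theorem flat_baseChange_of_includeRight (K : Type u) [CommRing K] [Algebra B K]
    (h : (Algebra.TensorProduct.includeRight (R := B) (A := C) (B := K)).toRingHom.Flat) :
    Module.Flat K (K ⊗[B] C) := by
  haveI : Module.Flat K (C ⊗[B] K) := h
  let e := TensorProduct.comm B C K
  refine Module.Flat.of_linearEquiv (M := C ⊗[B] K)
    (LinearEquiv.symm { e.toAddEquiv with map_smul' := fun k z => ?_ })
  show e (k • z) = k • e z
  induction z using TensorProduct.induction_on with
  | zero => simp
  | add a b ha hb => rw [smul_add, map_add, ha, hb, map_add, smul_add]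
  | tmul c k' =>
    rw [Algebra.smul_def]
    show e ((1 : C) ⊗ₜ[B] k * c ⊗ₜ[B] k') = k • (k' ⊗ₜ[B] c)
    rw [Algebra.TensorProduct.tmul_mul_tmul, one_mul, TensorProduct.smul_tmul', smul_eq_mul]
    rfl

/-- a finite type algebra with unramified fibres is unramified -/
theorem formallyUnramified_of_fibre_rings [Algebra.EssFiniteType B C]
    (h : ∀ (p : Ideal R) [p.IsPrime], (Algebra.TensorProduct.includeRight
      (R := B) (A := C) (B := B ⊗[R] p.ResidueField)).toRingHom.FormallyUnramified) :
    Algebra.FormallyUnramified B C := by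
  refine ⟨?_⟩
  rw [← Module.support_eq_empty_iff (R := C)]
  refine Set.eq_empty_iff_forall_notMem.mpr fun q hq => ?_
  rw [Module.mem_support_iff_nontrivial_residueField_tensorProduct] at hq
  let p := q.asIdeal.comap (algebraMap R C)
  let κ := p.ResidueField
  let K := B ⊗[R] κ
  haveI : Algebra.IsPushout B K C (C ⊗[B] K) := Algebra.IsPushout.symm inferInstance
  have hsub : Subsingleton ((C ⊗[B] K) ⊗[C] Ω[C⁄B]) := by
    haveI : Algebra.FormallyUnramified K (C ⊗[B] K) := h p
    exact (KaehlerDifferential.tensorKaehlerEquiv B K C (C ⊗[B] K)).toEquiv.subsingleton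
  let ι : B →ₐ[R] q.asIdeal.ResidueField := (IsScalarTower.toAlgHom R B q.asIdeal.ResidueField)
  let ψ : K →ₐ[B] q.asIdeal.ResidueField := Algebra.TensorProduct.lift (Algebra.ofId B _)
    (Ideal.ResidueField.mapₐ p q.asIdeal (Algebra.ofId R C) rfl |>.restrictScalars R)
    fun _ _ => .all _ _
  let ω : (C ⊗[B] K) →ₐ[C] q.asIdeal.ResidueField :=
    Algebra.TensorProduct.lift (Algebra.ofId C _) ψ fun _ _ => .all _ _
  refine not_subsingleton_iff_nontrivial.mpr hq (subsingleton_of_forall_eq 0 fun z => ?_)
  induction z using TensorProduct.induction_on with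
  | zero => rfl
  | add a b ha hb => rw [ha, hb, add_zero]
  | tmul k w =>
    have e : (1 : q.asIdeal.ResidueField) ⊗ₜ[C] w = 0 := by
      have := congrArg (ω.toLinearMap.rTensor Ω[C⁄B]) (Subsingleton.elim ((1 : C ⊗[B] K) ⊗ₜ[C] w) 0)
      rwa [map_zero, LinearMap.rTensor_tmul, AlgHom.toLinearMap_apply, map_one] at this
    rw [← mul_one k, ← smul_eq_mul, ← TensorProduct.smul_tmul', e, smul_zero]

end algebra

section scheme

attribute [local instance] Algebra.TensorProduct.rightAlgebra

/-- a property of a base change of `f`, read off on affine charts -/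
theorem property_chart {P : MorphismProperty Scheme.{u}}
    {Q : ∀ {R S : Type u} [CommRing R] [CommRing S], (R →+* S) → Prop} [HasRingHomProperty P Q]
    {X Y : Scheme.{u}} (f : X ⟶ Y) {V : Y.Opens} (hV : IsAffineOpen V) {W : X.Opens}
    (hW : IsAffineOpen W) (eW : W ≤ f ⁻¹ᵁ V) (K : Type u) [CommRing K] [Algebra Γ(Y, V) K]
    (h1 : P (pullback.snd f
      (Spec.map (CommRingCat.ofHom (algebraMap Γ(Y, V) K)) ≫ hV.fromSpec))) :
    letI := (f.appLE V W eW).hom.toAlgebra
    Q (Algebra.TensorProduct.includeRight (R := Γ(Y, V)) (A := Γ(X, W)) (B := K)).toRingHom := by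
  letI := (f.appLE V W eW).hom.toAlgebra
  let kb : Spec (.of K) ⟶ Y :=
    Spec.map (CommRingCat.ofHom (algebraMap Γ(Y, V) K)) ≫ hV.fromSpec
  let T := Γ(X, W) ⊗[Γ(Y, V)] K
  let L : Spec (.of T) ⟶ Spec Γ(X, W) :=
    Spec.map (CommRingCat.ofHom Algebra.TensorProduct.includeLeftRingHom)
  let R' : Spec (.of T) ⟶ Spec (.of K) :=
    Spec.map (CommRingCat.ofHom Algebra.TensorProduct.includeRight.toRingHom)
  have sq : IsPullback L R' (Spec.map (f.appLE V W eW))
      (Spec.map (CommRingCat.ofHom (algebraMap Γ(Y, V) K))) := by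
    refine (IsPullback.of_hasPullback _ _).of_iso
      (pullbackSpecIso Γ(Y, V) Γ(X, W) K) (Iso.refl _) (Iso.refl _) (Iso.refl _) ?_ ?_ ?_ ?_
    · rw [Iso.refl_hom, Category.comp_id]
      exact (pullbackSpecIso_hom_fst' Γ(Y, V) Γ(X, W) K).symm
    · rw [Iso.refl_hom, Category.comp_id]
      exact (pullbackSpecIso_hom_snd Γ(Y, V) Γ(X, W) K).symm
    · simp [RingHom.algebraMap_toAlgebra]
    · simp
  have sq' : IsPullback L R' (Spec.map (f.appLE V W eW) ≫ hV.fromSpec) kb :=
    IsPullback.of_isLimit' ⟨sq.w_assoc hV.fromSpec⟩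
      (PullbackCone.IsLimit.mk _
        (fun c => sq.lift c.fst c.snd ((cancel_mono hV.fromSpec).mp (by
          simpa only [Category.assoc] using c.condition)))
        (fun c => sq.lift_fst _ _ _) (fun c => sq.lift_snd _ _ _)
        (fun c m hm₁ hm₂ => sq.hom_ext (hm₁.trans (sq.lift_fst _ _ _).symm)
          (hm₂.trans (sq.lift_snd _ _ _).symm)))
  rw [IsAffineOpen.SpecMap_appLE_fromSpec f hV hW eW] at sq'
  let j : Spec (.of T) ⟶ pullback f kb := pullback.lift (L ≫ hW.fromSpec) R'
    (by rw [Category.assoc]; exact sq'.w)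
  have hj : IsOpenImmersion j := by
    have hsq : IsPullback L j hW.fromSpec (pullback.fst f kb) :=
      IsPullback.of_bot (by simpa [j] using sq') (pullback.lift_fst _ _ _).symm
        (IsPullback.of_hasPullback f kb)
    exact MorphismProperty.of_isPullback hsq inferInstance
  have h2 : P (j ≫ pullback.snd f kb) := HasRingHomProperty.comp_of_isOpenImmersion P _ _ h1
  rw [show j ≫ pullback.snd f kb = R' from pullback.lift_snd _ _ _,
    HasRingHomProperty.Spec_iff (P := P)] at h2
  exact h2

/-- the fibre map over the point of `p` on affine charts -/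
theorem property_fibre_chart_at {P : MorphismProperty Scheme.{u}}
    {Q : ∀ {R S : Type u} [CommRing R] [CommRing S], (R →+* S) → Prop} [HasRingHomProperty P Q]
    [P.IsStableUnderBaseChange] {X Y S : Scheme.{u}} (f : X ⟶ Y) (g : Y ⟶ S)
    {U : S.Opens} (hU : IsAffineOpen U) {V : Y.Opens} (hV : IsAffineOpen V) (eV : V ≤ g ⁻¹ᵁ U)
    {W : X.Opens} (hW : IsAffineOpen W) (eW : W ≤ f ⁻¹ᵁ V) :
    letI := (g.appLE U V eV).hom.toAlgebra
    letI := (f.appLE V W eW).hom.toAlgebra
    ∀ (p : Ideal Γ(S, U)) [p.IsPrime],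
      P (pullback.snd f (g.fiberι (hU.fromSpec ⟨p, inferInstance⟩))) →
      Q (Algebra.TensorProduct.includeRight
      (R := Γ(Y, V)) (A := Γ(X, W)) (B := Γ(Y, V) ⊗[Γ(S, U)] p.ResidueField)).toRingHom := by
  letI := (g.appLE U V eV).hom.toAlgebra
  letI := (f.appLE V W eW).hom.toAlgebra
  intro p _ hf
  let K := Γ(Y, V) ⊗[Γ(S, U)] p.ResidueField
  let a : Spec (.of p.ResidueField) ⟶ S :=
    Spec.map (CommRingCat.ofHom (algebraMap Γ(S, U) p.ResidueField)) ≫ hU.fromSpec
  let s := a (IsLocalRing.closedPoint p.ResidueField)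
  let e := S.descResidueField (Scheme.stalkClosedPointTo a)
  have ha : Spec.map e ≫ S.fromSpecResidueField s = a :=
    Scheme.descResidueField_stalkClosedPointTo_fromSpecResidueField _ S a
  let kb : Spec (.of K) ⟶ Y :=
    Spec.map (CommRingCat.ofHom (algebraMap Γ(Y, V) K)) ≫ hV.fromSpec
  have hk : kb ≫ g =
      (Spec.map (CommRingCat.ofHom (algebraMap p.ResidueField K)) ≫ Spec.map e) ≫
        S.fromSpecResidueField s := by
    simp only [Category.assoc]
    refine Eq.trans ?_ (congrArg (Spec.map (CommRingCat.ofHom (algebraMap p.ResidueField K)) ≫ ·)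
      ha.symm)
    simp only [kb, a, Category.assoc, ← IsAffineOpen.SpecMap_appLE_fromSpec g hU hV eV,
      ← Spec.map_comp_assoc]
    congr 2
    ext r
    exact ((IsScalarTower.algebraMap_apply Γ(S, U) Γ(Y, V) K r).symm.trans
      (IsScalarTower.algebraMap_apply Γ(S, U) p.ResidueField K r))
  let k : Spec (.of K) ⟶ g.fiber s := pullback.lift kb _ hk
  have hkι : k ≫ g.fiberι s = kb := pullback.lift_fst _ _ _
  have h1 : P (pullback.snd f kb) := by
    rw [← hkι, ← P.cancel_left_of_respectsIso (pullbackLeftPullbackSndIso f (g.fiberι s) k).hom,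
      pullbackLeftPullbackSndIso_hom_snd]
    have hs : s = hU.fromSpec ⟨p, inferInstance⟩ := by
      show hU.fromSpec (PrimeSpectrum.comap (algebraMap Γ(S, U) p.ResidueField)
        (IsLocalRing.closedPoint p.ResidueField)) = _
      refine congrArg _ (PrimeSpectrum.ext (Ideal.ext fun r => ?_))
      show algebraMap Γ(S, U) p.ResidueField r ∈ IsLocalRing.maximalIdeal p.ResidueField ↔ r ∈ p
      rw [IsLocalRing.maximalIdeal_eq_bot, Ideal.mem_bot, Ideal.algebraMap_residueField_eq_zero]
    exact P.pullback_snd _ _ (show P (pullback.snd f (g.fiberι s)) from hs ▸ hf)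
  exact property_chart f hV hW eW K h1

/-- the fibre maps on affine charts -/
theorem property_fibre_chart {P : MorphismProperty Scheme.{u}}
    {Q : ∀ {R S : Type u} [CommRing R] [CommRing S], (R →+* S) → Prop} [HasRingHomProperty P Q]
    [P.IsStableUnderBaseChange] {X Y S : Scheme.{u}} (f : X ⟶ Y) (g : Y ⟶ S)
    (hf : ∀ s : S, P (pullback.snd f (g.fiberι s)))
    {U : S.Opens} (hU : IsAffineOpen U) {V : Y.Opens} (hV : IsAffineOpen V) (eV : V ≤ g ⁻¹ᵁ U)
    {W : X.Opens} (hW : IsAffineOpen W) (eW : W ≤ f ⁻¹ᵁ V) :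
    letI := (g.appLE U V eV).hom.toAlgebra
    letI := (f.appLE V W eW).hom.toAlgebra
    ∀ (p : Ideal Γ(S, U)) [p.IsPrime], Q (Algebra.TensorProduct.includeRight
      (R := Γ(Y, V)) (A := Γ(X, W)) (B := Γ(Y, V) ⊗[Γ(S, U)] p.ResidueField)).toRingHom :=
  fun p _ => property_fibre_chart_at f g hU hV eV hW eW p (hf _)

variable {X Y S : Scheme.{u}} (g : Y ⟶ S) (h : X ⟶ S) (f : X ⟶ Y)

/-- fibrewise flat morphisms are flat -/
theorem flat_of_flat_fibres [LocallyOfFiniteType g] [LocallyOfFinitePresentation h] [Flat h]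
    (w : f ≫ g = h) (hf : ∀ s : S, Flat (pullback.snd f (g.fiberι s))) : Flat f := by
  subst w
  refine (HasRingHomProperty.iff_exists_appLE (P := @Flat)
    (RingHom.Flat.stableUnderComposition.stableUnderCompositionWithLocalizationAway
      RingHom.Flat.holdsForLocalizationAway).1).mpr fun x => ?_
  obtain ⟨_, ⟨U, hU, rfl⟩, hxU, -⟩ :=
    S.isBasis_affineOpens.exists_subset_of_mem_open (Set.mem_univ (g (f x))) isOpen_univ
  obtain ⟨_, ⟨V, hV, rfl⟩, hxV, hVU⟩ :=
    Y.isBasis_affineOpens.exists_subset_of_mem_open (show f x ∈ g ⁻¹ᵁ U from hxU) (g ⁻¹ᵁ U).isOpen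
  obtain ⟨_, ⟨W, hW, rfl⟩, hxW, hWV⟩ :=
    X.isBasis_affineOpens.exists_subset_of_mem_open (show x ∈ f ⁻¹ᵁ V from hxV) (f ⁻¹ᵁ V).isOpen
  have eV : V ≤ g ⁻¹ᵁ U := hVU
  have eW : W ≤ f ⁻¹ᵁ V := hWV
  have eWU : W ≤ (f ≫ g) ⁻¹ᵁ U := fun y hy => eV (eW hy)
  refine ⟨⟨V, hV⟩, ⟨W, hW⟩, hxW, eW, ?_⟩
  have hfib := property_fibre_chart (P := @Flat) f g hf hU hV eV hW eW
  letI := (g.appLE U V eV).hom.toAlgebra
  letI := (f.appLE V W eW).hom.toAlgebra
  letI := ((f ≫ g).appLE U W eWU).hom.toAlgebra
  haveI : IsScalarTower Γ(S, U) Γ(Y, V) Γ(X, W) := IsScalarTower.of_algebraMap_eq' (by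
    simp only [RingHom.algebraMap_toAlgebra, ← CommRingCat.hom_comp, Scheme.Hom.appLE_comp_appLE])
  haveI : Algebra.FiniteType Γ(S, U) Γ(Y, V) := g.finiteType_appLE hU hV eV
  haveI : Algebra.FinitePresentation Γ(S, U) Γ(X, W) := (f ≫ g).finitePresentation_appLE hU hW eWU
  haveI : Module.Flat Γ(S, U) Γ(X, W) := (f ≫ g).flat_appLE hU hW eWU
  show Module.Flat Γ(Y, V) Γ(X, W)
  refine Module.flat_of_isLocalized_maximal Γ(X, W) _
    (fun P _ => LocalizedModule P.primeCompl Γ(X, W))
    (fun P _ => LocalizedModule.mkLinearMap P.primeCompl Γ(X, W)) fun P hP => ?_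
  rw [← flatAt_iff_localizedModule]
  exact flatAt_of_fibre P (FlatAt.of_flat P hP.ne_top)
    (flatAtKilled_of_fibre _ P rfl (flat_baseChange_of_includeRight _ (hfib _)))

/-- fibrewise unramified morphisms are unramified -/
theorem formallyUnramified_of_fibres [LocallyOfFiniteType h]
    (w : f ≫ g = h) (hf : ∀ s : S, FormallyUnramified (pullback.snd f (g.fiberι s))) :
    FormallyUnramified f := by
  subst w
  refine (HasRingHomProperty.iff_exists_appLE (P := @FormallyUnramified)
    (RingHom.FormallyUnramified.stableUnderComposition.stableUnderCompositionWithLocalizationAway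
      RingHom.FormallyUnramified.holdsForLocalizationAway).1).mpr fun x => ?_
  obtain ⟨_, ⟨U, hU, rfl⟩, hxU, -⟩ :=
    S.isBasis_affineOpens.exists_subset_of_mem_open (Set.mem_univ (g (f x))) isOpen_univ
  obtain ⟨_, ⟨V, hV, rfl⟩, hxV, hVU⟩ :=
    Y.isBasis_affineOpens.exists_subset_of_mem_open (show f x ∈ g ⁻¹ᵁ U from hxU) (g ⁻¹ᵁ U).isOpen
  obtain ⟨_, ⟨W, hW, rfl⟩, hxW, hWV⟩ :=
    X.isBasis_affineOpens.exists_subset_of_mem_open (show x ∈ f ⁻¹ᵁ V from hxV) (f ⁻¹ᵁ V).isOpen
  have eV : V ≤ g ⁻¹ᵁ U := hVU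
  have eW : W ≤ f ⁻¹ᵁ V := hWV
  have eWU : W ≤ (f ≫ g) ⁻¹ᵁ U := fun y hy => eV (eW hy)
  refine ⟨⟨V, hV⟩, ⟨W, hW⟩, hxW, eW, ?_⟩
  have hfib := property_fibre_chart (P := @FormallyUnramified) f g hf hU hV eV hW eW
  letI := (g.appLE U V eV).hom.toAlgebra
  letI := (f.appLE V W eW).hom.toAlgebra
  letI := ((f ≫ g).appLE U W eWU).hom.toAlgebra
  haveI : IsScalarTower Γ(S, U) Γ(Y, V) Γ(X, W) := IsScalarTower.of_algebraMap_eq' (by
    simp only [RingHom.algebraMap_toAlgebra, ← CommRingCat.hom_comp, Scheme.Hom.appLE_comp_appLE])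
  haveI : Algebra.FiniteType Γ(S, U) Γ(X, W) := (f ≫ g).finiteType_appLE hU hW eWU
  haveI : Algebra.FiniteType Γ(Y, V) Γ(X, W) :=
    Algebra.FiniteType.of_restrictScalars_finiteType Γ(S, U) _ _
  exact formallyUnramified_of_fibre_rings (R := Γ(S, U)) hfib

/-- the maps on the fibres of `f` are base changes of the maps on the fibres over `S` -/
theorem fiberToSpecResidueField_of_fibres (P : MorphismProperty Scheme.{u})
    [P.IsStableUnderBaseChange] [P.RespectsIso]
    (hf : ∀ s : S, P (pullback.snd f (g.fiberι s))) (y : Y) :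
    P (f.fiberToSpecResidueField y) := by
  let k : Spec (Y.residueField y) ⟶ g.fiber (g y) :=
    pullback.lift (Y.fromSpecResidueField y) (Spec.map (g.residueFieldMap y)) (by simp)
  have hk : k ≫ g.fiberι (g y) = Y.fromSpecResidueField y := pullback.lift_fst _ _ _
  show P (pullback.snd f (Y.fromSpecResidueField y))
  rw [← hk, ← P.cancel_left_of_respectsIso (pullbackLeftPullbackSndIso f (g.fiberι (g y)) k).hom,
    pullbackLeftPullbackSndIso_hom_snd]
  exact P.pullback_snd _ _ (hf (g y))

end scheme

end Groth.Agent.Flat.FibreScheme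

namespace Groth.Agent.Flat.FibreScheme

open AlgebraicGeometry CategoryTheory CategoryTheory.Limits

variable {X Y S : Scheme.{u}} (g : Y ⟶ S) (h : X ⟶ S) (f : X ⟶ Y)

/-- fibrewise monomorphisms are universally injective -/
theorem universallyInjective_of_mono_fibres (hf : ∀ s : S, Mono (pullback.snd f (g.fiberι s))) :
    UniversallyInjective f := by
  refine ((tfae_universallyInjective f).out 0 1 rfl rfl).mpr ?_
  intro K _ a b hab
  let kg : Spec (.of K) ⟶ S := a ≫ f ≫ g
  let s := kg (IsLocalRing.closedPoint K)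
  let k : Spec (.of K) ⟶ g.fiber s := pullback.lift (a ≫ f)
    (Spec.map (S.descResidueField (Scheme.stalkClosedPointTo kg))) (by
      rw [Category.assoc]
      exact (Scheme.descResidueField_stalkClosedPointTo_fromSpecResidueField K S kg).symm)
  have hk : k ≫ g.fiberι s = a ≫ f := pullback.lift_fst _ _ _
  have := hf s
  have e : pullback.lift a k hk.symm = pullback.lift b k (hk.trans hab).symm :=
    (cancel_mono (pullback.snd f (g.fiberι s))).mp (by simp)
  simpa using congrArg (fun t => t ≫ pullback.fst f (g.fiberι s)) e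

/-- fibrewise monomorphisms of finite type are monomorphisms -/
theorem mono_of_mono_fibres [LocallyOfFiniteType h] (w : f ≫ g = h) [LocallyOfFiniteType f]
    (hf : ∀ s : S, Mono (pullback.snd f (g.fiberι s))) : Mono f := by
  have := universallyInjective_of_mono_fibres g f hf
  have := formallyUnramified_of_fibres g h f w fun s => by
    have := hf s
    infer_instance
  have := (UniversallyInjective.iff_diagonal f).mp inferInstance
  haveI : IsIso (pullback.diagonal f) :=
    (isIso_iff_isOpenImmersion_and_surjective _).mpr ⟨inferInstance, this⟩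
  exact (pullback.isIso_diagonal_iff f).mp inferInstance

/-- fibrewise open immersions are open immersions -/
theorem isOpenImmersion_of_fibres [LocallyOfFiniteType g] [LocallyOfFinitePresentation h] [Flat h]
    (w : f ≫ g = h) (hf : ∀ s : S, IsOpenImmersion (pullback.snd f (g.fiberι s))) :
    IsOpenImmersion f := by
  have := flat_of_flat_fibres g h f w fun s => by have := hf s; infer_instance
  subst w
  have := Groth.Agent.Mor.Cancel.locallyOfFinitePresentation_of_comp f g
  have := mono_of_mono_fibres g (f ≫ g) f rfl fun s => by have := hf s; infer_instance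
  exact IsOpenImmersion.of_flat_of_mono f

/-- fibrewise surjective morphisms are surjective -/
theorem surjective_of_fibres (hf : ∀ s : S, Surjective (pullback.snd f (g.fiberι s))) :
    Surjective f := ⟨fun y => by
  obtain ⟨z, hz⟩ := (hf (g y)).surj (g.asFiber y)
  refine ⟨pullback.fst f (g.fiberι (g y)) z, ?_⟩
  rw [← Scheme.Hom.comp_apply, pullback.condition, Scheme.Hom.comp_apply, hz]
  exact g.fiberι_asFiber y⟩

/-- fibrewise smooth morphisms are smooth -/
theorem smooth_of_fibres [LocallyOfFiniteType g] [LocallyOfFinitePresentation h] [Flat h]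
    (w : f ≫ g = h) (hf : ∀ s : S, Smooth (pullback.snd f (g.fiberι s))) : Smooth f := by
  have := flat_of_flat_fibres g h f w fun s => by have := hf s; infer_instance
  subst w
  have := Groth.Agent.Mor.Cancel.locallyOfFinitePresentation_of_comp f g
  exact Smooth.of_smooth_fiberToSpecResidueField f
    (fiberToSpecResidueField_of_fibres g f @Smooth hf)

/-- fibrewise étale morphisms are étale -/
theorem etale_of_fibres [LocallyOfFiniteType g] [LocallyOfFinitePresentation h] [Flat h]
    (w : f ≫ g = h) (hf : ∀ s : S, Etale (pullback.snd f (g.fiberι s))) : Etale f := by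
  have := flat_of_flat_fibres g h f w fun s => by have := hf s; infer_instance
  have := formallyUnramified_of_fibres g h f w fun s => by have := hf s; infer_instance
  subst w
  have := Groth.Agent.Mor.Cancel.locallyOfFinitePresentation_of_comp f g
  exact Etale.of_formallyUnramified_of_flat f

end Groth.Agent.Flat.FibreScheme
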