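import Groth.Agent.Flat.FlatAt
import Mathlib.RingTheory.MvPolynomial.Localization
import Mathlib.RingTheory.FinitePresentation

/-!
Noetherian models near a point of flatness, and openness of the flat locus.
-/

set_option autoImplicit false

noncomputable section

namespace Groth.Agent.Flat.OpenLocus

universe u

open scoped TensorProduct
open Descent FlatAt

variable {σ : Type} {ι : Type}

/-- the cokernel of a matrix over a polynomial ring -/
abbrev Coker {A : Type u} [CommRing A] {k : ℕ} (g : Fin k → ι → MvPolynomial σ A) : Type u :=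
  (ι → MvPolynomial σ A) ⧸ Submodule.span (MvPolynomial σ A) (Set.range g)

section map

variable {A B : Type u} [CommRing A] [CommRing B] [Algebra A B] {k : ℕ}
  (g₀ : Fin k → ι → MvPolynomial σ A) (g : Fin k → ι → MvPolynomial σ B)
  (hg : ∀ l, vmap (algebraMap A B) (g₀ l) = g l)

/-- functoriality of the cokernel in the coefficients -/
def cokerMap : Coker g₀ →ₗ[A] Coker g :=
  ((Submodule.span (MvPolynomial σ A) (Set.range g₀)).restrictScalars A).liftQ
    ((Submodule.mkQ (Submodule.span (MvPolynomial σ B) (Set.range g))).restrictScalars A ∘ₗ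
      vecMap A B)
    (fun _ hv => (Submodule.Quotient.mk_eq_zero _).mpr (vmap_mem_span _ g₀ g hg hv)) ∘ₗ
    (Submodule.Quotient.restrictScalarsEquiv A _).symm.toLinearMap

theorem cokerMap_mk (v : ι → MvPolynomial σ A) :
    cokerMap g₀ g hg (Submodule.Quotient.mk v) =
      Submodule.Quotient.mk (vmap (algebraMap A B) v) := rfl

theorem cokerMap_smul (s : MvPolynomial σ A) (x : Coker g₀) :
    cokerMap g₀ g hg (s • x) =
      MvPolynomial.map (algebraMap A B) s • cokerMap g₀ g hg x := by
  obtain ⟨v, rfl⟩ := Submodule.mkQ_surjective _ x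
  rw [Submodule.mkQ_apply, ← Submodule.Quotient.mk_smul, cokerMap_mk, cokerMap_mk, vmap_smul,
    Submodule.Quotient.mk_smul]

theorem isBaseChange_cokerMap [Finite ι] : IsBaseChange B (cokerMap g₀ g hg) := by
  let hj := isBaseChange_vecMap (σ := σ) (ι := ι) A B
  let N := Submodule.span (MvPolynomial σ B) (Set.range g)
  let mk₀ := (Submodule.mkQ (Submodule.span (MvPolynomial σ A) (Set.range g₀))).restrictScalars A
  let Φ : (ι → MvPolynomial σ B) →ₗ[B] B ⊗[A] Coker g₀ :=
    mk₀.baseChange B ∘ₗ hj.equiv.symm.toLinearMap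
  have hΦ : N.restrictScalars B ≤ LinearMap.ker Φ := by
    rw [span_restrictScalars_eq g₀ g hg, Submodule.span_le]
    rintro _ ⟨w, hw, rfl⟩
    have e0 : mk₀ w = 0 := (Submodule.Quotient.mk_eq_zero _).mpr hw
    simp [Φ, IsBaseChange.equiv_symm_apply, e0]
  let Ψ : Coker g →ₗ[B] B ⊗[A] Coker g₀ :=
    (N.restrictScalars B).liftQ Φ hΦ ∘ₗ (Submodule.Quotient.restrictScalarsEquiv B N).symm.toLinearMap
  have h1 : ∀ x, Ψ ((cokerMap g₀ g hg).liftBaseChange B x) = x := fun x => by
    induction x using TensorProduct.induction_on with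
    | zero => simp
    | add a b ha hb => rw [map_add, map_add, ha, hb]
    | tmul b x =>
      obtain ⟨v, rfl⟩ := Submodule.mkQ_surjective _ x
      rw [LinearMap.liftBaseChange_tmul, map_smul, Submodule.mkQ_apply, cokerMap_mk]
      show b • Φ (vecMap A B v) = _
      simp [Φ, mk₀, IsBaseChange.equiv_symm_apply, TensorProduct.smul_tmul']
  have h2 : ∀ y, (cokerMap g₀ g hg).liftBaseChange B (Ψ y) = y := fun y => by
    obtain ⟨v, rfl⟩ := Submodule.mkQ_surjective _ y
    obtain ⟨z, rfl⟩ := hj.equiv.surjective v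
    show (cokerMap g₀ g hg).liftBaseChange B (Φ (hj.equiv z)) = _
    simp only [Φ, LinearMap.comp_apply, LinearEquiv.coe_coe, LinearEquiv.symm_apply_apply]
    induction z using TensorProduct.induction_on with
    | zero => simp
    | add a b ha hb => simp only [map_add, ha, hb]
    | tmul b v =>
      simp only [LinearMap.baseChange_tmul, LinearMap.liftBaseChange_tmul, IsBaseChange.equiv_tmul]
      rfl
  exact IsBaseChange.of_equiv
    (LinearEquiv.ofLinearMap ((cokerMap g₀ g hg).liftBaseChange B) Ψ (LinearMap.ext h2)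
      (LinearMap.ext h1)) (fun x => by simp)

end map

section lift

variable {R : Type u} [CommRing R] (p : Ideal R) [p.IsPrime]

/-- from a localization at an element outside `p` to the localization at `p` -/
def toAtPrime {f : R} (hf : f ∉ p) : Localization.Away f →+* Localization.AtPrime p :=
  IsLocalization.Away.lift f (IsLocalization.map_units (Localization.AtPrime p)
    (⟨f, hf⟩ : p.primeCompl))

theorem toAtPrime_algebraMap {f : R} (hf : f ∉ p) (r : R) :
    toAtPrime p hf (algebraMap R _ r) = algebraMap R (Localization.AtPrime p) r :=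
  IsLocalization.Away.lift_eq f _ r

theorem exists_kill_of_toAtPrime {f : R} (hf : f ∉ p) {z : Localization.Away f}
    (hz : toAtPrime p hf z = 0) :
    ∃ c, c ∉ p ∧ algebraMap R (Localization.Away f) c * z = 0 := by
  obtain ⟨⟨a, ⟨_, k, rfl⟩⟩, h⟩ := IsLocalization.surj (Submonoid.powers f) z
  have ha : algebraMap R (Localization.AtPrime p) a = 0 := by
    rw [← toAtPrime_algebraMap p hf, ← h, map_mul, hz, zero_mul]
  obtain ⟨⟨c, hc⟩, hca⟩ := (IsLocalization.map_eq_zero_iff p.primeCompl _ a).mp ha
  refine ⟨c, hc, (IsUnit.mul_left_eq_zero ((IsLocalization.map_units (Localization.Away f)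
    (⟨f ^ k, k, rfl⟩ : Submonoid.powers f)))).mp ?_⟩
  rw [mul_assoc, h, ← map_mul]
  show algebraMap R (Localization.Away f) (c * a) = 0
  rw [show c * a = 0 from hca, map_zero]

theorem exists_kill_poly {f : R} (hf : f ∉ p) (v : MvPolynomial σ (Localization.Away f))
    (hv : MvPolynomial.map (toAtPrime p hf) v = 0) :
    ∃ c, c ∉ p ∧ MvPolynomial.C (algebraMap R (Localization.Away f) c) * v = 0 := by
  classical
  choose c hc hcv using fun m : σ →₀ ℕ => exists_kill_of_toAtPrime p hf (z := v.coeff m) (by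
    rw [← MvPolynomial.coeff_map, hv, MvPolynomial.coeff_zero])
  refine ⟨∏ m ∈ v.support, c m, fun h => ?_, MvPolynomial.ext _ _ fun m => ?_⟩
  · obtain ⟨m, _, hm⟩ := (Ideal.IsPrime.prod_mem_iff).mp h
    exact hc m hm
  · rw [MvPolynomial.coeff_C_mul, MvPolynomial.coeff_zero]
    by_cases hm : m ∈ v.support
    · rw [← Finset.mul_prod_erase _ _ hm, map_mul, mul_right_comm, hcv, zero_mul]
    · rw [MvPolynomial.notMem_support_iff.mp hm, mul_zero]

/-- a map from a finitely presented ring into `R_p` comes from some `R_f` -/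
theorem exists_lift (A : Type u) [CommRing A] [Algebra ℤ A] [Algebra.FinitePresentation ℤ A]
    (θ : A →+* Localization.AtPrime p) :
    ∃ (f : R) (hf : f ∉ p) (ψ : A →+* Localization.Away f), (toAtPrime p hf).comp ψ = θ := by
  classical
  obtain ⟨r, π, hπ, hker⟩ := (inferInstance : Algebra.FinitePresentation ℤ A).out
  choose a b hab using fun i : Fin r =>
    IsLocalization.exists_mk'_eq p.primeCompl (θ (π (MvPolynomial.X i)))
  let f₀ := ∏ i, (b i : R)
  have hf₀ : f₀ ∉ p := fun h => by
    obtain ⟨i, _, hi⟩ := (Ideal.IsPrime.prod_mem_iff).mp h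
    exact (b i).2 hi
  have hbu : ∀ i, IsUnit (algebraMap R (Localization.Away f₀) (b i)) := fun i =>
    isUnit_of_dvd_unit (map_dvd _ (Finset.dvd_prod_of_mem (fun i => (b i : R)) (Finset.mem_univ i)))
      (IsLocalization.Away.algebraMap_isUnit f₀)
  let Ψ : MvPolynomial (Fin r) ℤ →+* Localization.Away f₀ := MvPolynomial.eval₂Hom (Int.castRingHom _)
    fun i => algebraMap R _ (a i) * ↑(hbu i).unit⁻¹
  have hΨ : (toAtPrime p hf₀).comp Ψ = θ.comp π.toRingHom := by
    refine MvPolynomial.ringHom_ext (fun n => by simp) fun i => ?_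
    show toAtPrime p hf₀ (Ψ (MvPolynomial.X i)) = θ (π (MvPolynomial.X i))
    rw [← hab i]
    simp only [Ψ, MvPolynomial.eval₂Hom_X', map_mul, toAtPrime_algebraMap]
    rw [eq_comm, IsLocalization.mk'_eq_iff_eq_mul, mul_assoc,
      ← toAtPrime_algebraMap p hf₀ (b i : R), ← map_mul, IsUnit.val_inv_mul, map_one, mul_one]
  obtain ⟨E, hE⟩ := hker
  choose! c hc hce using fun e (he : e ∈ E) => exists_kill_of_toAtPrime p hf₀ (z := Ψ e) (by
    rw [← RingHom.comp_apply, hΨ, RingHom.comp_apply]
    rw [show π.toRingHom e = 0 from (hE ▸ Ideal.subset_span he : e ∈ RingHom.ker π.toRingHom),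
      map_zero])
  let f := f₀ * ∏ e ∈ E, c e
  have hf : f ∉ p := fun h => (‹p.IsPrime›.mem_or_mem h).elim hf₀ fun h => by
    obtain ⟨e, he, he'⟩ := (Ideal.IsPrime.prod_mem_iff).mp h
    exact hc e he he'
  have hu := IsLocalization.Away.algebraMap_isUnit (S := Localization.Away f) f
  simp only [f, map_mul, IsUnit.mul_iff] at hu
  let lam : Localization.Away f₀ →+* Localization.Away f := IsLocalization.Away.lift f₀ hu.1
  have hlam : (toAtPrime p hf).comp lam = toAtPrime p hf₀ :=
    IsLocalization.ringHom_ext (Submonoid.powers f₀) (RingHom.ext fun x => by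
      show toAtPrime p hf (lam (algebraMap R _ x)) = toAtPrime p hf₀ (algebraMap R _ x)
      rw [toAtPrime_algebraMap, show lam (algebraMap R _ x) = algebraMap R (Localization.Away f) x
        from IsLocalization.Away.lift_eq _ hu.1 x]
      exact toAtPrime_algebraMap p hf x)
  have hker' : RingHom.ker π.toRingHom ≤ RingHom.ker (lam.comp Ψ) := by
    show RingHom.ker π.toRingHom ≤ _
    rw [← hE, Ideal.span_le]
    intro e he
    have h := congrArg lam (hce e he)
    rw [map_mul, map_zero, IsLocalization.Away.lift_eq] at h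
    exact ((isUnit_of_dvd_unit (map_dvd _ (Finset.dvd_prod_of_mem c he))
      hu.2).mul_right_eq_zero).mp h
  refine ⟨f, hf, RingHom.liftOfSurjective π.toRingHom hπ ⟨lam.comp Ψ, hker'⟩, ?_⟩
  refine RingHom.ext fun x => ?_
  obtain ⟨x, rfl⟩ := hπ x
  rw [RingHom.comp_apply, show π x = π.toRingHom x from rfl, RingHom.liftOfSurjective_comp_apply,
    ← RingHom.comp_apply, ← RingHom.comp_assoc, hlam, hΨ]
  rfl

end lift

theorem isLocalization_loc {R : Type u} [CommRing R] (T : Finset R) :
    letI : Algebra (Algebra.adjoin ℤ (T : Set R)) (loc T) :=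
      ((Algebra.adjoin ℤ (T : Set R)).val.toRingHom.codRestrict (loc T)
        fun x => mem_loc.mpr ⟨x, x.2, 1, one_mem _, isUnit_one, mul_one _⟩).toAlgebra
    IsLocalization (locM T) (loc T) := by
  letI : Algebra (Algebra.adjoin ℤ (T : Set R)) (loc T) :=
    ((Algebra.adjoin ℤ (T : Set R)).val.toRingHom.codRestrict (loc T)
      fun x => mem_loc.mpr ⟨x, x.2, 1, one_mem _, isUnit_one, mul_one _⟩).toAlgebra
  refine ⟨⟨fun y => isUnit_loc (T := T) y.2, fun z => ?_, fun {x y} h => ⟨1, ?_⟩⟩⟩
  · obtain ⟨x, hx, y, hy, hu, he⟩ := mem_loc.mp z.2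
    exact ⟨⟨⟨x, hx⟩, ⟨⟨y, hy⟩, hu⟩⟩, Subtype.ext he⟩
  · rw [show x = y from Subtype.ext (congrArg (fun z : loc T => (z : R)) h)]

theorem exists_adjoin_vec {R : Type u} [CommRing R] [Finite ι] (v : ι → MvPolynomial σ R) :
    ∃ T : Finset R, ∀ T' : Finset R, T ⊆ T' →
      ∃ v' : ι → MvPolynomial σ (Algebra.adjoin ℤ (T' : Set R)),
        vmap (Algebra.adjoin ℤ (T' : Set R)).val.toRingHom v' = v := by
  classical
  haveI := Fintype.ofFinite ι
  have hp : ∀ p : MvPolynomial σ R, ∃ T : Finset R, ∀ T' : Finset R, T ⊆ T' →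
      ∃ p' : MvPolynomial σ (Algebra.adjoin ℤ (T' : Set R)),
        MvPolynomial.map (Algebra.adjoin ℤ (T' : Set R)).val.toRingHom p' = p := by
    intro p
    induction p using MvPolynomial.induction_on with
    | C r =>
      exact ⟨{r}, fun T' hT => ⟨MvPolynomial.C ⟨r, Algebra.subset_adjoin
        (Finset.coe_subset.mpr hT (Finset.mem_singleton_self r))⟩, MvPolynomial.map_C _ _⟩⟩
    | add a b ha hb =>
      obtain ⟨T, hT⟩ := ha
      obtain ⟨S, hS⟩ := hb
      refine ⟨T ∪ S, fun T' h => ?_⟩
      obtain ⟨a', rfl⟩ := hT T' (Finset.subset_union_left.trans h)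
      obtain ⟨b', rfl⟩ := hS T' (Finset.subset_union_right.trans h)
      exact ⟨a' + b', map_add _ _ _⟩
    | mul_X a i ha =>
      obtain ⟨T, hT⟩ := ha
      refine ⟨T, fun T' h => ?_⟩
      obtain ⟨a', rfl⟩ := hT T' h
      exact ⟨a' * MvPolynomial.X i, by rw [map_mul, MvPolynomial.map_X]⟩
  choose T hT using fun i => hp (v i)
  refine ⟨Finset.univ.biUnion T, fun T' h => ?_⟩
  choose v' hv' using fun i => hT i T'
    ((Finset.subset_biUnion_of_mem T (Finset.mem_univ i)).trans h)
  exact ⟨v', funext hv'⟩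

/-- the subring generated by a finite set -/
abbrev adj {R : Type u} [CommRing R] (T : Finset R) := Algebra.adjoin ℤ (T : Set R)

/-- the inclusion of `adj T` -/
abbrev adjHom {R : Type u} [CommRing R] (T : Finset R) : adj T →+* R :=
  (Algebra.adjoin ℤ (T : Set R)).val.toRingHom

theorem adj_finitePresentation {R : Type u} [CommRing R] (T : Finset R) :
    Algebra.FinitePresentation ℤ (adj T) := by
  haveI : Algebra.FiniteType ℤ (adj T) :=
    (adj T).fg_iff_finiteType.mp (Subalgebra.fg_adjoin_finset T)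
  exact Algebra.FinitePresentation.of_finiteType.mp inferInstance

theorem adj_isNoetherianRing {R : Type u} [CommRing R] (T : Finset R) :
    IsNoetherianRing (adj T) := by
  haveI : Algebra.FiniteType ℤ (adj T) :=
    (adj T).fg_iff_finiteType.mp (Subalgebra.fg_adjoin_finset T)
  exact Algebra.FiniteType.isNoetherianRing ℤ _

attribute [local instance] MvPolynomial.algebraMvPolynomial

/-- from the localized subring back to the finitely generated subring -/
theorem flatAt_adj {R : Type u} [CommRing R] [Finite ι] {k : ℕ} (T : Finset R)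
    (g₀ : Fin k → ι → MvPolynomial σ (adj T)) (g : Fin k → ι → MvPolynomial σ R)
    (hg : ∀ l, vmap (adjHom T) (g₀ l) = g l) (Q : Ideal (MvPolynomial σ R)) [Q.IsPrime]
    (h : ∀ g₁ : Fin k → ι → MvPolynomial σ (loc T), (∀ l, vmap (loc T).subtype (g₁ l) = g l) →
      FlatAt (loc T) (Coker g₁) (Q.comap (MvPolynomial.map (loc T).subtype))) :
    FlatAt (adj T) (Coker g₀) (Q.comap (MvPolynomial.map (adjHom T))) := by
  letI : Algebra (adj T) (loc T) := ((adjHom T).codRestrict (loc T)
    fun x => mem_loc.mpr ⟨x, x.2, 1, one_mem _, isUnit_one, mul_one _⟩).toAlgebra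
  haveI : IsLocalization (locM T) (loc T) := isLocalization_loc T
  haveI := MvPolynomial.isLocalization (σ := σ) (locM T) (loc T)
  have hsub : (loc T).subtype.comp (algebraMap (adj T) (loc T)) = adjHom T := rfl
  let g₁ := fun l => vmap (algebraMap (adj T) (loc T)) (g₀ l)
  have hg₁ : ∀ l, vmap (loc T).subtype (g₁ l) = g l := fun l => by
    rw [vmap_vmap, hsub]; exact hg l
  haveI : (Q.comap (MvPolynomial.map (loc T).subtype)).IsPrime := Ideal.IsPrime.comap _
  haveI : (Q.comap (MvPolynomial.map (adjHom T))).IsPrime := Ideal.IsPrime.comap _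
  have hCu : ∀ c : locM T, MvPolynomial.C (adjHom T c) ∉ Q := fun c hc =>
    ‹Q.IsPrime›.ne_top (Ideal.eq_top_of_isUnit_mem _ hc ((locM_units T c).map MvPolynomial.C))
  refine FlatAt.of_localization (MvPolynomial.map (algebraMap (adj T) (loc T)))
    (cokerMap g₀ g₁ fun _ => rfl) (isBaseChange_cokerMap g₀ g₁ fun _ => rfl)
    (cokerMap_smul g₀ g₁ fun _ => rfl) (locM T) _ ?_ ?_ (h g₁ hg₁)
  · intro c hc h'
    refine hCu ⟨c, hc⟩ ?_
    rw [← MvPolynomial.map_C]
    exact h'
  · intro s' hs'
    obtain ⟨⟨s, ⟨_, c, hc, rfl⟩⟩, hsc⟩ :=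
      IsLocalization.surj ((locM T).map (MvPolynomial.C : adj T →+* MvPolynomial σ (adj T))) s'
    refine ⟨s, fun h0 => ?_, algebraMap (MvPolynomial σ (adj T)) (MvPolynomial σ (loc T))
      (MvPolynomial.C c), by rw [mul_comm]; exact hsc.symm⟩
    have h' : MvPolynomial.map (loc T).subtype s' * MvPolynomial.C (adjHom T c) ∈ Q := by
      have e := congrArg (MvPolynomial.map (loc T).subtype) hsc
      rw [map_mul, MvPolynomial.algebraMap_def, MvPolynomial.map_map, MvPolynomial.map_map,
        hsub, MvPolynomial.map_C] at e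
      rw [e]
      exact h0
    exact (‹Q.IsPrime›.mem_or_mem h').elim hs' (hCu ⟨c, hc⟩)

/-- Near a point of flatness there is a Noetherian model which is flat at the point below. -/
theorem exists_model {R : Type u} [CommRing R] [Finite σ] [Finite ι] {k : ℕ}
    (g : Fin k → ι → MvPolynomial σ R) (q : Ideal (MvPolynomial σ R)) [q.IsPrime]
    (h : FlatAt R (Coker g) q) :
    ∃ (A : Type u) (_ : CommRing A) (_ : IsNoetherianRing A) (f : R)
      (hf : f ∉ q.comap MvPolynomial.C) (ψ : A →+* Localization.Away f)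
      (g₀ : Fin k → ι → MvPolynomial σ A),
      (∀ l, vmap ψ (g₀ l) = vmap (algebraMap R (Localization.Away f)) (g l)) ∧
      FlatAt A (Coker g₀) ((q.map (MvPolynomial.map (algebraMap R (Localization.AtPrime
        (q.comap MvPolynomial.C))))).comap
          (MvPolynomial.map ((toAtPrime (q.comap MvPolynomial.C) hf).comp ψ))) := by
  classical
  let p := q.comap (MvPolynomial.C : R →+* MvPolynomial σ R)
  let Rp := Localization.AtPrime p
  let φ := MvPolynomial.map (σ := σ) (algebraMap R Rp)
  haveI := MvPolynomial.isLocalization (σ := σ) p.primeCompl Rp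
  have hdisj : Disjoint ((p.primeCompl.map (MvPolynomial.C : R →+* MvPolynomial σ R) :
      Submonoid (MvPolynomial σ R)) : Set (MvPolynomial σ R)) (q : Set (MvPolynomial σ R)) :=
    Set.disjoint_left.mpr fun x hx hxq => by
      obtain ⟨c, hc, rfl⟩ := hx
      exact hc hxq
  haveI hqp : (q.map φ).IsPrime :=
    IsLocalization.isPrime_of_isPrime_disjoint (p.primeCompl.map MvPolynomial.C)
      (MvPolynomial σ Rp) q inferInstance hdisj
  have hcomap : (q.map φ).comap φ = q :=
    IsLocalization.comap_map_of_isPrime_disjoint (p.primeCompl.map MvPolynomial.C)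
      (MvPolynomial σ Rp) inferInstance hdisj
  let gp := fun l => vmap (algebraMap R Rp) (g l)
  have h1 : FlatAt Rp (Coker gp) (q.map φ) :=
    FlatAt.baseChange φ (cokerMap g gp fun _ => rfl) (isBaseChange_cokerMap g gp fun _ => rfl)
      (cokerMap_smul g gp fun _ => rfl) (q.map φ) hcomap.le h
  have hmax : (IsLocalRing.maximalIdeal Rp).map MvPolynomial.C ≤ q.map φ := by
    rw [← Localization.AtPrime.map_eq_maximalIdeal, Ideal.map_map]
    refine Ideal.map_le_iff_le_comap.mpr fun a ha => ?_
    show MvPolynomial.C (algebraMap R Rp a) ∈ q.map φ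
    rw [← MvPolynomial.map_C]
    exact Ideal.mem_map_of_mem φ ha
  obtain ⟨T₁, hT₁⟩ := exists_flat_descent gp (q.map φ) hmax
    ((flatAt_iff_localizedModule _).mp h1)
  choose T₂ hT₂ using fun l => exists_adjoin_vec (gp l)
  obtain ⟨T, hTT₁, hTT₂⟩ : ∃ T : Finset Rp, T₁ ⊆ T ∧ ∀ l, T₂ l ⊆ T :=
    ⟨T₁ ∪ Finset.univ.biUnion T₂, Finset.subset_union_left, fun l =>
      (Finset.subset_biUnion_of_mem T₂ (Finset.mem_univ l)).trans Finset.subset_union_right⟩
  choose g₀ hg₀ using fun l => hT₂ l T (hTT₂ l)
  let θ : adj T →+* Rp := adjHom T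
  haveI hAn : IsNoetherianRing (adj T) := adj_isNoetherianRing T
  haveI := adj_finitePresentation T
  obtain ⟨f₁, hf₁, ψ₁, hψ₁⟩ := exists_lift p (adj T) θ
  -- adjust so that the matrices agree
  have hz : ∀ li : Fin k × ι, MvPolynomial.map (toAtPrime p hf₁)
      (MvPolynomial.map ψ₁ (g₀ li.1 li.2) -
        MvPolynomial.map (algebraMap R (Localization.Away f₁)) (g li.1 li.2)) = 0 := fun li => by
    rw [map_sub, MvPolynomial.map_map, MvPolynomial.map_map, hψ₁, sub_eq_zero]
    rw [show (toAtPrime p hf₁).comp (algebraMap R _) = algebraMap R Rp from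
      RingHom.ext (toAtPrime_algebraMap p hf₁)]
    exact congrFun (hg₀ li.1) li.2
  haveI := Fintype.ofFinite ι
  choose c hc hcv using fun li => exists_kill_poly p hf₁ _ (hz li)
  obtain ⟨f, hfdef⟩ : ∃ f, f = f₁ * ∏ li, c li := ⟨_, rfl⟩
  have hf : f ∉ p := fun h => (Ideal.IsPrime.mem_or_mem inferInstance (hfdef ▸ h)).elim hf₁ fun h => by
    obtain ⟨li, _, hli⟩ := (Ideal.IsPrime.prod_mem_iff).mp h
    exact hc li hli
  have hu0 : IsUnit (algebraMap R (Localization.Away f) f) := IsLocalization.Away.algebraMap_isUnit f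
  have hu : IsUnit (algebraMap R (Localization.Away f) f₁) ∧
      IsUnit (algebraMap R (Localization.Away f) (∏ li, c li)) := by
    rw [← IsUnit.mul_iff, ← map_mul, ← hfdef]
    exact hu0
  let lam : Localization.Away f₁ →+* Localization.Away f := IsLocalization.Away.lift f₁ hu.1
  have hlam : (toAtPrime p hf).comp lam = toAtPrime p hf₁ :=
    IsLocalization.ringHom_ext (Submonoid.powers f₁) (RingHom.ext fun x => by
      show toAtPrime p hf (lam (algebraMap R _ x)) = toAtPrime p hf₁ (algebraMap R _ x)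
      rw [toAtPrime_algebraMap, show lam (algebraMap R _ x) = algebraMap R (Localization.Away f) x
        from IsLocalization.Away.lift_eq _ hu.1 x]
      exact toAtPrime_algebraMap p hf x)
  refine ⟨(adj T), inferInstance, hAn, f, hf, lam.comp ψ₁, g₀, fun l => funext fun i => ?_, ?_⟩
  · have h := congrArg (MvPolynomial.map lam) (hcv (l, i))
    rw [map_mul, map_zero, MvPolynomial.map_C, IsLocalization.Away.lift_eq, map_sub,
      MvPolynomial.map_map, MvPolynomial.map_map] at h
    rw [show lam.comp (algebraMap R (Localization.Away f₁)) = algebraMap R (Localization.Away f) from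
      IsLocalization.Away.lift_comp f₁ hu.1] at h
    have hcu : IsUnit (algebraMap R (Localization.Away f) (c (l, i))) :=
      isUnit_of_dvd_unit (map_dvd (algebraMap R (Localization.Away f))
        (Finset.dvd_prod_of_mem c (Finset.mem_univ (l, i)))) hu.2
    have hCu : IsUnit (MvPolynomial.C (algebraMap R (Localization.Away f) (c (l, i))) :
        MvPolynomial σ (Localization.Away f)) := hcu.map MvPolynomial.C
    exact sub_eq_zero.mp (hCu.mul_right_eq_zero.mp h)
  · rw [← RingHom.comp_assoc, hlam, hψ₁]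
    exact flatAt_adj T g₀ gp hg₀ (q.map φ) fun g₁ hg₁ =>
      (flatAt_iff_localizedModule _).mpr (hT₁ T hTT₁ g₁ hg₁)

/-- Openness of the flat locus. -/
theorem exists_flat_nbhd {R : Type u} [CommRing R] [Finite σ] [Finite ι] {k : ℕ}
    (g : Fin k → ι → MvPolynomial σ R) (q : Ideal (MvPolynomial σ R)) [q.IsPrime]
    (h : FlatAt R (Coker g) q) :
    ∃ s, s ∉ q ∧ ∀ q' : Ideal (MvPolynomial σ R), q'.IsPrime → s ∉ q' →
      FlatAt R (Coker g) q' := by
  classical
  obtain ⟨A, _, hA, f, hf, ψ, g₀, hg, hfl⟩ := exists_model g q h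
  let p := q.comap (MvPolynomial.C : R →+* MvPolynomial σ R)
  let Rp := Localization.AtPrime p
  let φ := MvPolynomial.map (σ := σ) (algebraMap R Rp)
  let L := Localization.Away f
  haveI := MvPolynomial.isLocalization (σ := σ) p.primeCompl Rp
  have hdisj : Disjoint ((p.primeCompl.map (MvPolynomial.C : R →+* MvPolynomial σ R) :
      Submonoid (MvPolynomial σ R)) : Set (MvPolynomial σ R)) (q : Set (MvPolynomial σ R)) :=
    Set.disjoint_left.mpr fun x hx hxq => by
      obtain ⟨c, hc, rfl⟩ := hx
      exact hc hxq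
  haveI hqp : (q.map φ).IsPrime :=
    IsLocalization.isPrime_of_isPrime_disjoint (p.primeCompl.map MvPolynomial.C)
      (MvPolynomial σ Rp) q inferInstance hdisj
  have hcomap : (q.map φ).comap φ = q :=
    IsLocalization.comap_map_of_isPrime_disjoint (p.primeCompl.map MvPolynomial.C)
      (MvPolynomial σ Rp) inferInstance hdisj
  haveI : ((q.map φ).comap (MvPolynomial.map ((toAtPrime p hf).comp ψ))).IsPrime :=
    Ideal.IsPrime.comap _
  obtain ⟨_, ⟨h₀, rfl⟩, hh₀, hsub⟩ := PrimeSpectrum.isTopologicalBasis_basic_opens.exists_subset_of_mem_open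
    (show (⟨_, ‹((q.map φ).comap (MvPolynomial.map ((toAtPrime p hf).comp ψ))).IsPrime›⟩ :
      PrimeSpectrum (MvPolynomial σ A)) ∈ {Q : PrimeSpectrum (MvPolynomial σ A) |
        FlatAt A (Coker g₀) Q.asIdeal} from hfl)
    (isOpen_flatLocus_noetherian (R := A) (S := MvPolynomial σ A) (M := Coker g₀))
  haveI := MvPolynomial.isLocalization (σ := σ) (Submonoid.powers f) L
  obtain ⟨⟨s, ⟨_, _, ⟨m, rfl⟩, rfl⟩⟩, hs⟩ := IsLocalization.surj
    ((Submonoid.powers f).map (MvPolynomial.C : R →+* MvPolynomial σ R)) (MvPolynomial.map ψ h₀)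
  have htop : (toAtPrime p hf).comp (algebraMap R L) = algebraMap R Rp :=
    RingHom.ext (toAtPrime_algebraMap p hf)
  refine ⟨s * MvPolynomial.C f, fun hmem => ?_, fun q' hq' hsq' => ?_⟩
  · rcases ‹q.IsPrime›.mem_or_mem hmem with h' | h'
    · have e := congrArg (MvPolynomial.map (toAtPrime p hf)) hs
      rw [map_mul, MvPolynomial.algebraMap_def, MvPolynomial.map_map, MvPolynomial.map_map,
        MvPolynomial.map_map, htop] at e
      have h'' : φ s ∈ q.map φ := Ideal.mem_map_of_mem φ h'
      rw [show φ s = _ from e.symm, MvPolynomial.map_C] at h''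
      rcases hqp.mem_or_mem h'' with h3 | h3
      · exact hh₀ h3
      · rw [← MvPolynomial.map_C] at h3
        rw [← Ideal.mem_comap, hcomap] at h3
        exact hf (‹q.IsPrime›.mem_of_pow_mem m (by rw [← map_pow]; exact h3))
    · exact hf h'
  · haveI := hq'
    have hfq' : MvPolynomial.C f ∉ q' := fun h' => hsq' (q'.mul_mem_left s h')
    have hsq : s ∉ q' := fun h' => hsq' (q'.mul_mem_right _ h')
    have hdisj' : Disjoint (((Submonoid.powers f).map (MvPolynomial.C : R →+* MvPolynomial σ R) :
        Submonoid (MvPolynomial σ R)) : Set (MvPolynomial σ R)) (q' : Set (MvPolynomial σ R)) :=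
      Set.disjoint_left.mpr fun x hx hxq => by
        obtain ⟨_, ⟨i, rfl⟩, rfl⟩ := hx
        exact hfq' (hq'.mem_of_pow_mem i (by rw [← map_pow]; exact hxq))
    let ξ := MvPolynomial.map (σ := σ) (algebraMap R L)
    haveI hqL : (q'.map ξ).IsPrime :=
      IsLocalization.isPrime_of_isPrime_disjoint ((Submonoid.powers f).map MvPolynomial.C)
        (MvPolynomial σ L) q' inferInstance hdisj'
    have hcomap' : (q'.map ξ).comap ξ = q' :=
      IsLocalization.comap_map_of_isPrime_disjoint ((Submonoid.powers f).map MvPolynomial.C)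
        (MvPolynomial σ L) inferInstance hdisj'
    letI : Algebra A L := ψ.toAlgebra
    haveI : ((q'.map ξ).comap (MvPolynomial.map ψ)).IsPrime := Ideal.IsPrime.comap _
    have h₀q : h₀ ∉ (q'.map ξ).comap (MvPolynomial.map ψ) := fun h' => by
      have : ξ s ∈ q'.map ξ := by
        show MvPolynomial.map (algebraMap R L) s ∈ _
        rw [show MvPolynomial.map (algebraMap R L) s = _ from hs.symm]
        exact (q'.map ξ).mul_mem_right _ h'
      rw [← Ideal.mem_comap, hcomap'] at this
      exact hsq this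
    have hA' : FlatAt A (Coker g₀) ((q'.map ξ).comap (MvPolynomial.map ψ)) :=
      hsub (show (⟨_, ‹((q'.map ξ).comap (MvPolynomial.map ψ)).IsPrime›⟩ :
        PrimeSpectrum (MvPolynomial σ A)) ∈ _ from h₀q)
    let gL := fun l => vmap (algebraMap R L) (g l)
    have hL : FlatAt L (Coker gL) (q'.map ξ) :=
      FlatAt.baseChange (MvPolynomial.map ψ) (cokerMap g₀ gL hg) (isBaseChange_cokerMap g₀ gL hg)
        (cokerMap_smul g₀ gL hg) (q'.map ξ) le_rfl hA'
    refine FlatAt.of_localization ξ (cokerMap g gL fun _ => rfl)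
      (isBaseChange_cokerMap g gL fun _ => rfl) (cokerMap_smul g gL fun _ => rfl)
      (Submonoid.powers f) q' ?_ ?_ hL
    · rintro _ ⟨i, rfl⟩ h'
      exact hfq' (hq'.mem_of_pow_mem i (by rw [← map_pow]; exact h'))
    · intro s' hs'
      obtain ⟨⟨t, ⟨_, _, ⟨i, rfl⟩, rfl⟩⟩, ht⟩ := IsLocalization.surj
        ((Submonoid.powers f).map (MvPolynomial.C : R →+* MvPolynomial σ R)) s'
      refine ⟨t, fun h' => hs' ?_, ξ (MvPolynomial.C (f ^ i)), by rw [mul_comm]; exact ht.symm⟩
      have h'' : ξ t ∈ q'.map ξ := Ideal.mem_map_of_mem ξ h'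
      rw [show ξ t = _ from ht.symm] at h''
      refine (hqL.mem_or_mem h'').resolve_right fun h3 => ?_
      refine hfq' (hq'.mem_of_pow_mem i ?_)
      rw [← map_pow, ← hcomap']
      exact h3

/-- Openness of the flat locus of a finitely presented module over a finitely presented algebra. -/
theorem isOpen_flatLocus {R S M : Type u} [CommRing R] [CommRing S] [Algebra R S]
    [Algebra.FinitePresentation R S] [AddCommGroup M] [Module R M] [Module S M]
    [IsScalarTower R S M] [Module.FinitePresentation S M] :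
    IsOpen {q : PrimeSpectrum S | FlatAt R M q.asIdeal} := by
  classical
  obtain ⟨n, π, hπ, hker⟩ := (inferInstance : Algebra.FinitePresentation R S).out
  let P := MvPolynomial (Fin n) R
  letI : Algebra P S := π.toRingHom.toAlgebra
  letI : Module P M := Module.compHom M π.toRingHom
  haveI : IsScalarTower P S M := IsScalarTower.of_algebraMap_smul fun _ _ => rfl
  haveI : IsScalarTower R P M := IsScalarTower.of_algebraMap_smul fun r z => by
    show π (algebraMap R _ r) • z = _
    rw [π.commutes, algebraMap_smul]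
  haveI : Module.FinitePresentation P S :=
    Module.finitePresentation_of_surjective (Algebra.linearMap P S) hπ hker
  haveI : Module.FinitePresentation P M := Module.FinitePresentation.trans (R := P) (M := M) S
  obtain ⟨m, K, e, hK⟩ := Module.FinitePresentation.exists_fin P M
  obtain ⟨k, g, hg⟩ := Submodule.fg_iff_exists_fin_generating_family.mp hK
  subst hg
  have hopen : IsOpen {q : PrimeSpectrum P | FlatAt R (Coker g) q.asIdeal} := by
    rw [isOpen_iff_forall_mem_open]
    intro q hq
    obtain ⟨s, hs, hs'⟩ := exists_flat_nbhd g q.asIdeal hq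
    exact ⟨PrimeSpectrum.basicOpen s, fun q' hq' => hs' q'.asIdeal q'.isPrime hq',
      (PrimeSpectrum.basicOpen s).isOpen, hs⟩
  convert hopen.preimage (PrimeSpectrum.continuous_comap π.toRingHom) using 1
  refine Set.ext fun q => ?_
  show FlatAt R M q.asIdeal ↔ FlatAt R (Coker g) (q.asIdeal.comap π.toRingHom)
  rw [← flatAt_comap_iff π.toRingHom hπ (fun _ _ => rfl) q.asIdeal]
  exact ⟨fun h => h.of_linearEquiv e, fun h => h.of_linearEquiv e.symm⟩

end Groth.Agent.Flat.OpenLocus
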