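import Groth.Agent.Flat.FibreScheme
import Groth.Agent.Locus.EtaleCriterion
import Groth.Agent.S0386
import Groth.Prelude.Def_MoreMor

/-!
The fibrewise flatness criterion at a point.
-/

set_option autoImplicit false
set_option backward.isDefEq.respectTransparency false

noncomputable section

universe u

namespace Groth.Agent.Flat.FibreAt

open AlgebraicGeometry CategoryTheory CategoryTheory.Limits

variable {X Y S : Scheme.{u}}

/-- precomposing with an open immersion does not change stalk maps -/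
theorem flat_stalkMap_comp_iff {W : Scheme.{u}} (j : W ⟶ X) [IsOpenImmersion j] (f : X ⟶ Y)
    (z : W) : ((j ≫ f).stalkMap z).hom.Flat ↔ (f.stalkMap (j z)).hom.Flat := by
  rw [Scheme.Hom.stalkMap_comp]
  exact RingHom.Flat.respectsIso.cancel_right_isIso _ _

theorem isOpen_flat_stalkMap (f : X ⟶ Y) [LocallyOfFinitePresentation f] :
    IsOpen {x : X | (f.stalkMap x).hom.Flat} :=
  Groth.Agent.S0386.result f

/-- flatness at a point is stable under base change -/
theorem flat_stalkMap_of_isPullback {X' Y' : Scheme.{u}} {g' : X' ⟶ X} {f' : X' ⟶ Y'} {f : X ⟶ Y}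
    {g : Y' ⟶ Y} (h : IsPullback g' f' f g) [LocallyOfFinitePresentation f] (x' : X')
    (hx : (f.stalkMap (g' x')).hom.Flat) : (f'.stalkMap x').hom.Flat := by
  let U : X.Opens := ⟨_, isOpen_flat_stalkMap f⟩
  have hU : Flat (U.ι ≫ f) := Flat.of_stalkMap _ fun z =>
    (flat_stalkMap_comp_iff U.ι f z).mpr z.2
  have hsq := (isPullback_morphismRestrict g' U).paste_vert h
  have hfl : Flat ((g' ⁻¹ᵁ U).ι ≫ f') := MorphismProperty.of_isPullback hsq hU
  exact (flat_stalkMap_comp_iff (g' ⁻¹ᵁ U).ι f' ⟨x', hx⟩).mp (Flat.stalkMap _ _)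

/-- the fibre map is a base change -/
theorem isPullback_fiberMap (f : X ⟶ Y) (g : Y ⟶ S) (s : S) :
    IsPullback ((f ≫ g).fiberι s) (MoreMor.fiberMap f g s) f (g.fiberι s) := by
  refine IsPullback.of_bot ?_ (pullback.lift_fst _ _ _).symm
    (IsPullback.of_hasPullback g (S.fromSpecResidueField s))
  have e : MoreMor.fiberMap f g s ≫ pullback.snd g (S.fromSpecResidueField s) =
      (f ≫ g).fiberToSpecResidueField s := pullback.lift_snd _ _ _
  rw [e]
  exact IsPullback.of_hasPullback (f ≫ g) (S.fromSpecResidueField s)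

/-- the fibrewise criterion at a point -/
theorem flat_stalkMap_of_fibre (f : X ⟶ Y) (g : Y ⟶ S) [LocallyOfFinitePresentation (f ≫ g)]
    [LocallyOfFiniteType g] (x : X) (hh : ((f ≫ g).stalkMap x).hom.Flat)
    (hfib : ((MoreMor.fiberMap f g (g (f x))).stalkMap ((f ≫ g).asFiber x)).hom.Flat) :
    (f.stalkMap x).hom.Flat := by
  have : LocallyOfFinitePresentation f :=
    Groth.Agent.Mor.Cancel.locallyOfFinitePresentation_of_comp f g
  let s := g (f x)
  let fm := MoreMor.fiberMap f g s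
  let ι := (f ≫ g).fiberι s
  haveI : LocallyOfFinitePresentation fm :=
    MorphismProperty.of_isPullback (isPullback_fiberMap f g s) inferInstance
  obtain ⟨W₀, hW₀, hL⟩ :=
    (ι.isEmbedding.isInducing.isOpen_iff).mp (isOpen_flat_stalkMap fm)
  let W₁ : X.Opens := ⟨W₀, hW₀⟩
  have hxW : x ∈ W₁ := by
    have : ι ((f ≫ g).asFiber x) = x := (f ≫ g).fiberι_asFiber x
    show x ∈ W₀
    rw [← this]
    exact (Set.ext_iff.mp hL _).mpr hfib
  let f₀ := W₁.ι ≫ f
  -- the fibre map of the restriction is flat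
  have hflat : Flat (pullback.snd f₀ (g.fiberι s)) := by
    let j : pullback f₀ (g.fiberι s) ⟶ (f ≫ g).fiber s :=
      (isPullback_fiberMap f g s).lift (pullback.fst _ _ ≫ W₁.ι) (pullback.snd _ _)
        (by rw [Category.assoc]; exact pullback.condition)
    have hj₁ : j ≫ ι = pullback.fst _ _ ≫ W₁.ι := IsPullback.lift_fst _ _ _ _
    have hj₂ : j ≫ fm = pullback.snd _ _ := IsPullback.lift_snd _ _ _ _
    have hsq : IsPullback (pullback.fst f₀ (g.fiberι s)) j W₁.ι ι :=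
      IsPullback.of_bot (by rw [hj₂]; exact IsPullback.of_hasPullback f₀ (g.fiberι s)) hj₁.symm
        (isPullback_fiberMap f g s)
    haveI : IsOpenImmersion j := MorphismProperty.of_isPullback hsq inferInstance
    rw [← hj₂]
    refine Flat.of_stalkMap _ fun z => (flat_stalkMap_comp_iff j fm z).mpr ?_
    refine (Set.ext_iff.mp hL _).mp ?_
    show ι (j z) ∈ W₀
    rw [← Scheme.Hom.comp_apply, hj₁, Scheme.Hom.comp_apply]
    exact ((pullback.fst f₀ (g.fiberι s)) z).2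
  refine (flat_stalkMap_comp_iff W₁.ι f ⟨x, hxW⟩).mp ?_
  have hh₀ : ((f₀ ≫ g).stalkMap ⟨x, hxW⟩).hom.Flat := by
    rw [show f₀ ≫ g = W₁.ι ≫ (f ≫ g) from Category.assoc _ _ _]
    exact (flat_stalkMap_comp_iff W₁.ι (f ≫ g) ⟨x, hxW⟩).mpr hh
  haveI : LocallyOfFinitePresentation (f₀ ≫ g) := by
    rw [show f₀ ≫ g = W₁.ι ≫ (f ≫ g) from Category.assoc _ _ _]
    infer_instance
  show (f₀.stalkMap ⟨x, hxW⟩).hom.Flat
  generalize hx₀ : (⟨x, hxW⟩ : (W₁ : Scheme)) = x₀ at hh₀ ⊢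
  have hs : g (f₀ x₀) = s := by subst hx₀; rfl
  obtain ⟨_, ⟨U, hU, rfl⟩, hxU, -⟩ :=
    S.isBasis_affineOpens.exists_subset_of_mem_open (Set.mem_univ (g (f₀ x₀))) isOpen_univ
  obtain ⟨_, ⟨V, hV, rfl⟩, hxV, hVU⟩ :=
    Y.isBasis_affineOpens.exists_subset_of_mem_open (show f₀ x₀ ∈ g ⁻¹ᵁ U from hxU) (g ⁻¹ᵁ U).isOpen
  obtain ⟨_, ⟨W, hW, rfl⟩, hxW', hWV⟩ :=
    (W₁ : Scheme).isBasis_affineOpens.exists_subset_of_mem_open
      (show x₀ ∈ f₀ ⁻¹ᵁ V from hxV) (f₀ ⁻¹ᵁ V).isOpen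
  have eV : V ≤ g ⁻¹ᵁ U := hVU
  have eW : W ≤ f₀ ⁻¹ᵁ V := hWV
  have eWU : W ≤ (f₀ ≫ g) ⁻¹ᵁ U := fun y hy => eV (eW hy)
  rw [Groth.Agent.Locus.BaseChange.flat_stalkMap_iff U hU W hW eWU hxW'] at hh₀
  rw [Groth.Agent.Locus.BaseChange.flat_stalkMap_iff V hV W hW eW hxW']
  let q := hW.primeIdealOf ⟨x₀, hxW'⟩
  let p := PrimeSpectrum.comap ((f₀ ≫ g).appLE U W eWU).hom q
  have hp : hU.fromSpec p = s := by
    rw [← hs, show p = hU.primeIdealOf ⟨(f₀ ≫ g) x₀, eWU hxW'⟩ from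
      IsAffineOpen.comap_primeIdealOf_appLE U hU W hW eWU hxW', IsAffineOpen.fromSpec_primeIdealOf]
    rfl
  have hfib' := Groth.Agent.Flat.FibreScheme.property_fibre_chart_at (P := @Flat) f₀ g hU hV eV hW
    eW p.asIdeal (by
      show Flat (pullback.snd f₀ (g.fiberι (hU.fromSpec p)))
      rw [hp]
      exact hflat)
  letI := (g.appLE U V eV).hom.toAlgebra
  letI := (f₀.appLE V W eW).hom.toAlgebra
  letI := ((f₀ ≫ g).appLE U W eWU).hom.toAlgebra
  haveI : IsScalarTower Γ(S, U) Γ(Y, V) Γ(W₁, W) := IsScalarTower.of_algebraMap_eq' (by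
    simp only [RingHom.algebraMap_toAlgebra, ← CommRingCat.hom_comp, Scheme.Hom.appLE_comp_appLE])
  haveI : Algebra.FiniteType Γ(S, U) Γ(Y, V) := g.finiteType_appLE hU hV eV
  haveI : Algebra.FinitePresentation Γ(S, U) Γ(W₁, W) :=
    (f₀ ≫ g).finitePresentation_appLE hU hW eWU
  refine (FlatAt.flatAt_iff q.asIdeal (Algebra.linearMap Γ(W₁, W) _)).mp ?_
  exact FibreCriterion.flatAt_of_fibre q.asIdeal
    ((FlatAt.flatAt_iff q.asIdeal (Algebra.linearMap Γ(W₁, W) _)).mpr hh₀)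
    (FibreScheme.flatAtKilled_of_fibre _ q.asIdeal rfl
      (FibreScheme.flat_baseChange_of_includeRight _ hfib'))

/-- the fibrewise criterion of flatness at a point -/
theorem flat_stalkMap_iff_fibre (f : X ⟶ Y) (g : Y ⟶ S) [LocallyOfFinitePresentation (f ≫ g)]
    [LocallyOfFiniteType g] (x : X) :
    ((f ≫ g).stalkMap x).hom.Flat ∧
        ((MoreMor.fiberMap f g (g (f x))).stalkMap ((f ≫ g).asFiber x)).hom.Flat ↔
      (g.stalkMap (f x)).hom.Flat ∧ (f.stalkMap x).hom.Flat := by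
  have : LocallyOfFinitePresentation f :=
    Groth.Agent.Mor.Cancel.locallyOfFinitePresentation_of_comp f g
  constructor
  · rintro ⟨hh, hfib⟩
    have hf := flat_stalkMap_of_fibre f g x hh hfib
    exact ⟨Groth.Agent.Locus.EtaleCriterion.flat_stalkMap_of_comp g f x hf hh, hf⟩
  · rintro ⟨hg, hf⟩
    constructor
    · rw [Scheme.Hom.stalkMap_comp]
      exact hg.comp hf
    · refine flat_stalkMap_of_isPullback (isPullback_fiberMap f g (g (f x))) _ ?_
      have hx : ∀ y : X, y = x → (f.stalkMap y).hom.Flat := by rintro y rfl; exact hf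
      exact hx _ ((f ≫ g).fiberι_asFiber x)

theorem isOpen_flat_fibre_locus (f : X ⟶ Y) (g : Y ⟶ S) [LocallyOfFinitePresentation (f ≫ g)]
    [LocallyOfFiniteType g] :
    IsOpen {x : X | (g.stalkMap (f x)).hom.Flat ∧ (f.stalkMap x).hom.Flat} := by
  have : LocallyOfFinitePresentation f :=
    Groth.Agent.Mor.Cancel.locallyOfFinitePresentation_of_comp f g
  convert (isOpen_flat_stalkMap (f ≫ g)).inter (isOpen_flat_stalkMap f) using 1
  ext x
  simp only [Set.mem_setOf_eq, Set.mem_inter_iff]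
  constructor
  · rintro ⟨hg, hf⟩
    refine ⟨?_, hf⟩
    rw [Scheme.Hom.stalkMap_comp]
    exact hg.comp hf
  · rintro ⟨hh, hf⟩
    exact ⟨Groth.Agent.Locus.EtaleCriterion.flat_stalkMap_of_comp g f x hf hh, hf⟩

end Groth.Agent.Flat.FibreAt
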