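import Mathlib
import Groth.Agent.Flat.FibreScheme
import Groth.Prelude.Def_MoreMor

/-!
Deformations over thickenings: properties are detected on the reduction.
-/

set_option autoImplicit false
set_option backward.isDefEq.respectTransparency false
set_option backward.isDefEq.respectTransparency.types false

universe u

namespace Groth.Agent.Flat.DeformFp

open AlgebraicGeometry CategoryTheory CategoryTheory.Limits

variable {X X' Y Y' S S' : Scheme.{u}} {iX : X ⟶ X'} {iY : Y ⟶ Y'} {iS : S ⟶ S'}
  {f : X ⟶ Y} {f' : X' ⟶ Y'} {g : Y ⟶ S} {g' : Y' ⟶ S'}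

theorem isPullback_reduction (hcX : IsPullback iX (f ≫ g) (f' ≫ g') iS)
    (hcY : IsPullback iY g g' iS) (w : iX ≫ f' = f ≫ iY) : IsPullback iX f f' iY :=
  IsPullback.of_bot hcX w hcY

theorem property_fibres (P : MorphismProperty Scheme.{u}) [P.IsStableUnderBaseChange]
    [P.RespectsIso] (hS : MoreMor.IsThickening iS) (hcX : IsPullback iX (f ≫ g) (f' ≫ g') iS)
    (hcY : IsPullback iY g g' iS) (w : iX ≫ f' = f ≫ iY) (hf : P f) (s : S') :
    P (pullback.snd f' (g'.fiberι s)) := by
  haveI := hS.1
  haveI := hS.2
  haveI : IsClosedImmersion (pullback.snd iS (S'.fromSpecResidueField s)) :=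
    MorphismProperty.pullback_snd _ _ hS.1
  haveI : Surjective (pullback.snd iS (S'.fromSpecResidueField s)) :=
    MorphismProperty.pullback_snd _ _ hS.2
  haveI : IsIso (pullback.snd iS (S'.fromSpecResidueField s)) :=
    isIso_of_isClosedImmersion_of_surjective _
  let k : Spec (S'.residueField s) ⟶ S :=
    inv (pullback.snd iS (S'.fromSpecResidueField s)) ≫ pullback.fst iS (S'.fromSpecResidueField s)
  have hk : k ≫ iS = S'.fromSpecResidueField s := by
    simp only [k, Category.assoc, pullback.condition, IsIso.inv_hom_id_assoc]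
  let j : g'.fiber s ⟶ Y := hcY.lift (g'.fiberι s) (g'.fiberToSpecResidueField s ≫ k) (by
    rw [Category.assoc, hk]; exact pullback.condition)
  have hj : j ≫ iY = g'.fiberι s := hcY.lift_fst _ _ _
  rw [← hj, ← P.cancel_left_of_respectsIso (pullbackLeftPullbackSndIso f' iY j).hom,
    pullbackLeftPullbackSndIso_hom_snd]
  refine P.pullback_snd _ _ ?_
  have hsq := isPullback_reduction hcX hcY w
  rw [← P.cancel_left_of_respectsIso hsq.isoPullback.hom, hsq.isoPullback_hom_snd]
  exact hf

variable [Flat (f' ≫ g')] [LocallyOfFinitePresentation (f' ≫ g')] [LocallyOfFiniteType g']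
  (hS : MoreMor.IsThickening iS) (hcX : IsPullback iX (f ≫ g) (f' ≫ g') iS)
  (hcY : IsPullback iY g g' iS) (w : iX ≫ f' = f ≫ iY)

include hS hcX hcY w

theorem smooth_iff : Smooth f ↔ Smooth f' :=
  ⟨fun h => FibreScheme.smooth_of_fibres g' (f' ≫ g') f' rfl
      (property_fibres @Smooth hS hcX hcY w h),
    fun h => MorphismProperty.of_isPullback (P := @Smooth) (isPullback_reduction hcX hcY w) h⟩

theorem etale_iff : Etale f ↔ Etale f' :=
  ⟨fun h => FibreScheme.etale_of_fibres g' (f' ≫ g') f' rfl
      (property_fibres @Etale hS hcX hcY w h),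
    fun h => MorphismProperty.of_isPullback (P := @Etale) (isPullback_reduction hcX hcY w) h⟩

theorem isOpenImmersion_iff : IsOpenImmersion f ↔ IsOpenImmersion f' :=
  ⟨fun h => FibreScheme.isOpenImmersion_of_fibres g' (f' ≫ g') f' rfl
      (property_fibres @IsOpenImmersion hS hcX hcY w h),
    fun h => MorphismProperty.of_isPullback (P := @IsOpenImmersion)
      (isPullback_reduction hcX hcY w) h⟩

theorem isIso_iff : IsIso f ↔ IsIso f' := by
  constructor
  · intro h
    haveI := (isOpenImmersion_iff hS hcX hcY w).mp inferInstance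
    haveI : Surjective f' := FibreScheme.surjective_of_fibres g' f'
      (property_fibres @Surjective hS hcX hcY w inferInstance)
    exact (isIso_iff_isOpenImmersion_and_surjective f').mpr ⟨inferInstance, inferInstance⟩
  · intro h
    exact MorphismProperty.of_isPullback (P := MorphismProperty.isomorphisms Scheme)
      (isPullback_reduction hcX hcY w) h

end Groth.Agent.Flat.DeformFp
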