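import Groth.Agent.Flat.FibreRegular
import Groth.Agent.Flat.FibreAt
import Groth.Agent.Locus.BaseChange
import Groth.Prelude.Def_BlowUp2
import Mathlib.AlgebraicGeometry.IdealSheaf.Functorial
import Mathlib.RingTheory.Nakayama

/-!
Ideal sheaves which are effective Cartier on every fibre.
-/

set_option autoImplicit false
set_option backward.isDefEq.respectTransparency false
set_option synthInstance.maxHeartbeats 100000

noncomputable section

universe u

namespace Groth.Agent.Flat.CartierFibre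

open scoped TensorProduct
open AlgebraicGeometry CategoryTheory CategoryTheory.Limits
open FlatAt FibreCriterion FibreScheme

section comap

variable {X Y : Scheme.{u}}

theorem fromSpec_appLE_top {V : X.Opens} (hV : IsAffineOpen V)
    (e : (⊤ : (Spec Γ(X, V)).Opens) ≤ hV.fromSpec ⁻¹ᵁ V) :
    hV.fromSpec.appLE V ⊤ e = (Scheme.ΓSpecIso Γ(X, V)).inv := by
  rw [Scheme.Hom.appLE, IsAffineOpen.fromSpec_app_self, Category.assoc, ← Functor.map_comp]
  exact (congrArg ((Scheme.ΓSpecIso Γ(X, V)).inv ≫ ·)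
    ((Spec Γ(X, V)).presheaf.map_id _)).trans (Category.comp_id _)

/-- the pullback ideal sheaf on affine charts -/
theorem ideal_comap (I : Y.IdealSheafData) (f : X ⟶ Y) (U : Y.affineOpens) (V : X.affineOpens)
    (e : V.1 ≤ f ⁻¹ᵁ U.1) :
    (I.comap f).ideal V = (I.ideal U).map (f.appLE U.1 V.1 e).hom := by
  apply le_antisymm
  · let m := (I.ideal U).map (f.appLE U.1 V.1 e).hom
    let q : Γ(X, V.1) ⟶ CommRingCat.of (Γ(X, V.1) ⧸ m) := CommRingCat.ofHom (Ideal.Quotient.mk m)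
    let g : Spec (.of (Γ(X, V.1) ⧸ m)) ⟶ X := Spec.map q ≫ V.2.fromSpec
    let k : Spec (.of (Γ(X, V.1) ⧸ m)) ⟶ I.subscheme :=
      Spec.map (CommRingCat.ofHom (Ideal.quotientMap m (f.appLE U.1 V.1 e).hom Ideal.le_comap_map)) ≫
        I.subschemeCover.f U
    have w : g ≫ f = k ≫ I.subschemeι := by
      simp only [g, k, Category.assoc, Scheme.IdealSheafData.subschemeCover_map_subschemeι,
        Scheme.IdealSheafData.glueDataObjι_ι]
      rw [← IsAffineOpen.SpecMap_appLE_fromSpec f U.2 V.2 e, ← Spec.map_comp_assoc,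
        ← Spec.map_comp_assoc]
      congr 2
    have h1 : (I.comap f).ideal V ≤ RingHom.ker (g.app V.1).hom := by
      have h2 : (I.comap f) ≤ g.ker := by
        rw [← pullback.lift_fst g k w]
        exact Scheme.Hom.le_ker_comp _ _
      exact (h2 V).trans (g.ideal_ker_le V)
    intro y hy
    have e1 : (⊤ : (Spec (.of (Γ(X, V.1) ⧸ m))).Opens) ≤ g ⁻¹ᵁ V.1 := fun z _ => by
      show V.2.fromSpec (Spec.map q z) ∈ V.1
      exact V.2.range_fromSpec.le ⟨_, rfl⟩
    have e2 : (⊤ : (Spec Γ(X, V.1)).Opens) ≤ V.2.fromSpec ⁻¹ᵁ V.1 := fun z _ =>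
      V.2.range_fromSpec.le ⟨_, rfl⟩
    have h3 : (g.appLE V.1 ⊤ e1) y = 0 := by
      rw [Scheme.Hom.appLE]
      show (Spec (.of (Γ(X, V.1) ⧸ m))).presheaf.map _ ((g.app V.1).hom y) = 0
      rw [RingHom.mem_ker.mp (h1 hy), map_zero]
    have h4 : g.appLE V.1 ⊤ e1 = q ≫ (Scheme.ΓSpecIso _).inv := by
      rw [← Scheme.Hom.appLE_comp_appLE (Spec.map q) V.2.fromSpec V.1 ⊤ ⊤ e2 le_top,
        fromSpec_appLE_top V.2 e2,
        show (Spec.map q).appLE ⊤ ⊤ le_top = (Spec.map q).appTop from Scheme.Hom.appLE_eq_app _]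
      exact (Scheme.ΓSpecIso_inv_naturality q).symm
    rw [h4] at h3
    refine Ideal.Quotient.eq_zero_iff_mem.mp ?_
    have hinj : Function.Injective (Scheme.ΓSpecIso (.of (Γ(X, V.1) ⧸ m))).inv :=
      (Scheme.ΓSpecIso (.of (Γ(X, V.1) ⧸ m))).symm.commRingCatIsoToRingEquiv.injective
    exact hinj (h3.trans (map_zero _).symm)
  · rw [Ideal.map_le_iff_le_comap]
    intro y hy
    rw [Ideal.mem_comap]
    show (f.appLE U.1 V.1 e).hom y ∈ (pullback.fst f I.subschemeι).ker.ideal V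
    rw [Scheme.Hom.ker_apply, RingHom.mem_ker]
    let fst := pullback.fst f I.subschemeι
    have e1 : fst ⁻¹ᵁ V.1 ≤ (fst ≫ f) ⁻¹ᵁ U.1 := fun z hz => e hz
    have e2 : fst ⁻¹ᵁ V.1 ≤ (pullback.snd f I.subschemeι ≫ I.subschemeι) ⁻¹ᵁ U.1 := by
      rw [← pullback.condition]; exact e1
    have h5 : f.appLE U.1 V.1 e ≫ fst.app V.1 =
        (pullback.snd f I.subschemeι ≫ I.subschemeι).appLE U.1 (fst ⁻¹ᵁ V.1) e2 := by
      rw [Scheme.Hom.app_eq_appLE, Scheme.Hom.appLE_comp_appLE]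
      simp only [fst, pullback.condition]
    have h6 : I.subschemeι.app U.1 y = 0 := by
      rw [← RingHom.mem_ker (f := (I.subschemeι.app U.1).hom), I.ker_subschemeι_app]
      exact hy
    show (f.appLE U.1 V.1 e ≫ fst.app V.1) y = 0
    rw [h5, Scheme.Hom.comp_appLE]
    show (pullback.snd f I.subschemeι).appLE _ _ _ (I.subschemeι.app U.1 y) = 0
    rw [h6, map_zero]

set_option maxHeartbeats 1000000 in
/-- effective Cartier ideals stay so along flat morphisms -/
theorem exists_basicOpen_generator {D : CommRingCat.{u}} {Z : Scheme.{u}} (J : Z.IdealSheafData) (j : Y ⟶ Z)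
    (hJ : BlowUp.IsEffCartierIdeal (J.comap j)) (t : Spec D ⟶ Y) [Flat t] (U : Z.affineOpens)
    (e : (⊤ : (Spec D).Opens) ≤ (t ≫ j) ⁻¹ᵁ U.1) (z : Spec D) :
    ∃ g : D, g ∉ z.asIdeal ∧ ∃ h : Localization.Away g, h ∈ nonZeroDivisors (Localization.Away g) ∧
      (J.ideal U).map ((algebraMap D (Localization.Away g)).comp
        (((t ≫ j).appLE U.1 ⊤ e) ≫ (Scheme.ΓSpecIso D).hom).hom) = Ideal.span {h} := by
  obtain ⟨U', hzU', f₀, hf₀, hU'⟩ := hJ (t z)
  obtain ⟨_, ⟨_, ⟨g, rfl⟩, rfl⟩, hg, hgU⟩ :=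
    PrimeSpectrum.isBasis_basic_opens.exists_subset_of_mem_open
      (show z ∈ ((t ⁻¹ᵁ U'.1 : (Spec D).Opens) : Set (Spec D)) from hzU') (t ⁻¹ᵁ U'.1).isOpen
  refine ⟨g, hg, ?_⟩
  let W : (Spec D).affineOpens := ⟨PrimeSpectrum.basicOpen g, IsAffineOpen.Spec_basicOpen g⟩
  letI : Algebra D Γ(Spec D, PrimeSpectrum.basicOpen g) :=
    StructureSheaf.openAlgebra D (Opposite.op (PrimeSpectrum.basicOpen g))
  haveI : IsLocalization.Away g Γ(Spec D, PrimeSpectrum.basicOpen g) :=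
    StructureSheaf.IsLocalization.to_basicOpen _ g
  let ε : Γ(Spec D, PrimeSpectrum.basicOpen g) ≃ₐ[D] Localization.Away g :=
    IsLocalization.algEquiv (Submonoid.powers g) _ _
  have e' : W.1 ≤ t ⁻¹ᵁ U'.1 := hgU
  have eW : W.1 ≤ (t ≫ j) ⁻¹ᵁ U.1 := le_trans le_top e
  have hW : (J.ideal U).map ((t ≫ j).appLE U.1 W.1 eW).hom = Ideal.span {t.appLE U'.1 W.1 e' f₀} := by
    rw [← ideal_comap J (t ≫ j) U W eW, Scheme.IdealSheafData.comap_comp,
      ideal_comap _ t U' W e', hU', Ideal.map_span, Set.image_singleton]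
  have hnzd : t.appLE U'.1 W.1 e' f₀ ∈ nonZeroDivisors Γ(Spec D, W.1) := by
    have hfl : (t.appLE U'.1 W.1 e').hom.Flat :=
      HasRingHomProperty.appLE @Flat t inferInstance U' W e'
    algebraize [(t.appLE U'.1 W.1 e').hom]
    rw [mem_nonZeroDivisors_iff_right]
    intro x hx
    have h0 : x ⊗ₜ[Γ(Y, U'.1)] (1 : Γ(Y, U'.1)) = 0 := by
      refine Module.Flat.lTensor_preserves_injective_linearMap
        (LinearMap.mulLeft Γ(Y, U'.1) f₀)
        (fun a b h => (mul_cancel_left_mem_nonZeroDivisors hf₀).mp h) ?_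
      rw [map_zero, LinearMap.lTensor_tmul, LinearMap.mulLeft_apply, mul_one, ← mul_one f₀,
        ← smul_eq_mul, ← TensorProduct.smul_tmul, Algebra.smul_def, RingHom.algebraMap_toAlgebra,
        mul_comm, hx, TensorProduct.zero_tmul]
    simpa using congrArg (TensorProduct.rid Γ(Y, U'.1) Γ(Spec D, W.1)) h0
  refine ⟨ε (t.appLE U'.1 W.1 e' f₀), mem_nonZeroDivisors_iff_right.mpr fun x hx => ?_, ?_⟩
  · obtain ⟨x, rfl⟩ := ε.surjective x
    rw [← map_mul, map_eq_zero_iff _ ε.injective] at hx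
    rw [mem_nonZeroDivisors_iff_right.mp hnzd x hx, map_zero]
  have hcomp : (algebraMap D (Localization.Away g)).comp
      (((t ≫ j).appLE U.1 ⊤ e) ≫ (Scheme.ΓSpecIso D).hom).hom =
      (ε : Γ(Spec D, PrimeSpectrum.basicOpen g) →+* Localization.Away g).comp
        ((t ≫ j).appLE U.1 W.1 eW).hom := by
    refine RingHom.ext fun y => ?_
    show algebraMap D _ ((Scheme.ΓSpecIso D).hom ((t ≫ j).appLE U.1 ⊤ e y)) = ε ((t ≫ j).appLE U.1 W.1 eW y)
    rw [← ε.commutes,
      ← Scheme.Hom.appLE_map (t ≫ j) e (homOfLE (le_top : W.1 ≤ ⊤)).op]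
    refine congrArg ε ?_
    have halg : (CommRingCat.ofHom (algebraMap D Γ(Spec D, PrimeSpectrum.basicOpen g))) =
        (Scheme.ΓSpecIso D).inv ≫ (Spec D).presheaf.map (homOfLE (le_top : W.1 ≤ ⊤)).op := rfl
    show (CommRingCat.ofHom (algebraMap D Γ(Spec D, PrimeSpectrum.basicOpen g)))
      ((Scheme.ΓSpecIso D).hom ((t ≫ j).appLE U.1 ⊤ e y)) = _
    rw [halg, CommRingCat.comp_apply, CommRingCat.comp_apply, Iso.hom_inv_id_apply]
  rw [hcomp, ← Ideal.map_map, hW, Ideal.map_span, Set.image_singleton]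
  rfl

end comap

section chart

attribute [local instance] Algebra.TensorProduct.rightAlgebra

/-- an affine chart of a fibre, up to a flat base change -/
theorem exists_fibre_chart {X S : Scheme.{u}} (φ : X ⟶ S) {V : S.Opens} (hV : IsAffineOpen V)
    {W : X.Opens} (hW : IsAffineOpen W) (eW : W ≤ φ ⁻¹ᵁ V) :
    letI := (φ.appLE V W eW).hom.toAlgebra
    ∀ (p : Ideal Γ(S, V)) [p.IsPrime],
      ∃ (s : S) (τ : Spec (.of (Γ(X, W) ⊗[Γ(S, V)] p.ResidueField)) ⟶ φ.fiber s), Flat τ ∧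
        τ ≫ φ.fiberι s =
          Spec.map (CommRingCat.ofHom Algebra.TensorProduct.includeLeftRingHom) ≫ hW.fromSpec := by
  letI := (φ.appLE V W eW).hom.toAlgebra
  intro p _
  let K := p.ResidueField
  let a : Spec (.of K) ⟶ S := Spec.map (CommRingCat.ofHom (algebraMap Γ(S, V) K)) ≫ hV.fromSpec
  let s := a (IsLocalRing.closedPoint K)
  let e := S.descResidueField (Scheme.stalkClosedPointTo a)
  have ha : Spec.map e ≫ S.fromSpecResidueField s = a :=
    Scheme.descResidueField_stalkClosedPointTo_fromSpecResidueField _ S a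
  haveI : Flat (Spec.map e) := by
    rw [HasRingHomProperty.Spec_iff (P := @Flat)]
    letI := e.hom.toAlgebra
    show Module.Flat (S.residueField s) K
    infer_instance
  let T := Γ(X, W) ⊗[Γ(S, V)] K
  let L : Spec (.of T) ⟶ Spec Γ(X, W) :=
    Spec.map (CommRingCat.ofHom Algebra.TensorProduct.includeLeftRingHom)
  let R' : Spec (.of T) ⟶ Spec (.of K) :=
    Spec.map (CommRingCat.ofHom Algebra.TensorProduct.includeRight.toRingHom)
  have sq : IsPullback L R' (Spec.map (φ.appLE V W eW))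
      (Spec.map (CommRingCat.ofHom (algebraMap Γ(S, V) K))) := by
    refine (IsPullback.of_hasPullback _ _).of_iso
      (pullbackSpecIso Γ(S, V) Γ(X, W) K) (Iso.refl _) (Iso.refl _) (Iso.refl _) ?_ ?_ ?_ ?_
    · rw [Iso.refl_hom, Category.comp_id]
      exact (pullbackSpecIso_hom_fst' Γ(S, V) Γ(X, W) K).symm
    · rw [Iso.refl_hom, Category.comp_id]
      exact (pullbackSpecIso_hom_snd Γ(S, V) Γ(X, W) K).symm
    · simp [RingHom.algebraMap_toAlgebra]
    · simp
  have sq' : IsPullback L R' (Spec.map (φ.appLE V W eW) ≫ hV.fromSpec) a :=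
    IsPullback.of_isLimit' ⟨sq.w_assoc hV.fromSpec⟩
      (PullbackCone.IsLimit.mk _
        (fun c => sq.lift c.fst c.snd ((cancel_mono hV.fromSpec).mp (by
          simpa only [Category.assoc, a] using c.condition)))
        (fun c => sq.lift_fst _ _ _) (fun c => sq.lift_snd _ _ _)
        (fun c m hm₁ hm₂ => sq.hom_ext (hm₁.trans (sq.lift_fst _ _ _).symm)
          (hm₂.trans (sq.lift_snd _ _ _).symm)))
  rw [IsAffineOpen.SpecMap_appLE_fromSpec φ hV hW eW] at sq'
  let j : Spec (.of T) ⟶ pullback φ a := pullback.lift (L ≫ hW.fromSpec) R'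
    (by rw [Category.assoc]; exact sq'.w)
  have hsq : IsPullback L j hW.fromSpec (pullback.fst φ a) :=
    IsPullback.of_bot (by simpa [j] using sq') (pullback.lift_fst _ _ _).symm
      (IsPullback.of_hasPullback φ a)
  haveI : IsOpenImmersion j := MorphismProperty.of_isPullback hsq inferInstance
  let m : pullback φ a ⟶ φ.fiber s := pullback.lift (pullback.fst φ a) (pullback.snd φ a ≫ Spec.map e)
    (by rw [Category.assoc, ha]; exact pullback.condition)
  haveI : Flat m := by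
    have h1 : IsPullback m (pullback.snd φ a) (φ.fiberToSpecResidueField s) (Spec.map e) := by
      refine IsPullback.of_right ?_ (pullback.lift_snd _ _ _)
        (IsPullback.of_hasPullback φ (S.fromSpecResidueField s))
      rw [show m ≫ pullback.fst φ (S.fromSpecResidueField s) = pullback.fst φ a from
        pullback.lift_fst _ _ _, ha]
      exact IsPullback.of_hasPullback φ a
    exact MorphismProperty.of_isPullback h1.flip inferInstance
  refine ⟨s, j ≫ m, inferInstance, ?_⟩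
  show (j ≫ m) ≫ pullback.fst φ (S.fromSpecResidueField s) = _
  rw [Category.assoc, pullback.lift_fst, pullback.lift_fst]

end chart

section algebra

open FibreRegular

variable {R C : Type u} [CommRing R] [CommRing C] [Algebra R C] (p : Ideal R) [p.IsPrime]

theorem exists_tmul_one (y : C ⊗[R] p.ResidueField) :
    ∃ (t : R) (c : C), t ∉ p ∧ t • y = c ⊗ₜ[R] (1 : p.ResidueField) := by
  induction y using TensorProduct.induction_on with
  | zero => exact ⟨1, 0, fun h => Ideal.IsPrime.ne_top ‹_› ((Ideal.eq_top_iff_one p).mpr h),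
      by simp⟩
  | add a b ha hb =>
    obtain ⟨t, H, ht, h⟩ := ha
    obtain ⟨t', H', ht', h'⟩ := hb
    refine ⟨t * t', t' • H + t • H', fun hh => (Ideal.IsPrime.mem_or_mem ‹_› hh).elim ht ht', ?_⟩
    rw [TensorProduct.add_tmul, ← TensorProduct.smul_tmul', ← TensorProduct.smul_tmul', ← h,
      ← h', smul_add, smul_smul, smul_smul, mul_comm t' t]
  | tmul f k =>
    obtain ⟨a, t, ht, h⟩ := exists_smul_eq_algebraMap p k
    refine ⟨t, a • f, ht, ?_⟩
    rw [← TensorProduct.tmul_smul, Algebra.smul_def t k, h, TensorProduct.smul_tmul,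
      Algebra.algebraMap_eq_smul_one]

theorem exists_mul_mem_map {z : C} (h : z ⊗ₜ[R] (1 : p.ResidueField) = 0) :
    ∃ t, t ∉ p ∧ algebraMap R C t * z ∈ p.map (algebraMap R C) := by
  let pC := p.map (algebraMap R C)
  obtain ⟨t, ht, htt⟩ := exists_smul_eq_zero_of_one_tmul (N := C ⧸ pC) p
    (fun a ha z => by
      obtain ⟨z, rfl⟩ := Ideal.Quotient.mk_surjective z
      rw [Algebra.smul_def]
      exact Ideal.Quotient.eq_zero_iff_mem.mpr
        (Ideal.mul_mem_right _ _ (Ideal.mem_map_of_mem _ ha)))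
    (Ideal.Quotient.mk pC z) (by
      have h := congrArg (fun w => TensorProduct.comm R (C ⧸ pC) p.ResidueField
        ((Ideal.Quotient.mkₐ R pC).toLinearMap.rTensor _ w)) h
      simpa using h)
  refine ⟨t, ht, ?_⟩
  rw [Algebra.smul_def] at htt
  exact Ideal.Quotient.eq_zero_iff_mem.mp htt

/-- a point of the fibre ring over a prime -/
theorem exists_fibre_prime (q : Ideal C) [q.IsPrime] :
    ∃ P : PrimeSpectrum (C ⊗[R] (q.comap (algebraMap R C)).ResidueField),
      P.asIdeal.comap (Algebra.TensorProduct.includeLeftRingHom :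
        C →+* C ⊗[R] (q.comap (algebraMap R C)).ResidueField) = q := by
  let ψ : C ⊗[R] (q.comap (algebraMap R C)).ResidueField →ₐ[R] q.ResidueField :=
    Algebra.TensorProduct.lift (IsScalarTower.toAlgHom R C q.ResidueField)
      (Ideal.ResidueField.mapₐ (q.comap (algebraMap R C)) q (Algebra.ofId R C) rfl)
      fun _ _ => .all _ _
  refine ⟨⟨RingHom.ker ψ.toRingHom, RingHom.ker_isPrime _⟩, Ideal.ext fun c => ?_⟩
  show ψ (c ⊗ₜ 1) = 0 ↔ c ∈ q
  rw [Algebra.TensorProduct.lift_tmul, map_one, mul_one]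
  exact Ideal.algebraMap_residueField_eq_zero

theorem exists_generator (q : Ideal C) [q.IsPrime] (I : Ideal C)
    (P : Ideal (C ⊗[R] (q.comap (algebraMap R C)).ResidueField)) [P.IsPrime]
    (hP : P.comap (Algebra.TensorProduct.includeLeftRingHom :
      C →+* C ⊗[R] (q.comap (algebraMap R C)).ResidueField) = q)
    (g : C ⊗[R] (q.comap (algebraMap R C)).ResidueField) (hg : g ∉ P) (h : Localization.Away g)
    (hh : h ∈ nonZeroDivisors (Localization.Away g))
    (hI : I.map ((algebraMap _ (Localization.Away g)).comp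
      (Algebra.TensorProduct.includeLeftRingHom :
        C →+* C ⊗[R] (q.comap (algebraMap R C)).ResidueField)) = Ideal.span {h}) :
    ∃ a ∈ I,
      (∀ y : C ⊗[R] (q.comap (algebraMap R C)).ResidueField, a • y = 0 →
        ∃ s, s ∉ q ∧ s • y = 0) ∧
      ∀ i ∈ I, ∃ s, s ∉ q ∧
        s * i ∈ Ideal.span {a} ⊔ (q.comap (algebraMap R C)).map (algebraMap R C) := by
  classical
  let D := C ⊗[R] (q.comap (algebraMap R C)).ResidueField
  let ι : C →+* D := Algebra.TensorProduct.includeLeftRingHom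
  let L := Localization.Away g
  let P' : Ideal L := P.map (algebraMap D L)
  have hdisj : Disjoint ((Submonoid.powers g : Submonoid D) : Set D) P := by
    rw [Set.disjoint_left]
    rintro _ ⟨n, rfl⟩ hn
    exact hg (Ideal.IsPrime.mem_of_pow_mem ‹_› n hn)
  haveI hP' : P'.IsPrime := IsLocalization.isPrime_of_isPrime_disjoint _ _ P ‹_› hdisj
  have hcomap : P'.comap (algebraMap D L) = P :=
    IsLocalization.comap_map_of_isPrime_disjoint _ L ‹_› hdisj
  have hmem : ∀ i ∈ I, ∃ e, algebraMap D L (ι i) = h * e := fun i hi =>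
    Ideal.mem_span_singleton'.mp (hI.le (Ideal.mem_map_of_mem _ hi)) |>.imp fun e he => by
      rw [mul_comm]; exact he.symm
  choose e he using hmem
  have hex : ∃ i hi, e i hi ∉ P' := by
    by_contra hne
    push Not at hne
    have h1 : h ∈ Ideal.span {h} * P' := by
      refine (hI.symm.le.trans (Ideal.span_le.mpr ?_)) (Ideal.mem_span_singleton_self h)
      rintro _ ⟨i, hi, rfl⟩
      show algebraMap D L (ι i) ∈ _
      rw [he i hi]
      exact Ideal.mul_mem_mul (Ideal.mem_span_singleton_self h) (hne i hi)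
    obtain ⟨z, hz, hze⟩ := Ideal.mem_span_singleton_mul.mp h1
    have : z = 1 := sub_eq_zero.mp (mem_nonZeroDivisors_iff_right.mp hh (z - 1)
      (by rw [sub_mul, one_mul, mul_comm, hze, sub_self]))
    exact hP'.ne_top ((Ideal.eq_top_iff_one _).mpr (this ▸ hz))
  obtain ⟨a, ha, hea⟩ := hex
  obtain ⟨⟨d, ⟨_, n, rfl⟩⟩, hd⟩ := IsLocalization.surj (Submonoid.powers g) (e a ha)
  have hdP : d ∉ P := fun hd' => hea (by
    have : e a ha * algebraMap D L (g ^ n) ∈ P' := hd ▸ Ideal.mem_map_of_mem _ hd'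
    exact (hP'.mem_or_mem this).resolve_right fun h' => hg (Ideal.IsPrime.mem_of_pow_mem ‹_› n
      (hcomap ▸ (Ideal.mem_comap.mpr h' : g ^ n ∈ P'.comap (algebraMap D L)))))
  have key : ∀ z : D, z ∉ P → ∃ (t : R) (c : C), c ∉ q ∧ algebraMap R D t * z = ι c := by
    intro z hz
    obtain ⟨t, c, ht, htc⟩ := exists_tmul_one _ z
    refine ⟨t, c, fun hc => ?_, (Algebra.smul_def t z).symm.trans htc⟩
    have hc' : ι c ∈ P := by rw [← hP] at hc; exact hc
    rw [show ι c = algebraMap R D t * z from (htc.symm.trans (Algebra.smul_def t z))] at hc'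
    refine (Ideal.IsPrime.mem_or_mem ‹_› hc').elim (fun h1 => ht ?_) hz
    show algebraMap R C t ∈ q
    rw [← hP]
    exact h1
  refine ⟨a, ha, fun y hy => ?_, fun i hi => ?_⟩
  · have hy' : ι a * y = 0 := (Algebra.smul_def a y).symm.trans hy
    have h1 : algebraMap D L (d * y) = 0 := by
      refine mem_nonZeroDivisors_iff_right.mp hh _ ?_
      rw [map_mul, ← hd, show e a ha * algebraMap D L (g ^ n) * algebraMap D L y * h =
        algebraMap D L (g ^ n) * (h * e a ha * algebraMap D L y) from by ring, ← he a ha,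
        ← map_mul _ (ι a), hy', map_zero, mul_zero]
    obtain ⟨⟨_, m, rfl⟩, hm⟩ := (IsLocalization.map_eq_zero_iff (Submonoid.powers g) L _).mp h1
    obtain ⟨t, c, hc, htc⟩ := key (g ^ m * d) fun h' =>
      (Ideal.IsPrime.mem_or_mem ‹_› h').elim (fun h1 => hg (Ideal.IsPrime.mem_of_pow_mem ‹_› m h1)) hdP
    refine ⟨c, hc, ?_⟩
    rw [Algebra.smul_def]
    show ι c * y = 0
    rw [← htc, mul_assoc, mul_assoc, show g ^ m * (d * y) = 0 from hm, mul_zero]
  · obtain ⟨⟨r, ⟨_, k, rfl⟩⟩, hr⟩ := IsLocalization.surj (Submonoid.powers g) (e i hi)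
    have h1 : algebraMap D L (g ^ k * d * ι i) = algebraMap D L (g ^ n * r * ι a) := by
      rw [map_mul, map_mul, map_mul, map_mul, ← hd, ← hr, he i hi, he a ha]
      ring
    obtain ⟨⟨_, m, rfl⟩, hm⟩ := (IsLocalization.eq_iff_exists (Submonoid.powers g) L).mp h1
    have hm' : g ^ m * (g ^ k * d * ι i) = g ^ m * (g ^ n * r * ι a) := hm
    obtain ⟨t, c, hc, htc⟩ := key (g ^ m * g ^ k * d) fun h' =>
      (Ideal.IsPrime.mem_or_mem ‹_› h').elim
        (fun h2 => (Ideal.IsPrime.mem_or_mem ‹_› h2).elim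
          (fun h3 => hg (Ideal.IsPrime.mem_of_pow_mem ‹_› m h3))
          (fun h3 => hg (Ideal.IsPrime.mem_of_pow_mem ‹_› k h3))) hdP
    obtain ⟨t', b, ht', htb⟩ := exists_tmul_one _ (algebraMap R D t * (g ^ m * g ^ n * r))
    rw [Algebra.smul_def] at htb
    have h2 : ι (algebraMap R C t' * c * i - b * a) = 0 := by
      rw [map_sub, map_mul, map_mul, map_mul, sub_eq_zero, ← htc,
        show ι (algebraMap R C t') = algebraMap R D t' from
          (Algebra.TensorProduct.includeLeft (S := R)).commutes t',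
        show ι b = algebraMap R D t' * (algebraMap R D t * (g ^ m * g ^ n * r)) from htb.symm]
      linear_combination (algebraMap R D t' * algebraMap R D t) * hm'
    obtain ⟨t'', ht'', hmem'⟩ := exists_mul_mem_map (q.comap (algebraMap R C))
      (z := algebraMap R C t' * c * i - b * a) h2
    refine ⟨algebraMap R C t'' * algebraMap R C t' * c, fun h' =>
      ((inferInstance : q.IsPrime).mem_or_mem h').elim
        (fun h3 => ((inferInstance : q.IsPrime).mem_or_mem h3).elim ht'' ht') hc, ?_⟩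
    rw [show algebraMap R C t'' * algebraMap R C t' * c * i =
      algebraMap R C t'' * b * a + algebraMap R C t'' * (algebraMap R C t' * c * i - b * a) from by ring]
    exact Submodule.add_mem_sup (Ideal.mul_mem_left _ _ (Ideal.mem_span_singleton_self a)) hmem'

/-- `I ∩ pC = pI` for a flat quotient -/
theorem mem_smul_of_flat (I : Ideal C) [Module.Flat R (C ⧸ I)] (a : Ideal R) {x : C} (hx : x ∈ I)
    (hxa : x ∈ a.map (algebraMap R C)) : x ∈ a.map (algebraMap R C) * I := by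
  classical
  obtain ⟨l, hl⟩ := (Finsupp.mem_span_image_iff_linearCombination (R := C)
    (s := (a : Set R)) (v := algebraMap R C)).mp hxa
  have hsum : ∑ j : {r // r ∈ l.support}, (j : R) • (Ideal.Quotient.mk I (l j)) = 0 := by
    rw [Finset.sum_coe_sort l.support fun r => r • Ideal.Quotient.mk I (l r)]
    refine Eq.trans ?_ (Ideal.Quotient.eq_zero_iff_mem.mpr hx)
    rw [← hl.2, Finsupp.linearCombination_apply, Finsupp.sum, map_sum]
    refine Finset.sum_congr rfl fun r _ => ?_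
    rw [smul_eq_mul, mul_comm, map_mul, Algebra.smul_def]
    rfl
  obtain ⟨κ, A, y, hy, hA⟩ := Module.Flat.isTrivialRelation_of_sum_smul_eq_zero hsum
  choose w hw using fun k => Ideal.Quotient.mk_surjective (y k)
  have hx' : x = ∑ j : {r // r ∈ l.support},
      algebraMap R C j * (l j - ∑ k, A j k • w k) := by
    simp only [mul_sub, Finset.mul_sum, Finset.sum_sub_distrib, Algebra.mul_smul_comm]
    rw [Finset.sum_comm (f := fun j k => A j k • (algebraMap R C (j : {r // r ∈ l.support}) * w k))]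
    rw [show (∑ k, ∑ j : {r // r ∈ l.support}, A j k • (algebraMap R C j * w k)) = 0 from
      Finset.sum_eq_zero fun k _ => by
        simp only [Algebra.smul_def, ← mul_assoc, ← map_mul, ← Finset.sum_mul, ← map_sum]
        rw [Finset.sum_congr rfl fun j _ => mul_comm (A j k) j, hA k, map_zero, zero_mul],
      sub_zero, Finset.sum_coe_sort l.support fun r => algebraMap R C r * l r, ← hl.2,
      Finsupp.linearCombination_apply, Finsupp.sum]
    exact Finset.sum_congr rfl fun r _ => by rw [smul_eq_mul, mul_comm]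
  rw [hx']
  refine Ideal.sum_mem _ fun j _ => Ideal.mul_mem_mul (Ideal.mem_map_of_mem _ (hl.1 j.2)) ?_
  rw [← Ideal.Quotient.eq_zero_iff_mem, map_sub,
    show Ideal.Quotient.mk I (l j) = _ from hy j, map_sum, sub_eq_zero]
  refine Finset.sum_congr rfl fun k _ => ?_
  rw [Algebra.smul_def, Algebra.smul_def, map_mul, hw]
  rfl

theorem exists_mul_mem_span (q : Ideal C) [q.IsPrime] (I : Ideal C) (hfg : I.FG)
    [Module.Flat R (C ⧸ I)] (a : C) (ha : a ∈ I)
    (h : ∀ i ∈ I, ∃ s, s ∉ q ∧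
      s * i ∈ Ideal.span {a} ⊔ (q.comap (algebraMap R C)).map (algebraMap R C)) :
    ∃ s, s ∉ q ∧ ∀ i ∈ I, s * i ∈ Ideal.span {a} := by
  let pC := (q.comap (algebraMap R C)).map (algebraMap R C)
  let O := Localization.AtPrime q
  let IO := I.map (algebraMap C O)
  have hle : IO ≤ Ideal.span {algebraMap C O a} ⊔ pC.map (algebraMap C O) • IO := by
    rw [Ideal.map_le_iff_le_comap]
    intro i hi
    obtain ⟨s, hs, hsi⟩ := h i hi
    obtain ⟨u, hu, v, hv, huv⟩ := Submodule.mem_sup.mp hsi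
    have hvI : v ∈ pC * I := by
      refine mem_smul_of_flat I _ ?_ hv
      rw [show v = s * i - u from eq_sub_of_add_eq' huv]
      exact Ideal.sub_mem _ (Ideal.mul_mem_left _ _ hi)
        ((Ideal.span_singleton_le_iff_mem _).mpr ha hu)
    rw [Ideal.mem_comap, smul_eq_mul, ← Ideal.map_mul, ← Ideal.unit_mul_mem_iff_mem _
      (IsLocalization.map_units O (⟨s, hs⟩ : q.primeCompl)), ← map_mul, ← huv, map_add]
    refine Submodule.add_mem_sup ?_ (Ideal.mem_map_of_mem _ hvI)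
    rw [← Set.image_singleton, ← Ideal.map_span]
    exact Ideal.mem_map_of_mem _ hu
  have hjac : pC.map (algebraMap C O) ≤ Ideal.jacobson ⊥ := by
    rw [IsLocalRing.jacobson_eq_maximalIdeal ⊥ bot_ne_top,
      ← IsLocalization.AtPrime.map_eq_maximalIdeal q O]
    exact Ideal.map_mono (Ideal.map_le_iff_le_comap.mpr le_rfl)
  have hfgO : IO.FG := hfg.map _
  have hIO : IO ≤ Ideal.span {algebraMap C O a} :=
    Submodule.le_of_le_smul_of_le_jacobson_bot hfgO hjac hle
  have h0 : ∀ i ∈ I, ∃ s, s ∉ q ∧ s • Ideal.Quotient.mk (Ideal.span {a}) i = 0 := by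
    intro i hi
    have h1 := hIO (Ideal.mem_map_of_mem _ hi)
    rw [← Set.image_singleton, ← Ideal.map_span,
      IsLocalization.algebraMap_mem_map_algebraMap_iff q.primeCompl] at h1
    obtain ⟨s, hs, hsi⟩ := h1
    exact ⟨s, hs, by
      rw [Algebra.smul_def, Ideal.Quotient.algebraMap_eq, ← map_mul]
      exact Ideal.Quotient.eq_zero_iff_mem.mpr hsi⟩
  obtain ⟨s, hs, hs0⟩ := FlatAt.exists_smul_kill q
    ((I.map (Ideal.Quotient.mk (Ideal.span {a}))).restrictScalars C)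
    (Submodule.FG.restrictScalars_of_surjective (hfg.map _) Ideal.Quotient.mk_surjective)
    (fun x hx => by
      obtain ⟨i, hi, rfl⟩ := (Ideal.mem_map_iff_of_surjective _ Ideal.Quotient.mk_surjective).mp hx
      exact h0 i hi)
  refine ⟨s, hs, fun i hi => Ideal.Quotient.eq_zero_iff_mem.mp ?_⟩
  have := hs0 (Ideal.Quotient.mk _ i) (Ideal.mem_map_of_mem _ hi)
  rwa [Algebra.smul_def, Ideal.Quotient.algebraMap_eq, ← map_mul] at this

end algebra

section main

open FibreRegular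

variable {X S : Scheme.{u}} (φ : X ⟶ S) (𝓘 : X.IdealSheafData)

/-- a local generator on the fibre -/
theorem exists_data (hfib : ∀ s : S, BlowUp.IsEffCartierIdeal (𝓘.comap (φ.fiberι s)))
    {V : S.Opens} (hV : IsAffineOpen V) (W : X.affineOpens) (eW : W.1 ≤ φ ⁻¹ᵁ V) :
    letI := (φ.appLE V W.1 eW).hom.toAlgebra
    ∀ (q : Ideal Γ(X, W.1)) [q.IsPrime], ∃ a ∈ 𝓘.ideal W,
      (∀ y : Γ(X, W.1) ⊗[Γ(S, V)] (q.comap (algebraMap Γ(S, V) Γ(X, W.1))).ResidueField,
        a • y = 0 → ∃ s, s ∉ q ∧ s • y = 0) ∧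
      ∀ i ∈ 𝓘.ideal W, ∃ s, s ∉ q ∧ s * i ∈ Ideal.span {a} ⊔
        (q.comap (algebraMap Γ(S, V) Γ(X, W.1))).map (algebraMap Γ(S, V) Γ(X, W.1)) := by
  letI := (φ.appLE V W.1 eW).hom.toAlgebra
  intro q _
  let p := q.comap (algebraMap Γ(S, V) Γ(X, W.1))
  obtain ⟨P, hP⟩ := exists_fibre_prime (R := Γ(S, V)) q
  obtain ⟨s, τ, hτ, hτι⟩ := exists_fibre_chart φ hV W.2 eW p
  let D : CommRingCat.{u} := .of (Γ(X, W.1) ⊗[Γ(S, V)] p.ResidueField)
  let incl : Γ(X, W.1) ⟶ D := CommRingCat.ofHom Algebra.TensorProduct.includeLeftRingHom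
  have e0 : (⊤ : (Spec D).Opens) ≤ (Spec.map incl ≫ W.2.fromSpec) ⁻¹ᵁ W.1 := fun z _ =>
    W.2.range_fromSpec.le ⟨_, rfl⟩
  have e : (⊤ : (Spec D).Opens) ≤ (τ ≫ φ.fiberι s) ⁻¹ᵁ W.1 := by rw [hτι]; exact e0
  obtain ⟨g, hg, h, hh, hI⟩ := exists_basicOpen_generator 𝓘 (φ.fiberι s) (hfib s) τ W e P
  have e2 : (⊤ : (Spec Γ(X, W.1)).Opens) ≤ W.2.fromSpec ⁻¹ᵁ W.1 := fun z _ =>
    W.2.range_fromSpec.le ⟨_, rfl⟩
  have hincl : ((τ ≫ φ.fiberι s).appLE W.1 ⊤ e) ≫ (Scheme.ΓSpecIso D).hom = incl := by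
    have h4 : (Spec.map incl ≫ W.2.fromSpec).appLE W.1 ⊤ e0 = incl ≫ (Scheme.ΓSpecIso D).inv := by
      rw [← Scheme.Hom.appLE_comp_appLE (Spec.map incl) W.2.fromSpec W.1 ⊤ ⊤ e2 le_top,
        fromSpec_appLE_top W.2 e2,
        show (Spec.map incl).appLE ⊤ ⊤ le_top = (Spec.map incl).appTop from
          Scheme.Hom.appLE_eq_app _]
      exact (Scheme.ΓSpecIso_inv_naturality incl).symm
    have h5 : (τ ≫ φ.fiberι s).appLE W.1 ⊤ e = incl ≫ (Scheme.ΓSpecIso D).inv := by
      rw [← h4]; simp only [hτι]; rfl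
    rw [h5, Category.assoc, Iso.inv_hom_id, Category.comp_id]
  rw [hincl] at hI
  exact exists_generator q (𝓘.ideal W) P.asIdeal hP g hg h hh hI

/-- a generator near a point -/
theorem exists_nhd [LocallyOfFinitePresentation φ] [Flat φ] {V : S.Opens} (hV : IsAffineOpen V)
    (W : X.affineOpens) (eW : W.1 ≤ φ ⁻¹ᵁ V) (x : X) (hx : x ∈ W.1) :
    letI := (φ.appLE V W.1 eW).hom.toAlgebra
    ∀ (a : Γ(X, W.1)), a ∈ 𝓘.ideal W →
      (∀ y : Γ(X, W.1) ⊗[Γ(S, V)] ((W.2.primeIdealOf ⟨x, hx⟩).asIdeal.comap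
          (algebraMap Γ(S, V) Γ(X, W.1))).ResidueField,
        a • y = 0 → ∃ s, s ∉ (W.2.primeIdealOf ⟨x, hx⟩).asIdeal ∧ s • y = 0) →
      (∃ s, s ∉ (W.2.primeIdealOf ⟨x, hx⟩).asIdeal ∧ ∀ i ∈ 𝓘.ideal W, s * i ∈ Ideal.span {a}) →
      ∃ (U : X.affineOpens) (eU : U.1 ≤ φ ⁻¹ᵁ V), x ∈ U.1 ∧
        ∃ h : Γ(X, U.1), h ∈ nonZeroDivisors Γ(X, U.1) ∧ 𝓘.ideal U = Ideal.span {h} ∧
          ((Ideal.Quotient.mk (𝓘.ideal U)).comp (φ.appLE V U.1 eU).hom).Flat := by
  letI := (φ.appLE V W.1 eW).hom.toAlgebra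
  intro a ha hreg ⟨s₁, hs₁, hs₁I⟩
  let q := (W.2.primeIdealOf ⟨x, hx⟩).asIdeal
  haveI : Algebra.FinitePresentation Γ(S, V) Γ(X, W.1) := φ.finitePresentation_appLE hV W.2 eW
  haveI : Module.Flat Γ(S, V) Γ(X, W.1) :=
    HasRingHomProperty.appLE @Flat φ inferInstance ⟨V, hV⟩ W eW
  letI : Algebra Γ(X, W.1) (X.presheaf.stalk x) :=
    TopCat.Presheaf.algebra_section_stalk X.presheaf ⟨x, hx⟩
  haveI : IsLocalization.AtPrime (X.presheaf.stalk x) q := W.2.isLocalization_stalk ⟨x, hx⟩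
  obtain ⟨g, hg, hall⟩ : ∃ g, g ∉ q ∧ ∀ (g' : Γ(X, W.1)) (C' : Type u) [CommRing C']
      [Algebra Γ(X, W.1) C'] [Algebra Γ(S, V) C'] [IsScalarTower Γ(S, V) Γ(X, W.1) C']
      [IsLocalization.Away (g * g') C'],
      algebraMap Γ(X, W.1) C' a ∈ nonZeroDivisors C' ∧
        Module.Flat Γ(S, V) (C' ⧸ Ideal.span {algebraMap Γ(X, W.1) C' a}) := by
    by_cases haq : a ∈ q
    · exact exists_away_regular q a haq (FlatAt.of_flat q (Ideal.IsPrime.ne_top inferInstance)) hreg
    · refine ⟨a, haq, fun g' C' _ _ _ _ _ => ?_⟩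
      have hu : IsUnit (algebraMap Γ(X, W.1) C' a) :=
        isUnit_of_dvd_unit (map_dvd _ (dvd_mul_right a g'))
          (IsLocalization.Away.algebraMap_isUnit (a * g'))
      refine ⟨hu.mem_nonZeroDivisors, ?_⟩
      haveI : Subsingleton (C' ⧸ Ideal.span {algebraMap Γ(X, W.1) C' a}) :=
        Ideal.Quotient.subsingleton_iff.mpr (Ideal.span_singleton_eq_top.mpr hu)
      infer_instance
  let U : X.affineOpens := X.affineBasicOpen (g * s₁)
  have hUW : U.1 ≤ W.1 := X.basicOpen_le (g * s₁)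
  have hxU : x ∈ U.1 := by
    show x ∈ X.basicOpen (g * s₁)
    rw [Scheme.mem_basicOpen _ _ _ hx, map_mul]
    exact IsUnit.mul (IsLocalization.map_units _ (⟨g, hg⟩ : q.primeCompl))
      (IsLocalization.map_units _ (⟨s₁, hs₁⟩ : q.primeCompl))
  letI : Algebra Γ(X, W.1) Γ(X, U.1) := (X.presheaf.map (homOfLE hUW).op).hom.toAlgebra
  letI : Algebra Γ(S, V) Γ(X, U.1) := (φ.appLE V U.1 (hUW.trans eW)).hom.toAlgebra
  haveI : IsScalarTower Γ(S, V) Γ(X, W.1) Γ(X, U.1) := IsScalarTower.of_algebraMap_eq' (by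
    show (φ.appLE V U.1 (hUW.trans eW)).hom =
      (φ.appLE V W.1 eW ≫ X.presheaf.map (homOfLE hUW).op).hom
    rw [Scheme.Hom.appLE_map])
  haveI : IsLocalization.Away (g * s₁) Γ(X, U.1) := W.2.isLocalization_basicOpen (g * s₁)
  obtain ⟨hnzd, hflat⟩ := hall s₁ Γ(X, U.1)
  have hIU : 𝓘.ideal U = Ideal.span {algebraMap Γ(X, W.1) Γ(X, U.1) a} := by
    rw [← 𝓘.map_ideal (U := U) (V := W) hUW]
    show (𝓘.ideal W).map (algebraMap Γ(X, W.1) Γ(X, U.1)) = _
    refine le_antisymm (Ideal.map_le_iff_le_comap.mpr fun i hi => ?_)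
      ((Ideal.span_singleton_le_iff_mem _).mpr (Ideal.mem_map_of_mem _ ha))
    rw [Ideal.mem_comap, ← Ideal.unit_mul_mem_iff_mem _
      (isUnit_of_dvd_unit (map_dvd (algebraMap Γ(X, W.1) Γ(X, U.1)) (dvd_mul_left s₁ g))
        (IsLocalization.Away.algebraMap_isUnit (g * s₁))), ← map_mul, ← Set.image_singleton,
      ← Ideal.map_span]
    exact Ideal.mem_map_of_mem _ (hs₁I i hi)
  refine ⟨U, hUW.trans eW, hxU, _, hnzd, hIU, ?_⟩
  show ((algebraMap Γ(S, V) (Γ(X, U.1) ⧸ 𝓘.ideal U))).Flat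
  rw [RingHom.flat_algebraMap_iff, hIU]
  exact hflat

/-- flatness of the closed subscheme, from affine charts -/
theorem flat_subschemeι_comp (h : ∀ x : X, ∃ (V : S.Opens) (_ : IsAffineOpen V) (U : X.affineOpens)
    (eU : U.1 ≤ φ ⁻¹ᵁ V), x ∈ U.1 ∧
      ((Ideal.Quotient.mk (𝓘.ideal U)).comp (φ.appLE V U.1 eU).hom).Flat) :
    Flat (𝓘.subschemeι ≫ φ) := by
  refine Flat.of_stalkMap _ fun z => ?_
  obtain ⟨V, hV, U, eU, hzU, hfl⟩ := h (𝓘.subschemeι z)
  obtain ⟨w, rfl⟩ : z ∈ (𝓘.subschemeCover.f U).opensRange := by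
    rw [Scheme.IdealSheafData.opensRange_subschemeCover_map]; exact hzU
  rw [← FibreAt.flat_stalkMap_comp_iff]
  have hmor : 𝓘.subschemeCover.f U ≫ 𝓘.subschemeι ≫ φ =
      Spec.map (φ.appLE V U.1 eU ≫ CommRingCat.ofHom (Ideal.Quotient.mk (𝓘.ideal U))) ≫
        hV.fromSpec := by
    rw [← Category.assoc, Scheme.IdealSheafData.subschemeCover_map_subschemeι, Category.assoc,
      ← Category.assoc (𝓘.glueDataObjι U), Scheme.IdealSheafData.glueDataObjι_ι, Spec.map_comp, Category.assoc, Category.assoc,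
      IsAffineOpen.SpecMap_appLE_fromSpec φ hV U.2 eU]
  rw [hmor]
  haveI : Flat (Spec.map (φ.appLE V U.1 eU ≫
      CommRingCat.ofHom (Ideal.Quotient.mk (𝓘.ideal U)))) := by
    rw [HasRingHomProperty.Spec_iff (P := @Flat)]
    exact hfl
  exact Flat.stalkMap _ _

/-- finiteness and flatness of the ideal of a flat finitely presented subscheme -/
theorem fg_and_flat_quotient [LocallyOfFinitePresentation φ]
    [Flat (𝓘.subschemeι ≫ φ)] [LocallyOfFinitePresentation (𝓘.subschemeι ≫ φ)]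
    {V : S.Opens} (hV : IsAffineOpen V) (U : X.affineOpens) (eU : U.1 ≤ φ ⁻¹ᵁ V) :
    letI := (φ.appLE V U.1 eU).hom.toAlgebra
    (𝓘.ideal U).FG ∧ Module.Flat Γ(S, V) (Γ(X, U.1) ⧸ 𝓘.ideal U) := by
  letI := (φ.appLE V U.1 eU).hom.toAlgebra
  let A : CommRingCat.{u} := .of (Γ(X, U.1) ⧸ 𝓘.ideal U)
  let q : Γ(S, V) ⟶ A := φ.appLE V U.1 eU ≫ CommRingCat.ofHom (Ideal.Quotient.mk (𝓘.ideal U))
  have hmor : 𝓘.subschemeCover.f U ≫ 𝓘.subschemeι ≫ φ = Spec.map q ≫ hV.fromSpec := by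
    rw [← Category.assoc, Scheme.IdealSheafData.subschemeCover_map_subschemeι, Category.assoc,
      ← Category.assoc (𝓘.glueDataObjι U), Scheme.IdealSheafData.glueDataObjι_ι, Spec.map_comp,
      Category.assoc, Category.assoc, IsAffineOpen.SpecMap_appLE_fromSpec φ hV U.2 eU]
  have hsq : IsPullback (𝟙 _) (Spec.map q) (Spec.map q ≫ hV.fromSpec) hV.fromSpec :=
    IsPullback.of_horiz_isIso_mono ⟨by simp⟩
  have hfl : Flat (Spec.map q) :=
    MorphismProperty.of_isPullback hsq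
      (hmor ▸ (inferInstance : Flat (𝓘.subschemeCover.f U ≫ 𝓘.subschemeι ≫ φ)))
  have hfp : LocallyOfFinitePresentation (Spec.map q) :=
    MorphismProperty.of_isPullback hsq (hmor ▸ (inferInstance :
      LocallyOfFinitePresentation (𝓘.subschemeCover.f U ≫ 𝓘.subschemeι ≫ φ)))
  rw [HasRingHomProperty.Spec_iff (P := @Flat)] at hfl
  rw [HasRingHomProperty.Spec_iff (P := @LocallyOfFinitePresentation)] at hfp
  haveI : Algebra.FinitePresentation Γ(S, V) Γ(X, U.1) := φ.finitePresentation_appLE hV U.2 eU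
  haveI : Algebra.FinitePresentation Γ(S, V) (Γ(X, U.1) ⧸ 𝓘.ideal U) :=
    RingHom.finitePresentation_algebraMap.mp hfp
  refine ⟨?_, RingHom.flat_algebraMap_iff.mp hfl⟩
  rw [← Ideal.mk_ker (I := 𝓘.ideal U)]
  exact Algebra.FinitePresentation.ker_fG_of_surjective
    (Ideal.Quotient.mkₐ Γ(S, V) (𝓘.ideal U)) Ideal.Quotient.mk_surjective

end main

end Groth.Agent.Flat.CartierFibre
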