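import Mathlib.RingTheory.Flat.Basic
import Mathlib.RingTheory.Filtration
import Mathlib.RingTheory.LocalRing.Module
import Mathlib.RingTheory.TensorProduct.Finite
import Mathlib.Algebra.Module.Torsion.Basic
import Mathlib.LinearAlgebra.TensorProduct.Tower

/-!
The local criterion of flatness.
-/

set_option autoImplicit false

noncomputable section

namespace Groth.Agent.Flat.LocalCriterion

universe u

open scoped TensorProduct

variable {R : Type u} [CommRing R] {M : Type u} [AddCommGroup M] [Module R M]

/-- the free module on the elements of a module -/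
def Fr (R M : Type u) [CommRing R] : Type u := M →₀ R

instance (R M : Type u) [CommRing R] : AddCommGroup (Fr R M) :=
  inferInstanceAs (AddCommGroup (M →₀ R))

instance (R M : Type u) [CommRing R] : Module R (Fr R M) :=
  inferInstanceAs (Module R (M →₀ R))

instance (R M : Type u) [CommRing R] : Module.Flat R (Fr R M) :=
  inferInstanceAs (Module.Flat R (M →₀ R))

/-- the canonical presentation of a module -/
def pres (R M : Type u) [CommRing R] [AddCommGroup M] [Module R M] : Fr R M →ₗ[R] M :=
  Finsupp.linearCombination R (id : M → M)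

theorem pres_surjective (R M : Type u) [CommRing R] [AddCommGroup M] [Module R M] :
    Function.Surjective (pres R M) :=
  fun x => ⟨(Finsupp.single x (1 : R) : M →₀ R), (Finsupp.linearCombination_single R 1 x).trans (one_smul R x)⟩

/-- `Tor₁(N, M) = 0`, written with the canonical presentation of `M` -/
def TorZero (R M N : Type u) [CommRing R] [AddCommGroup M] [Module R M] [AddCommGroup N]
    [Module R N] : Prop :=
  Function.Injective ((LinearMap.ker (pres R M)).subtype.rTensor N)

theorem TorZero.lTensor_injective {K E N : Type u} [AddCommGroup K] [Module R K] [AddCommGroup E]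
    [Module R E] [AddCommGroup N] [Module R N] (h : TorZero R M N) {f : K →ₗ[R] E} {g : E →ₗ[R] N}
    (hf : Function.Injective f) (he : Function.Exact f g) (hg : Function.Surjective g) :
    Function.Injective (f.lTensor M) :=
  lTensor_injective_of_exact_of_exact_of_rTensor_injective (LinearMap.exact_subtype_ker_map _)
    (pres_surjective R M) he hg h (Module.Flat.lTensor_preserves_injective_linearMap f hf)

theorem torZero_quot (I : Ideal R) (h : Function.Injective (I.subtype.rTensor M)) :
    TorZero R M (R ⧸ I) := by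
  rw [TorZero, ← LinearMap.lTensor_inj_iff_rTensor_inj]
  exact lTensor_injective_of_exact_of_exact_of_rTensor_injective (M₂ := R)
    (g₁ := (LinearMap.ker (pres R M)).subtype) (LinearMap.exact_subtype_mkQ I)
    (Submodule.mkQ_surjective I) (LinearMap.exact_subtype_ker_map (pres R M)) (pres_surjective R M)
    h (Module.Flat.lTensor_preserves_injective_linearMap (M := R) (LinearMap.ker (pres R M)).subtype
      (Submodule.injective_subtype _))

theorem cancel_lTensor {A : Type u} [CommRing A] [Algebra R A] {N P Q : Type u} [AddCommGroup N]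
    [Module A N] [Module R N] [IsScalarTower R A N] [AddCommGroup P] [Module R P] [AddCommGroup Q]
    [Module R Q] (f : P →ₗ[R] Q) (x : N ⊗[A] (A ⊗[R] P)) :
    TensorProduct.AlgebraTensorModule.cancelBaseChange R A A N Q ((f.baseChange A).lTensor N x) =
      f.lTensor N (TensorProduct.AlgebraTensorModule.cancelBaseChange R A A N P x) := by
  induction x using TensorProduct.induction_on with
  | zero => simp
  | add x y hx hy => simp only [map_add, hx, hy]
  | tmul n t =>
    induction t using TensorProduct.induction_on with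
    | zero => simp
    | add x y hx hy => simp only [TensorProduct.tmul_add, map_add, hx, hy]
    | tmul a p => simp

set_option maxHeartbeats 1000000 in
theorem torZero_of_module (I : Ideal R) (h : Function.Injective (I.subtype.rTensor M))
    (h2 : Module.Flat (R ⧸ I) ((R ⧸ I) ⊗[R] M)) (N : Type u) [AddCommGroup N] [Module R N]
    [Module (R ⧸ I) N] [IsScalarTower R (R ⧸ I) N] : TorZero R M N := by
  have hA := torZero_quot I h
  rw [TorZero, ← LinearMap.lTensor_inj_iff_rTensor_inj] at hA ⊢
  let K := LinearMap.ker (pres R M)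
  let g₁ : (R ⧸ I) ⊗[R] K →ₗ[R ⧸ I] (R ⧸ I) ⊗[R] (Fr R M) := K.subtype.baseChange (R ⧸ I)
  let g₂ : (R ⧸ I) ⊗[R] (Fr R M) →ₗ[R ⧸ I] (R ⧸ I) ⊗[R] M := (pres R M).baseChange (R ⧸ I)
  have hg : Function.Exact g₁ g₂ :=
    lTensor_exact (R ⧸ I) (LinearMap.exact_subtype_ker_map _) (pres_surjective R M)
  have hg' : Function.Surjective g₂ := LinearMap.lTensor_surjective _ (pres_surjective R M)
  have hf₁ : Function.Injective
      ((LinearMap.ker (pres (R ⧸ I) N)).subtype.rTensor ((R ⧸ I) ⊗[R] M)) :=
    Module.Flat.rTensor_preserves_injective_linearMap _ (Submodule.injective_subtype _)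
  have hg₁ : Function.Injective (g₁.lTensor (Fr (R ⧸ I) N)) :=
    Module.Flat.lTensor_preserves_injective_linearMap (M := Fr (R ⧸ I) N) g₁ hA
  have hinj : Function.Injective (g₁.lTensor N) :=
    lTensor_injective_of_exact_of_exact_of_rTensor_injective
      (f₁ := (LinearMap.ker (pres (R ⧸ I) N)).subtype) (f₂ := pres (R ⧸ I) N)
      (g₁ := g₁) (g₂ := g₂)
      (LinearMap.exact_subtype_ker_map _) (pres_surjective (R ⧸ I) N) hg hg' hf₁ hg₁
  intro x y hxy
  obtain ⟨x, rfl⟩ :=
    (TensorProduct.AlgebraTensorModule.cancelBaseChange R (R ⧸ I) (R ⧸ I) N K).surjective x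
  obtain ⟨y, rfl⟩ :=
    (TensorProduct.AlgebraTensorModule.cancelBaseChange R (R ⧸ I) (R ⧸ I) N K).surjective y
  rw [← cancel_lTensor, ← cancel_lTensor] at hxy
  exact congrArg _ (hinj ((LinearEquiv.injective _) hxy))

theorem torZero_of_killed (I : Ideal R) (h : Function.Injective (I.subtype.rTensor M))
    (h2 : Module.Flat (R ⧸ I) ((R ⧸ I) ⊗[R] M)) (N : Type u) [AddCommGroup N] [Module R N]
    (hN : ∀ a ∈ I, ∀ x : N, a • x = 0) : TorZero R M N := by
  have ht : Module.IsTorsionBySet R N I := fun x a => hN a.1 a.2 x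
  letI := ht.module
  haveI : IsScalarTower R (R ⧸ I) N := ⟨fun r a x => by
    obtain ⟨a, rfl⟩ := Ideal.Quotient.mk_surjective a
    show (Ideal.Quotient.mk I (r * a)) • x = r • (Ideal.Quotient.mk I a) • x
    simp [mul_smul]⟩
  exact torZero_of_module I h h2 N

theorem TorZero.ext {N : Type u} [AddCommGroup N] [Module R N] (N₁ : Submodule R N)
    (h₁ : TorZero R M N₁) (h₂ : TorZero R M (N ⧸ N₁)) : TorZero R M N := by
  rw [TorZero]
  refine (LinearMap.ker_eq_bot (f := (LinearMap.ker (pres R M)).subtype.rTensor N)).mp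
    ((Submodule.eq_bot_iff _).mpr fun x hx => ?_)
  rw [LinearMap.mem_ker] at hx
  let K := LinearMap.ker (pres R M)
  have hx2 : N₁.mkQ.lTensor K x = 0 := by
    refine h₂ ?_
    rw [map_zero, ← LinearMap.comp_apply, LinearMap.rTensor_comp_lTensor,
      ← LinearMap.lTensor_comp_rTensor, LinearMap.comp_apply, hx, map_zero]
  obtain ⟨y, rfl⟩ := (lTensor_exact K (LinearMap.exact_subtype_mkQ N₁)
    (Submodule.mkQ_surjective N₁) x).mp hx2
  have hy : y = 0 := by
    refine h₁ (Module.Flat.lTensor_preserves_injective_linearMap (M := Fr R M) N₁.subtype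
      Subtype.val_injective ?_)
    rw [map_zero, map_zero, ← LinearMap.comp_apply, LinearMap.lTensor_comp_rTensor,
      ← LinearMap.rTensor_comp_lTensor, LinearMap.comp_apply, hx]
  rw [hy, map_zero]

theorem torZero_of_killed_pow (I : Ideal R) (h : Function.Injective (I.subtype.rTensor M))
    (h2 : Module.Flat (R ⧸ I) ((R ⧸ I) ⊗[R] M)) :
    ∀ (n : ℕ) (N : Type u) [AddCommGroup N] [Module R N],
      (∀ a ∈ I ^ n, ∀ x : N, a • x = 0) → TorZero R M N
  | 0, N, _, _, hN => torZero_of_killed I h h2 N fun a _ x => by
      have : (1 : R) • x = 0 := hN 1 (by simp) x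
      rw [one_smul] at this
      rw [this, smul_zero]
  | n + 1, N, _, _, hN => by
      refine TorZero.ext (I ^ n • (⊤ : Submodule R N)) ?_ ?_
      · refine torZero_of_killed I h h2 _ fun a ha x => Subtype.ext ?_
        show a • (x : N) = 0
        refine Submodule.smul_induction_on x.2 (fun r hr m _ => ?_) (fun p q hp hq => ?_)
        · rw [smul_smul]
          exact hN _ (by rw [pow_succ']; exact Ideal.mul_mem_mul ha hr) m
        · rw [smul_add, hp, hq, add_zero]
      · refine torZero_of_killed_pow I h h2 n _ fun a ha x => ?_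
        obtain ⟨x, rfl⟩ := Submodule.mkQ_surjective _ x
        rw [← map_smul, Submodule.mkQ_apply, Submodule.Quotient.mk_eq_zero]
        exact Submodule.smul_mem_smul ha trivial

theorem lTensor_restrictScalars_injective {A : Type u} [CommRing A] [Algebra R A]
    (h : Module.Flat A (A ⊗[R] M)) {P Q : Type u} [AddCommGroup P] [Module A P] [Module R P]
    [IsScalarTower R A P] [AddCommGroup Q] [Module A Q] [Module R Q] [IsScalarTower R A Q]
    (f : P →ₗ[A] Q) (hf : Function.Injective f) :
    Function.Injective ((f.restrictScalars R).lTensor M) := by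
  rw [LinearMap.lTensor_inj_iff_rTensor_inj]
  have key : ∀ x : P ⊗[A] (A ⊗[R] M),
      TensorProduct.AlgebraTensorModule.cancelBaseChange R A A Q M (f.rTensor (A ⊗[R] M) x) =
        (f.restrictScalars R).rTensor M
          (TensorProduct.AlgebraTensorModule.cancelBaseChange R A A P M x) := by
    intro x
    induction x using TensorProduct.induction_on with
    | zero => simp
    | add x y hx hy => simp only [map_add, hx, hy]
    | tmul n t =>
      induction t using TensorProduct.induction_on with
      | zero => simp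
      | add x y hx hy => simp only [TensorProduct.tmul_add, map_add, hx, hy]
      | tmul a p => simp
  intro x y hxy
  obtain ⟨x, rfl⟩ :=
    (TensorProduct.AlgebraTensorModule.cancelBaseChange R A A P M).surjective x
  obtain ⟨y, rfl⟩ :=
    (TensorProduct.AlgebraTensorModule.cancelBaseChange R A A P M).surjective y
  rw [← key, ← key] at hxy
  exact congrArg _ (Module.Flat.rTensor_preserves_injective_linearMap f hf
    ((LinearEquiv.injective _) hxy))

/-- the map of an ideal onto its image -/
def toImage (a J : Ideal R) : a →ₗ[R] ((a.map (Ideal.Quotient.mk J)).restrictScalars R) :=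
  LinearMap.codRestrict _ (J.mkQ ∘ₗ a.subtype) fun x => Ideal.mem_map_of_mem _ x.2

/-- `a ⊗ M → M` can only kill things coming from `a ⊓ J` -/
theorem ker_le_range_inclusion (a J : Ideal R)
    (hinj : Function.Injective
      (((a.map (Ideal.Quotient.mk J)).restrictScalars R).subtype.lTensor M))
    {x : M ⊗[R] a} (hx : a.subtype.lTensor M x = 0) :
    x ∈ LinearMap.range ((Submodule.inclusion (inf_le_left : a ⊓ J ≤ a)).lTensor M) := by
  have hex : Function.Exact (Submodule.inclusion (inf_le_left : a ⊓ J ≤ a)) (toImage a J) := by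
    intro y
    constructor
    · intro hy
      have h0 : Ideal.Quotient.mk J (y : R) = 0 := congrArg Subtype.val hy
      exact ⟨⟨y, y.2, Ideal.Quotient.eq_zero_iff_mem.mp h0⟩, rfl⟩
    · rintro ⟨z, rfl⟩
      exact Subtype.ext (Ideal.Quotient.eq_zero_iff_mem.mpr z.2.2)
  have hsurj : Function.Surjective (toImage a J) := by
    rintro ⟨y, hy⟩
    obtain ⟨r, hr, rfl⟩ :=
      (Ideal.mem_map_iff_of_surjective _ Ideal.Quotient.mk_surjective).mp hy
    exact ⟨⟨r, hr⟩, rfl⟩
  refine (lTensor_exact M hex hsurj x).mp (hinj ?_)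
  rw [map_zero, ← LinearMap.comp_apply, ← LinearMap.lTensor_comp,
    show ((a.map (Ideal.Quotient.mk J)).restrictScalars R).subtype ∘ₗ toImage a J =
      J.mkQ ∘ₗ a.subtype from rfl, LinearMap.lTensor_comp, LinearMap.comp_apply, hx, map_zero]

theorem ker_le_pow_smul [IsNoetherianRing R] (I a : Ideal R)
    (hinj : ∀ n, Function.Injective
      (((a.map (Ideal.Quotient.mk (I ^ n))).restrictScalars R).subtype.lTensor M))
    {x : M ⊗[R] a} (hx : a.subtype.lTensor M x = 0) (k : ℕ) :
    x ∈ I ^ k • (⊤ : Submodule R (M ⊗[R] a)) := by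
  obtain ⟨c, hc⟩ := Ideal.exists_pow_inf_eq_pow_smul I (M := R) (a : Submodule R R)
  obtain ⟨y, rfl⟩ := ker_le_range_inclusion a (I ^ (k + c)) (hinj _) hx
  clear hx
  induction y using TensorProduct.induction_on with
  | zero => simp
  | add p q hp hq => rw [map_add]; exact add_mem hp hq
  | tmul m r =>
    have hr : (r : R) ∈ I ^ k • (a : Submodule R R) := by
      have h := (hc (k + c) (Nat.le_add_left _ _)).le (show (r : R) ∈ I ^ (k + c) • ⊤ ⊓ a from
        ⟨by simpa using r.2.2, r.2.1⟩)
      rw [Nat.add_sub_cancel] at h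
      exact Submodule.smul_mono le_rfl inf_le_right h
    rw [LinearMap.lTensor_tmul]
    have key : ∀ z ∈ I ^ k • (a : Submodule R R), ∃ hz : z ∈ a,
        m ⊗ₜ[R] (⟨z, hz⟩ : a) ∈ I ^ k • (⊤ : Submodule R (M ⊗[R] a)) := by
      intro z hz
      refine Submodule.smul_induction_on hz ?_ ?_
      · intro r hr b hb
        refine ⟨a.mul_mem_left r hb, ?_⟩
        rw [show (⟨r • b, a.mul_mem_left r hb⟩ : a) = r • (⟨b, hb⟩ : a) from rfl,
          TensorProduct.tmul_smul]
        exact Submodule.smul_mem_smul hr trivial
      · rintro p q ⟨hp, hp'⟩ ⟨hq, hq'⟩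
        refine ⟨a.add_mem hp hq, ?_⟩
        rw [show (⟨p + q, a.add_mem hp hq⟩ : a) = ⟨p, hp⟩ + ⟨q, hq⟩ from rfl,
          TensorProduct.tmul_add]
        exact add_mem hp' hq'
    obtain ⟨_, h⟩ := key _ hr
    exact h

end Groth.Agent.Flat.LocalCriterion
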