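import Mathlib
import Groth.Agent.Flat.DeformFp
import Groth.Agent.Flat.FibreScheme
import Groth.Agent.Flat.LocalCriterion
import Groth.Agent.Mor.ThickeningTop
import Groth.Agent.S0400
import Groth.Agent.Flat.CartierFibre

/-!
Deformations over finite order thickenings.
-/

set_option autoImplicit false
set_option backward.isDefEq.respectTransparency false
set_option backward.isDefEq.respectTransparency.types false

noncomputable section

universe u

namespace Groth.Agent.Flat.DeformNilp

open scoped TensorProduct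

section algebra

variable {R B C : Type u} [CommRing R] [CommRing B] [CommRing C] [Algebra R B] [Algebra B C]
  [Algebra R C] [IsScalarTower R B C] (I : Ideal R)

theorem pow_smul_sup {N : Submodule R C} (hI : IsNilpotent I) (h : ⊤ ≤ N ⊔ I • ⊤) : N = ⊤ := by
  obtain ⟨n, hn⟩ := hI
  have key : ∀ k, (⊤ : Submodule R C) ≤ N ⊔ I ^ k • ⊤ := by
    intro k
    induction k with
    | zero => rw [pow_zero, Ideal.one_eq_top, Submodule.top_smul]; exact le_sup_right
    | succ k ih =>
      refine h.trans (sup_le le_sup_left ?_)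
      refine (smul_mono_right I ih).trans ?_
      rw [Submodule.smul_sup, pow_succ', Submodule.mul_smul]
      exact sup_le_sup Submodule.smul_le_right le_rfl
  have h2 := key n
  rw [hn, Ideal.zero_eq_bot, Submodule.bot_smul, sup_bot_eq] at h2
  exact top_le_iff.mp h2

/-- the reduced base change is the quotient -/
theorem includeRight_mk (b : B) :
    (Algebra.TensorProduct.includeRight : B ⧸ I.map (algebraMap R B) →ₐ[B]
      C ⊗[B] (B ⧸ I.map (algebraMap R B))) (Ideal.Quotient.mk _ b) =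
      algebraMap B C b ⊗ₜ[B] 1 := by
  show (1 : C) ⊗ₜ[B] (Ideal.Quotient.mk _ b) = _
  rw [← Ideal.Quotient.algebraMap_eq, Algebra.algebraMap_eq_smul_one, TensorProduct.tmul_smul,
    TensorProduct.smul_tmul', ← Algebra.algebraMap_eq_smul_one]

theorem flat_of_reduction (hI : IsNilpotent I) [Module.Flat R C]
    (h : (Algebra.TensorProduct.includeRight : B ⧸ I.map (algebraMap R B) →ₐ[B]
      C ⊗[B] (B ⧸ I.map (algebraMap R B))).toRingHom.Flat) : Module.Flat B C :=
  Groth.Agent.S0400.result I hI (FibreScheme.flat_baseChange_of_includeRight _ h)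

theorem mk_mem_range {D : Subalgebra B C}
    {z : C} (h : z ⊗ₜ[B] (1 : B ⧸ I.map (algebraMap R B)) ∈
      D.map (Algebra.TensorProduct.includeLeft : C →ₐ[B] C ⊗[B] (B ⧸ I.map (algebraMap R B)))) :
    z ∈ D.toSubmodule.restrictScalars R ⊔ I • (⊤ : Submodule R C) := by
  obtain ⟨d, hd, hde⟩ := h
  have h0 : (z - d) ⊗ₜ[B] (1 : B ⧸ I.map (algebraMap R B)) = 0 := by
    rw [TensorProduct.sub_tmul, sub_eq_zero]
    exact hde.symm
  have h1 : (z - d) ∈ I.map (algebraMap R B) • (⊤ : Submodule B C) := by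
    have e := TensorProduct.tensorQuotEquivQuotSMul C (I.map (algebraMap R B))
    rw [← Submodule.Quotient.mk_eq_zero]
    have h2 := congrArg (TensorProduct.tensorQuotEquivQuotSMul C (I.map (algebraMap R B))) h0
    rwa [map_zero, show (1 : B ⧸ I.map (algebraMap R B)) = Ideal.Quotient.mk _ (1 : B) from rfl,
      TensorProduct.tensorQuotEquivQuotSMul_tmul_mk, one_smul] at h2
  rw [← add_sub_cancel d z]
  refine Submodule.add_mem_sup hd ?_
  rw [Ideal.smul_top_eq_map, Submodule.restrictScalars_mem] at h1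
  rw [Ideal.smul_top_eq_map, Submodule.restrictScalars_mem,
    IsScalarTower.algebraMap_eq R B C, ← Ideal.map_map]
  exact h1

theorem finiteType_of_reduction (hI : IsNilpotent I)
    (h : (Algebra.TensorProduct.includeRight : B ⧸ I.map (algebraMap R B) →ₐ[B]
      C ⊗[B] (B ⧸ I.map (algebraMap R B))).toRingHom.FiniteType) : Algebra.FiniteType B C := by
  classical
  let B₀ := B ⧸ I.map (algebraMap R B)
  letI : Algebra B₀ (C ⊗[B] B₀) :=
    (Algebra.TensorProduct.includeRight : B₀ →ₐ[B] C ⊗[B] B₀).toRingHom.toAlgebra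
  obtain ⟨s, hs⟩ := (show Algebra.FiniteType B₀ (C ⊗[B] B₀) from h).out
  have hsur : Function.Surjective
      (Algebra.TensorProduct.includeLeft : C →ₐ[B] C ⊗[B] B₀) := by
    intro y
    induction y using TensorProduct.induction_on with
    | zero => exact ⟨0, map_zero _⟩
    | add a b ha hb =>
      obtain ⟨a', rfl⟩ := ha
      obtain ⟨b', rfl⟩ := hb
      exact ⟨a' + b', map_add _ _ _⟩
    | tmul c b =>
      obtain ⟨b, rfl⟩ := Ideal.Quotient.mk_surjective b
      refine ⟨b • c, ?_⟩
      show (b • c) ⊗ₜ[B] (1 : B₀) = _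
      rw [TensorProduct.smul_tmul, ← Algebra.algebraMap_eq_smul_one]
      rfl
  choose l hl using hsur
  let D : Subalgebra B C := Algebra.adjoin B ((s.image l : Finset C) : Set C)
  have hD : ∀ y : C ⊗[B] B₀,
      y ∈ D.map (Algebra.TensorProduct.includeLeft : C →ₐ[B] C ⊗[B] B₀) := by
    intro y
    have hy : y ∈ Algebra.adjoin B₀ (s : Set (C ⊗[B] B₀)) := hs ▸ Algebra.mem_top
    induction hy using Algebra.adjoin_induction with
    | mem y hy => exact ⟨l y, Algebra.subset_adjoin (Finset.mem_image_of_mem l hy), hl y⟩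
    | algebraMap b =>
      obtain ⟨b, rfl⟩ := Ideal.Quotient.mk_surjective b
      exact ⟨algebraMap B C b, D.algebraMap_mem b, (includeRight_mk I b).symm⟩
    | add a b _ _ ha hb => exact add_mem ha hb
    | mul a b _ _ ha hb => exact mul_mem ha hb
  have htop : (D.toSubmodule.restrictScalars R) = ⊤ :=
    pow_smul_sup I hI fun z _ => mk_mem_range I (hD _)
  refine ⟨⟨s.image l, ?_⟩⟩
  refine eq_top_iff.mpr fun z _ => ?_
  have : z ∈ D.toSubmodule.restrictScalars R := htop ▸ Submodule.mem_top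
  exact this

theorem kaehler_le_smul
    (h : (Algebra.TensorProduct.includeRight : B ⧸ I.map (algebraMap R B) →ₐ[B]
      C ⊗[B] (B ⧸ I.map (algebraMap R B))).toRingHom.FormallyUnramified) (x : Ω[C⁄B]) :
    x ∈ (I.map (algebraMap R B)).map (algebraMap B C) • (⊤ : Submodule C Ω[C⁄B]) := by
  let B₀ := B ⧸ I.map (algebraMap R B)
  letI : Algebra B₀ (C ⊗[B] B₀) :=
    (Algebra.TensorProduct.includeRight : B₀ →ₐ[B] C ⊗[B] B₀).toRingHom.toAlgebra
  haveI : IsScalarTower B B₀ (C ⊗[B] B₀) := IsScalarTower.of_algebraMap_eq fun b =>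
    ((Algebra.TensorProduct.includeRight : B₀ →ₐ[B] C ⊗[B] B₀).commutes b).symm
  haveI : Algebra.FormallyUnramified B₀ (C ⊗[B] B₀) := h
  haveI : Algebra.IsPushout B B₀ C (C ⊗[B] B₀) := Algebra.IsPushout.symm inferInstance
  let e := KaehlerDifferential.tensorKaehlerEquiv B B₀ C (C ⊗[B] B₀)
  haveI : Subsingleton ((C ⊗[B] B₀) ⊗[C] Ω[C⁄B]) := e.toEquiv.subsingleton
  let J := (I.map (algebraMap R B)).map (algebraMap B C)
  let π : C ⊗[B] B₀ →ₐ[C] C ⧸ J := Algebra.TensorProduct.lift (Algebra.ofId C (C ⧸ J))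
    (Ideal.quotientMapₐ J (Algebra.ofId B C) Ideal.le_comap_map) fun _ _ => .all _ _
  rw [← Submodule.Quotient.mk_eq_zero]
  have h2 := congrArg (fun w => TensorProduct.quotTensorEquivQuotSMul Ω[C⁄B] J
    (π.toLinearMap.rTensor Ω[C⁄B] w)) (Subsingleton.elim ((1 : C ⊗[B] B₀) ⊗ₜ[C] x) 0)
  simp only [map_zero, LinearMap.rTensor_tmul, AlgHom.toLinearMap_apply, map_one] at h2
  rwa [show (1 : C ⧸ J) = Ideal.Quotient.mk J (1 : C) from rfl,
    TensorProduct.quotTensorEquivQuotSMul_mk_tmul, one_smul] at h2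

theorem formallyUnramified_of_reduction (hI : IsNilpotent I)
    (h : (Algebra.TensorProduct.includeRight : B ⧸ I.map (algebraMap R B) →ₐ[B]
      C ⊗[B] (B ⧸ I.map (algebraMap R B))).toRingHom.FormallyUnramified) :
    Algebra.FormallyUnramified B C := by
  let J := (I.map (algebraMap R B)).map (algebraMap B C)
  have hsub := kaehler_le_smul (B := B) (C := C) I h
  constructor
  obtain ⟨n, hn⟩ := hI
  have key : ∀ k, (⊤ : Submodule C Ω[C⁄B]) ≤ J ^ k • ⊤ := by
    intro k
    induction k with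
    | zero => simp
    | succ k ih =>
      intro x _
      have h3 := smul_mono_right J ih (hsub x)
      rwa [← Submodule.mul_smul, ← pow_succ'] at h3
  have h2 := key n
  rw [← Ideal.map_pow, ← Ideal.map_pow, hn, Ideal.zero_eq_bot, Ideal.map_bot, Ideal.map_bot,
    Submodule.bot_smul] at h2
  exact ⟨fun a b => ((Submodule.mem_bot C).mp (h2 (Submodule.mem_top (x := a)))).trans
    ((Submodule.mem_bot C).mp (h2 (Submodule.mem_top (x := b)))).symm⟩

theorem formallyUnramified_of_nil [Algebra.FiniteType B C] (hI : I ≤ nilradical R)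
    (h : (Algebra.TensorProduct.includeRight : B ⧸ I.map (algebraMap R B) →ₐ[B]
      C ⊗[B] (B ⧸ I.map (algebraMap R B))).toRingHom.FormallyUnramified) :
    Algebra.FormallyUnramified B C := by
  have hsub := kaehler_le_smul (B := B) (C := C) I h
  have hJ : (I.map (algebraMap R B)).map (algebraMap B C) ≤ Ideal.jacobson ⊥ := by
    refine le_trans ?_ Ideal.radical_le_jacobson
    rw [Ideal.map_le_iff_le_comap, Ideal.map_le_iff_le_comap]
    intro r hr
    exact ((mem_nilradical.mp (hI hr)).map (algebraMap R B)).map (algebraMap B C)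
  have h0 := Submodule.eq_bot_of_le_smul_of_le_jacobson_bot _ (⊤ : Submodule C Ω[C⁄B])
    Module.Finite.fg_top (fun x _ => hsub x) hJ
  exact ⟨(Submodule.subsingleton_iff C).mp (subsingleton_of_bot_eq_top h0.symm)⟩

theorem finitePresentation_of_reduction (hI : IsNilpotent I) [Module.Flat R C]
    (h : (Algebra.TensorProduct.includeRight : B ⧸ I.map (algebraMap R B) →ₐ[B]
      C ⊗[B] (B ⧸ I.map (algebraMap R B))).toRingHom.FinitePresentation) :
    Algebra.FinitePresentation B C := by
  classical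
  haveI := finiteType_of_reduction (B := B) (C := C) I hI (RingHom.FiniteType.of_finitePresentation h)
  obtain ⟨m, π, hπ⟩ :=
    Algebra.FiniteType.iff_quotient_mvPolynomial''.mp (inferInstance : Algebra.FiniteType B C)
  let P := MvPolynomial (Fin m) B
  let B₀ := B ⧸ I.map (algebraMap R B)
  letI : Algebra B₀ (C ⊗[B] B₀) :=
    (Algebra.TensorProduct.includeRight : B₀ →ₐ[B] C ⊗[B] B₀).toRingHom.toAlgebra
  haveI : IsScalarTower B B₀ (C ⊗[B] B₀) := IsScalarTower.of_algebraMap_eq fun b =>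
    ((Algebra.TensorProduct.includeRight : B₀ →ₐ[B] C ⊗[B] B₀).commutes b).symm
  haveI : Algebra.FinitePresentation B₀ (C ⊗[B] B₀) := h
  let π₀ : MvPolynomial (Fin m) B₀ →ₐ[B₀] C ⊗[B] B₀ :=
    MvPolynomial.aeval fun i => π (MvPolynomial.X i) ⊗ₜ[B] (1 : B₀)
  let red : P →+* MvPolynomial (Fin m) B₀ := MvPolynomial.map (algebraMap B B₀)
  have hred : Function.Surjective red := MvPolynomial.map_surjective _ Ideal.Quotient.mk_surjective
  have hπ₀ : ∀ z : P, π₀ (red z) = π z ⊗ₜ[B] (1 : B₀) := fun z => by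
    show MvPolynomial.aeval _ (MvPolynomial.map (algebraMap B B₀) z) = _
    rw [MvPolynomial.aeval_map_algebraMap]
    exact congrArg (fun g : P →ₐ[B] C ⊗[B] B₀ => g z)
      (MvPolynomial.algHom_ext (g := (Algebra.TensorProduct.includeLeft : C →ₐ[B] C ⊗[B] B₀).comp π)
        fun i => by simp)
  have hsur : Function.Surjective π₀ := by
    intro y
    induction y using TensorProduct.induction_on with
    | zero => exact ⟨0, map_zero _⟩
    | add a b ha hb =>
      obtain ⟨a', rfl⟩ := ha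
      obtain ⟨b', rfl⟩ := hb
      exact ⟨a' + b', map_add _ _ _⟩
    | tmul c b =>
      obtain ⟨b, rfl⟩ := Ideal.Quotient.mk_surjective b
      obtain ⟨z, hz⟩ := hπ (b • c)
      refine ⟨red z, ?_⟩
      rw [hπ₀, hz, TensorProduct.smul_tmul, ← Algebra.algebraMap_eq_smul_one]
      rfl
  obtain ⟨G, hG⟩ := Algebra.FinitePresentation.ker_fG_of_surjective π₀ hsur
  let K := RingHom.ker π.toRingHom
  let IP := I.map (algebraMap R P)
  have hredker : ∀ z : P, red z = 0 → z ∈ IP := by
    intro z hz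
    rw [← RingHom.mem_ker, MvPolynomial.ker_map, show RingHom.ker (algebraMap B B₀) =
      I.map (algebraMap R B) from Ideal.mk_ker, Ideal.map_map] at hz
    exact hz
  have hIC : ∀ z : P, π₀ (red z) = 0 → ∃ w ∈ IP, π w = π z := by
    intro z hz
    rw [hπ₀] at hz
    have h1 : π z ∈ I.map (algebraMap R B) • (⊤ : Submodule B C) := by
      rw [← Submodule.Quotient.mk_eq_zero]
      have h2 := congrArg (TensorProduct.tensorQuotEquivQuotSMul C (I.map (algebraMap R B))) hz
      rwa [map_zero, show (1 : B₀) = Ideal.Quotient.mk _ (1 : B) from rfl,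
        TensorProduct.tensorQuotEquivQuotSMul_tmul_mk, one_smul] at h2
    rw [Ideal.smul_top_eq_map, Submodule.restrictScalars_mem, Ideal.map_map,
      ← IsScalarTower.algebraMap_eq R B C,
      show algebraMap R C = π.toRingHom.comp (algebraMap R P) from by
        refine RingHom.ext fun r => ?_
        show _ = π (algebraMap R P r)
        rw [IsScalarTower.algebraMap_apply R B P, π.commutes, ← IsScalarTower.algebraMap_apply],
      ← Ideal.map_map] at h1
    obtain ⟨w, hw, hwe⟩ := (Ideal.mem_map_iff_of_surjective π.toRingHom hπ).mp h1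
    exact ⟨w, hw, hwe⟩
  choose l hl using hred
  choose w hw hwe using hIC
  let G' : Finset P := G.attach.image fun g => l g.1 - w (l g.1) (by
    rw [hl]; exact RingHom.mem_ker.mp (hG.le (Ideal.subset_span g.2)))
  have hG'K : Ideal.span (G' : Set P) ≤ K := by
    rw [Ideal.span_le]
    intro z hz
    obtain ⟨g, -, rfl⟩ := Finset.mem_image.mp hz
    show π (l g.1 - w (l g.1) _) = 0
    rw [map_sub, hwe, sub_self]
  haveI : Module.Flat R (P ⧸ K) := Module.Flat.of_linearEquiv
    ((Ideal.quotientKerAlgEquivOfSurjective hπ).toLinearEquiv.restrictScalars R)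
  have hstep : K ≤ Ideal.span (G' : Set P) ⊔ IP * K := by
    intro z hz
    have h1 : red z ∈ (Ideal.span (G' : Set P)).map red := by
      have h2 : red z ∈ Ideal.span (G : Set (MvPolynomial (Fin m) B₀)) := by
        refine hG.ge (RingHom.mem_ker.mpr ?_)
        show π₀ (red z) = 0
        rw [show π₀ (red z) = π z ⊗ₜ[B] (1 : B₀) from hπ₀ z, show π z = 0 from hz,
          TensorProduct.zero_tmul]
      refine (Ideal.span_le.mpr fun g hg => ?_) h2
      have hgp : π₀ (red (l g)) = 0 := by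
        rw [hl]; exact RingHom.mem_ker.mp (hG.le (Ideal.subset_span hg))
      have hmem : l g - w (l g) hgp ∈ G' :=
        Finset.mem_image.mpr ⟨⟨g, hg⟩, Finset.mem_attach _ _, rfl⟩
      have h3 : red (l g - w (l g) hgp) ∈ (Ideal.span (G' : Set P)).map red :=
        Ideal.mem_map_of_mem red (Ideal.subset_span hmem)
      have h4 : red (w (l g) hgp) = 0 := by
        have hker : IP ≤ RingHom.ker red := by
          rw [Ideal.map_le_iff_le_comap]
          intro r hr
          show red (algebraMap R P r) = 0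
          rw [IsScalarTower.algebraMap_apply R B P]
          show MvPolynomial.map (algebraMap B B₀) (MvPolynomial.C (algebraMap R B r)) = 0
          rw [MvPolynomial.map_C, show algebraMap B B₀ (algebraMap R B r) = 0 from
            Ideal.Quotient.eq_zero_iff_mem.mpr (Ideal.mem_map_of_mem _ hr), map_zero]
        exact hker (hw _ _)
      simp only [map_sub, h4, sub_zero, hl] at h3
      exact h3
    obtain ⟨u, hu, hue⟩ := (Ideal.mem_map_iff_of_surjective red
      (MvPolynomial.map_surjective _ Ideal.Quotient.mk_surjective)).mp h1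
    have h5 : z - u ∈ IP * K := CartierFibre.mem_smul_of_flat K I
      (sub_mem hz (hG'K hu)) (hredker _ (by rw [map_sub, hue, sub_self]))
    rw [show z = u + (z - u) from (add_sub_cancel u z).symm]
    exact Submodule.add_mem_sup hu h5
  obtain ⟨n, hn⟩ := hI
  have key : ∀ k, K ≤ Ideal.span (G' : Set P) ⊔ IP ^ k * K := by
    intro k
    induction k with
    | zero => simp
    | succ k ih =>
      refine hstep.trans (sup_le le_sup_left ?_)
      refine (Ideal.mul_mono le_rfl ih).trans ?_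
      rw [Ideal.mul_sup, pow_succ', mul_assoc]
      exact sup_le_sup Ideal.mul_le_right le_rfl
  have hK : K = Ideal.span (G' : Set P) := by
    refine le_antisymm ?_ hG'K
    have h6 := key n
    rwa [← Ideal.map_pow, hn, Ideal.zero_eq_bot, Ideal.map_bot, Ideal.bot_mul, sup_bot_eq] at h6
  exact Algebra.FinitePresentation.of_surjective hπ ⟨G', hK.symm⟩

end algebra

section scheme

open AlgebraicGeometry CategoryTheory CategoryTheory.Limits

variable {X X' Y Y' S S' : Scheme.{u}} {iX : X ⟶ X'} {iY : Y ⟶ Y'} {iS : S ⟶ S'}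
  {f : X ⟶ Y} {f' : X' ⟶ Y'} {g : Y ⟶ S} {g' : Y' ⟶ S'}

theorem ker_le_nilradical (hS : MoreMor.IsThickening iS) {U : S'.Opens} (hU : IsAffineOpen U) :
    iS.ker.ideal ⟨U, hU⟩ ≤ nilradical Γ(S', U) := by
  haveI := hS.1; haveI := hS.2
  refine (PrimeSpectrum.zeroLocus_eq_univ_iff _).mp (Set.eq_univ_of_forall fun p => ?_)
  have h1 : hU.fromSpec p ∈ (iS.ker.support : Set S') := by
    rw [Scheme.Hom.support_ker, Set.range_eq_univ.mpr iS.surjective]
    exact subset_closure trivial
  have h2 : hU.fromSpec p ∈ (iS.ker.support : Set S') ∩ U :=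
    ⟨h1, hU.range_fromSpec.le ⟨_, rfl⟩⟩
  rw [Scheme.IdealSheafData.coe_support_inter _ ⟨U, hU⟩,
    ← hU.fromSpec_image_zeroLocus] at h2
  obtain ⟨q, hq, hqp⟩ := h2
  rwa [hU.fromSpec.isOpenEmbedding.injective hqp] at hq

/-- descend a property along a thickening -/
theorem property_of_thickening {P : MorphismProperty Scheme.{u}}
    {Q : ∀ {R S : Type u} [CommRing R] [CommRing S], (R →+* S) → Prop} [HasRingHomProperty P Q]
    [P.IsStableUnderBaseChange] [P.RespectsIso]
    (hQ : RingHom.StableUnderCompositionWithLocalizationAwaySource Q)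
    (hdesc : ∀ (R B C : Type u) [CommRing R] [CommRing B] [CommRing C] [Algebra R B] [Algebra B C]
      [Algebra R C] [IsScalarTower R B C] (I : Ideal R), I ≤ nilradical R → (IsNilpotent iS.ker → IsNilpotent I) →
      (Flat (f' ≫ g') → Module.Flat R C) → (LocallyOfFiniteType f' → Algebra.FiniteType B C) →
      Q (Algebra.TensorProduct.includeRight : B ⧸ I.map (algebraMap R B) →ₐ[B]
        C ⊗[B] (B ⧸ I.map (algebraMap R B))).toRingHom → Q (algebraMap B C))
    (hS : MoreMor.IsThickening iS) (hsq : IsPullback iX f f' iY)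
    (hcY : IsPullback iY g g' iS) (hf : P f) : P f' := by
  haveI := hS.1
  rw [HasRingHomProperty.iff_exists_appLE (P := P) hQ]
  intro x
  obtain ⟨_, ⟨U, hU, rfl⟩, hxU, -⟩ :=
    S'.isBasis_affineOpens.exists_subset_of_mem_open (Set.mem_univ (g' (f' x))) isOpen_univ
  obtain ⟨_, ⟨V, hV, rfl⟩, hxV, hVU⟩ :=
    Y'.isBasis_affineOpens.exists_subset_of_mem_open (show f' x ∈ g' ⁻¹ᵁ U from hxU) (g' ⁻¹ᵁ U).isOpen
  obtain ⟨_, ⟨W, hW, rfl⟩, hxW, hWV⟩ :=
    X'.isBasis_affineOpens.exists_subset_of_mem_open (show x ∈ f' ⁻¹ᵁ V from hxV) (f' ⁻¹ᵁ V).isOpen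
  have eV : V ≤ g' ⁻¹ᵁ U := hVU
  have eW : W ≤ f' ⁻¹ᵁ V := hWV
  refine ⟨⟨V, hV⟩, ⟨W, hW⟩, hxW, eW, ?_⟩
  have eWU : W ≤ (f' ≫ g') ⁻¹ᵁ U := fun y hy => eV (eW hy)
  letI := (g'.appLE U V eV).hom.toAlgebra
  letI := (f'.appLE V W eW).hom.toAlgebra
  letI := ((f' ≫ g').appLE U W eWU).hom.toAlgebra
  haveI : IsScalarTower Γ(S', U) Γ(Y', V) Γ(X', W) := IsScalarTower.of_algebraMap_eq' (by
    simp only [RingHom.algebraMap_toAlgebra, ← CommRingCat.hom_comp, Scheme.Hom.appLE_comp_appLE])
  let I := iS.ker.ideal ⟨U, hU⟩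
  have hI : IsNilpotent iS.ker → IsNilpotent I := by
    rintro ⟨n, hn⟩
    refine ⟨n, ?_⟩
    have h1 : (iS.ker ^ n).ideal ⟨U, hU⟩ = (0 : S'.IdealSheafData).ideal ⟨U, hU⟩ :=
      congrFun (congrArg _ hn) _
    rw [Scheme.IdealSheafData.ideal_pow, Pi.pow_apply] at h1
    exact h1
  refine hdesc Γ(S', U) Γ(Y', V) Γ(X', W) I (ker_le_nilradical hS hU) hI (fun hfl => by
    haveI := hfl
    exact RingHom.flat_algebraMap_iff.mp
      (HasRingHomProperty.appLE @Flat (f' ≫ g') hfl ⟨U, hU⟩ ⟨W, hW⟩ eWU)) (fun hft => by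
    haveI := hft
    exact RingHom.finiteType_algebraMap.mp
      (HasRingHomProperty.appLE @LocallyOfFiniteType f' hft ⟨V, hV⟩ ⟨W, hW⟩ eW)) ?_
  let B₀ := Γ(Y', V) ⧸ I.map (algebraMap Γ(S', U) Γ(Y', V))
  refine FibreScheme.property_chart (P := P) f' hV hW eW B₀ ?_
  let a : Spec (.of B₀) ⟶ S := Spec.map (CommRingCat.ofHom (Ideal.quotientMap
      (I.map (algebraMap Γ(S', U) Γ(Y', V))) (algebraMap Γ(S', U) Γ(Y', V)) Ideal.le_comap_map)) ≫
    iS.ker.subschemeCover.f ⟨U, hU⟩ ≫ inv iS.toImage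
  let k : Spec (.of B₀) ⟶ Y' :=
    Spec.map (CommRingCat.ofHom (algebraMap Γ(Y', V) B₀)) ≫ hV.fromSpec
  have hk : k ≫ g' = a ≫ iS := by
    have h2 : inv iS.toImage ≫ iS = iS.ker.subschemeι := by
      rw [IsIso.inv_comp_eq]; exact iS.toImage_imageι.symm
    simp only [a, k, Category.assoc, h2, Scheme.IdealSheafData.subschemeCover_map_subschemeι]
    erw [Scheme.IdealSheafData.glueDataObjι_ι]
    rw [← IsAffineOpen.SpecMap_appLE_fromSpec g' hU hV eV, ← Spec.map_comp_assoc,
      ← Spec.map_comp_assoc]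
    congr 2
  rw [show Spec.map (CommRingCat.ofHom (algebraMap Γ(Y', V) B₀)) ≫ hV.fromSpec =
      hcY.lift k a hk ≫ iY from (hcY.lift_fst _ _ _).symm,
    ← P.cancel_left_of_respectsIso (pullbackLeftPullbackSndIso f' iY (hcY.lift k a hk)).hom,
    pullbackLeftPullbackSndIso_hom_snd]
  refine P.pullback_snd _ _ ?_
  rw [← P.cancel_left_of_respectsIso hsq.isoPullback.hom, hsq.isoPullback_hom_snd]
  exact hf

theorem property_of_reduction {P : MorphismProperty Scheme.{u}}
    {Q : ∀ {R S : Type u} [CommRing R] [CommRing S], (R →+* S) → Prop} [HasRingHomProperty P Q]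
    [P.IsStableUnderBaseChange] [P.RespectsIso]
    (hQ : RingHom.StableUnderCompositionWithLocalizationAwaySource Q)
    (hdesc : ∀ (R B C : Type u) [CommRing R] [CommRing B] [CommRing C] [Algebra R B] [Algebra B C]
      [Algebra R C] [IsScalarTower R B C] (I : Ideal R), IsNilpotent I →
      (Flat (f' ≫ g') → Module.Flat R C) → (LocallyOfFiniteType f' → Algebra.FiniteType B C) →
      Q (Algebra.TensorProduct.includeRight : B ⧸ I.map (algebraMap R B) →ₐ[B]
        C ⊗[B] (B ⧸ I.map (algebraMap R B))).toRingHom → Q (algebraMap B C))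
    (hS : MoreMor.IsFiniteOrderThickening iS) (hsq : IsPullback iX f f' iY)
    (hcY : IsPullback iY g g' iS) (hf : P f) : P f' :=
  property_of_thickening hQ
    (fun R B C _ _ _ _ _ _ _ I _ hI hfl hft h => hdesc R B C I (hI hS.2) hfl hft h) hS.1 hsq hcY hf

theorem isPullback_self (iS : S ⟶ S') : IsPullback iS (𝟙 S) (𝟙 S') iS :=
  IsPullback.of_vert_isIso ⟨by simp⟩

theorem locallyOfFiniteType_of_reduction (hS : MoreMor.IsFiniteOrderThickening iS)
    (hsq : IsPullback iX f f' iY) (hcY : IsPullback iY g g' iS) (hf : LocallyOfFiniteType f) :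
    LocallyOfFiniteType f' :=
  property_of_reduction (P := @LocallyOfFiniteType)
    (RingHom.finiteType_stableUnderComposition.stableUnderCompositionWithLocalizationAway
      RingHom.finiteType_holdsForLocalizationAway).1
    (fun R B C _ _ _ _ _ _ _ I hI _ _ h =>
      RingHom.finiteType_algebraMap.mpr (finiteType_of_reduction (B := B) (C := C) I hI h))
    hS hsq hcY hf

theorem formallyUnramified_scheme (hS : MoreMor.IsFiniteOrderThickening iS)
    (hsq : IsPullback iX f f' iY) (hcY : IsPullback iY g g' iS) (hf : FormallyUnramified f) :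
    FormallyUnramified f' :=
  property_of_reduction (P := @FormallyUnramified)
    (RingHom.FormallyUnramified.stableUnderComposition.stableUnderCompositionWithLocalizationAway
      RingHom.FormallyUnramified.holdsForLocalizationAway).1
    (fun R B C _ _ _ _ _ _ _ I hI _ _ h =>
      RingHom.formallyUnramified_algebraMap.mpr
        (formallyUnramified_of_reduction (B := B) (C := C) I hI h))
    hS hsq hcY hf

theorem flat_scheme [hfl : Flat (f' ≫ g')] (hS : MoreMor.IsFiniteOrderThickening iS)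
    (hsq : IsPullback iX f f' iY) (hcY : IsPullback iY g g' iS) (hf : Flat f) : Flat f' :=
  property_of_reduction (P := @Flat)
    (RingHom.Flat.stableUnderComposition.stableUnderCompositionWithLocalizationAway
      RingHom.Flat.holdsForLocalizationAway).1
    (fun R B C _ _ _ _ _ _ _ I hI hfl' _ h => by
      haveI := hfl' hfl
      exact RingHom.flat_algebraMap_iff.mpr (flat_of_reduction (B := B) (C := C) I hI h))
    hS hsq hcY hf

theorem locallyOfFinitePresentation_scheme [hfl : Flat (f' ≫ g')]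
    (hS : MoreMor.IsFiniteOrderThickening iS)
    (hsq : IsPullback iX f f' iY) (hcY : IsPullback iY g g' iS)
    (hf : LocallyOfFinitePresentation f) : LocallyOfFinitePresentation f' :=
  property_of_reduction (P := @LocallyOfFinitePresentation)
    (RingHom.finitePresentation_stableUnderComposition.stableUnderCompositionWithLocalizationAway
      RingHom.finitePresentation_holdsForLocalizationAway).1
    (fun R B C _ _ _ _ _ _ _ I hI hfl' _ h => by
      haveI := hfl' hfl
      exact RingHom.finitePresentation_algebraMap.mpr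
        (finitePresentation_of_reduction (B := B) (C := C) I hI h))
    hS hsq hcY hf

theorem isThickening_fst {Z : Scheme.{u}} (h : Z ⟶ S') (hS : MoreMor.IsThickening iS) :
    MoreMor.IsThickening (pullback.fst h iS) :=
  ⟨MorphismProperty.pullback_fst _ _ hS.1,
    MorphismProperty.pullback_fst (P := @Surjective.{u}) _ _ hS.2⟩

theorem isFiniteOrderThickening_of_isPullback (hS : MoreMor.IsFiniteOrderThickening iS)
    (hcY : IsPullback iY g g' iS) : MoreMor.IsFiniteOrderThickening iY := by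
  haveI := hS.1.1
  refine ⟨⟨MorphismProperty.of_isPullback (P := @IsClosedImmersion) hcY.flip hS.1.1,
    MorphismProperty.of_isPullback (P := @Surjective.{u}) hcY.flip hS.1.2⟩, ?_⟩
  obtain ⟨n, hn⟩ := hS.2
  refine ⟨n, ?_⟩
  have hk : iY.ker = iS.ker.comap g' := by
    rw [← hcY.isoPullback_hom_fst, Scheme.Hom.ker_comp_of_isIso,
      Scheme.IdealSheafData.ker_fst_of_isClosedImmersion]
  have key : ∀ y : Y', ∃ V : Y'.affineOpens, y ∈ V.1 ∧
      (iY.ker ^ n).ideal V = (0 : Y'.IdealSheafData).ideal V := by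
    intro y
    obtain ⟨_, ⟨U, hU, rfl⟩, hyU, -⟩ := S'.isBasis_affineOpens.exists_subset_of_mem_open
      (Set.mem_univ (g' y)) isOpen_univ
    obtain ⟨_, ⟨V, hV, rfl⟩, hyV, hVU⟩ := Y'.isBasis_affineOpens.exists_subset_of_mem_open
      (show y ∈ g' ⁻¹ᵁ U from hyU) (g' ⁻¹ᵁ U).isOpen
    refine ⟨⟨V, hV⟩, hyV, ?_⟩
    have h1 : (iS.ker ^ n).ideal ⟨U, hU⟩ = (0 : S'.IdealSheafData).ideal ⟨U, hU⟩ :=
      congrFun (congrArg _ hn) _
    rw [Scheme.IdealSheafData.ideal_pow, Pi.pow_apply] at h1
    rw [hk, Scheme.IdealSheafData.ideal_pow, Pi.pow_apply,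
      CartierFibre.ideal_comap _ _ ⟨U, hU⟩ ⟨V, hV⟩ hVU, ← Ideal.map_pow, h1]
    exact Ideal.map_bot
  choose V hyV hV using key
  exact Scheme.IdealSheafData.ext_of_iSup_eq_top V
    (eq_top_iff.mpr fun y _ => TopologicalSpace.Opens.mem_iSup.mpr ⟨y, hyV y⟩) hV

/-- uniqueness of lifts of formally unramified morphisms along finite order thickenings -/
theorem ext_of_thickening {Z : Scheme.{u}} (p₁ p₂ : Z ⟶ X') (f' : X' ⟶ S') [FormallyUnramified f']
    (hS : MoreMor.IsFiniteOrderThickening iS) (h : p₁ ≫ f' = p₂ ≫ f')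
    (hi : pullback.fst (p₁ ≫ f') iS ≫ p₁ = pullback.fst (p₁ ≫ f') iS ≫ p₂) : p₁ = p₂ := by
  let i := pullback.fst (p₁ ≫ f') iS
  haveI := (isThickening_fst (iS := iS) (p₁ ≫ f') hS.1).1
  haveI := (isThickening_fst (iS := iS) (p₁ ≫ f') hS.1).2
  haveI := hS.1.1
  have hpt : ∀ z, p₁ z = p₂ z := fun z => by
    obtain ⟨z₀, rfl⟩ := i.surjective z
    exact congrArg (fun m : _ ⟶ X' => m z₀) hi
  have key : ∀ z : Z, ∃ V : Z.Opens, z ∈ V ∧ V.ι ≫ p₁ = V.ι ≫ p₂ := by
    intro z
    obtain ⟨_, ⟨U, hU, rfl⟩, hzU, -⟩ := S'.isBasis_affineOpens.exists_subset_of_mem_open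
      (Set.mem_univ (f' (p₁ z))) isOpen_univ
    obtain ⟨_, ⟨W, hW, rfl⟩, hzW, hWU⟩ := X'.isBasis_affineOpens.exists_subset_of_mem_open
      (show p₁ z ∈ f' ⁻¹ᵁ U from hzU) (f' ⁻¹ᵁ U).isOpen
    obtain ⟨_, ⟨V, hV, rfl⟩, hzV, hVW⟩ := Z.isBasis_affineOpens.exists_subset_of_mem_open
      (show z ∈ p₁ ⁻¹ᵁ W ⊓ p₂ ⁻¹ᵁ W from ⟨hzW, show p₂ z ∈ W by rw [← hpt]; exact hzW⟩)
      (p₁ ⁻¹ᵁ W ⊓ p₂ ⁻¹ᵁ W).isOpen
    have e1 : V ≤ p₁ ⁻¹ᵁ W := fun y hy => (hVW hy).1
    have e2 : V ≤ p₂ ⁻¹ᵁ W := fun y hy => (hVW hy).2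
    have eU : W ≤ f' ⁻¹ᵁ U := hWU
    have eV : V ≤ (p₁ ≫ f') ⁻¹ᵁ U := fun y hy => eU (e1 hy)
    refine ⟨V, hzV, ?_⟩
    let J := RingHom.ker (i.app V).hom
    have hJ : IsNilpotent J := by
      obtain ⟨n, hn⟩ := hS.2
      refine ⟨n, ?_⟩
      have h1 : (iS.ker ^ n).ideal ⟨U, hU⟩ = (0 : S'.IdealSheafData).ideal ⟨U, hU⟩ :=
        congrFun (congrArg _ hn) _
      rw [Scheme.IdealSheafData.ideal_pow, Pi.pow_apply] at h1
      have h2 : J = i.ker.ideal ⟨V, hV⟩ := (Scheme.Hom.ker_apply i ⟨V, hV⟩).symm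
      rw [h2, show i.ker = iS.ker.comap (p₁ ≫ f') from Scheme.IdealSheafData.ker_fst_of_isClosedImmersion _ _,
        CartierFibre.ideal_comap _ _ ⟨U, hU⟩ ⟨V, hV⟩ eV, ← Ideal.map_pow, h1]
      exact Ideal.map_bot
    letI := (f'.appLE U W eU).hom.toAlgebra
    haveI : Algebra.FormallyUnramified Γ(S', U) Γ(X', W) :=
      RingHom.formallyUnramified_algebraMap.mp
        (HasRingHomProperty.appLE @FormallyUnramified f' inferInstance ⟨U, hU⟩ ⟨W, hW⟩ eU)
    have hα : p₁.appLE W V e1 = p₂.appLE W V e2 := by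
      letI := ((p₁ ≫ f').appLE U V eV).hom.toAlgebra
      let g₁ : Γ(X', W) →ₐ[Γ(S', U)] Γ(Z, V) :=
        { (p₁.appLE W V e1).hom with
          commutes' := fun r => congrArg (fun m : Γ(S', U) ⟶ _ => m r)
            (Scheme.Hom.appLE_comp_appLE p₁ f' U W V eU e1) }
      let g₂ : Γ(X', W) →ₐ[Γ(S', U)] Γ(Z, V) :=
        { (p₂.appLE W V e2).hom with
          commutes' := fun r => by
            have h5 : f'.appLE U W eU ≫ p₂.appLE W V e2 = (p₁ ≫ f').appLE U V eV := by
              rw [Scheme.Hom.appLE_comp_appLE]; simp only [h]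
            exact congrArg (fun m : Γ(S', U) ⟶ _ => m r) h5 }
      have h3 : p₁.appLE W V e1 ≫ i.app V = p₂.appLE W V e2 ≫ i.app V := by
        rw [Scheme.Hom.app_eq_appLE, Scheme.Hom.appLE_comp_appLE, Scheme.Hom.appLE_comp_appLE]
        simp only [i, hi]
      have h6 : g₁ = g₂ := Algebra.FormallyUnramified.ext' (i.app V).hom hJ g₁ g₂ fun x =>
        congrArg (fun m : Γ(X', W) ⟶ _ => m x) h3
      exact CommRingCat.hom_ext (congrArg AlgHom.toRingHom h6)
    have h4 : hV.fromSpec ≫ p₁ = hV.fromSpec ≫ p₂ := by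
      rw [← IsAffineOpen.SpecMap_appLE_fromSpec p₁ hW hV e1,
        ← IsAffineOpen.SpecMap_appLE_fromSpec p₂ hW hV e2, hα]
    rw [← hV.isoSpec_inv_ι, Category.assoc, Category.assoc] at h4
    exact (cancel_epi hV.isoSpec.inv).mp h4
  choose V hzV hV using key
  exact (Z.openCoverOfIsOpenCover V (TopologicalSpace.IsOpenCover.mk
    (eq_top_iff.mpr fun z _ => TopologicalSpace.Opens.mem_iSup.mpr ⟨z, hzV z⟩))).hom_ext _ _ hV

theorem mono_of_reduction {iX : X ⟶ X'} {iS : S ⟶ S'} {f : X ⟶ S} {f' : X' ⟶ S'}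
    (hS : MoreMor.IsFiniteOrderThickening iS) (hc : IsPullback iX f f' iS) [Mono f] :
    Mono f' := by
  haveI : FormallyUnramified f' :=
    formallyUnramified_scheme hS hc (isPullback_self iS) inferInstance
  refine ⟨fun {Z} p₁ p₂ h => ext_of_thickening p₁ p₂ f' hS h ?_⟩
  let a := hc.lift (pullback.fst (p₁ ≫ f') iS ≫ p₁) (pullback.snd (p₁ ≫ f') iS)
    (by rw [Category.assoc, pullback.condition])
  let b := hc.lift (pullback.fst (p₁ ≫ f') iS ≫ p₂) (pullback.snd (p₁ ≫ f') iS)
    (by rw [Category.assoc, ← h, pullback.condition])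
  have hab : a = b := (cancel_mono f).mp (by simp [a, b])
  simpa [a, b] using congrArg (fun m => m ≫ iX) hab

theorem smooth_scheme [hfl : Flat (f' ≫ g')] (hS : MoreMor.IsFiniteOrderThickening iS)
    (hsq : IsPullback iX f f' iY) (hcY : IsPullback iY g g' iS) (hf : Smooth f) : Smooth f' := by
  haveI := flat_scheme hS hsq hcY (inferInstance : Flat f)
  haveI := locallyOfFinitePresentation_scheme hS hsq hcY (inferInstance : LocallyOfFinitePresentation f)
  refine Smooth.of_smooth_fiberToSpecResidueField f' fun y => ?_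
  haveI := DeformFp.property_fibres (g := 𝟙 Y) (g' := 𝟙 Y') @Smooth
      (isFiniteOrderThickening_of_isPullback hS hcY).1 (by simpa using hsq) (isPullback_self iY)
      hsq.w hf y
  let j : Spec (Y'.residueField y) ⟶ Scheme.Hom.fiber (𝟙 Y') y :=
    pullback.lift (Y'.fromSpecResidueField y) (𝟙 _) (by simp)
  show Smooth (pullback.snd f' (Y'.fromSpecResidueField y))
  rw [show Y'.fromSpecResidueField y = j ≫ Scheme.Hom.fiberι (𝟙 Y') y from
      (pullback.lift_fst _ _ _).symm,
    ← MorphismProperty.cancel_left_of_respectsIso @Smooth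
      (pullbackLeftPullbackSndIso f' (Scheme.Hom.fiberι (𝟙 Y') y) j).hom,
    pullbackLeftPullbackSndIso_hom_snd]
  exact MorphismProperty.pullback_snd (P := @Smooth) _ _ this

theorem etale_scheme [hfl : Flat (f' ≫ g')] (hS : MoreMor.IsFiniteOrderThickening iS)
    (hsq : IsPullback iX f f' iY) (hcY : IsPullback iY g g' iS) (hf : Etale f) : Etale f' := by
  haveI := flat_scheme hS hsq hcY (inferInstance : Flat f)
  haveI := locallyOfFinitePresentation_scheme hS hsq hcY (inferInstance : LocallyOfFinitePresentation f)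
  haveI := formallyUnramified_scheme hS hsq hcY (inferInstance : FormallyUnramified f)
  exact Etale.of_formallyUnramified_of_flat f'

theorem isOpenImmersion_scheme [hfl : Flat (f' ≫ g')] (hS : MoreMor.IsFiniteOrderThickening iS)
    (hsq : IsPullback iX f f' iY) (hcY : IsPullback iY g g' iS) (hf : IsOpenImmersion f) :
    IsOpenImmersion f' := by
  haveI := flat_scheme hS hsq hcY (inferInstance : Flat f)
  haveI := locallyOfFinitePresentation_scheme hS hsq hcY (inferInstance : LocallyOfFinitePresentation f)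
  haveI := mono_of_reduction (isFiniteOrderThickening_of_isPullback hS hcY) hsq
  exact IsOpenImmersion.of_flat_of_mono f'

theorem isIso_scheme [hfl : Flat (f' ≫ g')] (hS : MoreMor.IsFiniteOrderThickening iS)
    (hsq : IsPullback iX f f' iY) (hcY : IsPullback iY g g' iS) (hf : IsIso f) : IsIso f' := by
  haveI := isOpenImmersion_scheme hS hsq hcY (inferInstance : IsOpenImmersion f)
  haveI := (isFiniteOrderThickening_of_isPullback hS hcY).1.2
  haveI : Surjective (iX ≫ f') := by rw [hsq.w]; infer_instance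
  haveI : Surjective f' := Surjective.of_comp iX _
  exact (isIso_iff_isOpenImmersion_and_surjective f').mpr ⟨inferInstance, inferInstance⟩

end scheme

end Groth.Agent.Flat.DeformNilp
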