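import Mathlib
import Groth.Agent.Flat.DeformNilp
import Groth.Agent.Mor.ThickeningTop

/-!
Properties of morphisms locally of finite type across thickenings.
-/

set_option autoImplicit false
set_option backward.isDefEq.respectTransparency false
set_option backward.isDefEq.respectTransparency.types false

noncomputable section

universe u

namespace Groth.Agent.Flat.ThickeningLFT

open AlgebraicGeometry CategoryTheory CategoryTheory.Limits Topology

variable {X X' Y Y' : Scheme.{u}} {iX : X ⟶ X'} {iY : Y ⟶ Y'} {f : X ⟶ Y} {f' : X' ⟶ Y'}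

theorem isThickening_left (hY : MoreMor.IsThickening iY) (hc : IsPullback iX f f' iY) :
    MoreMor.IsThickening iX :=
  ⟨MorphismProperty.of_isPullback (P := @IsClosedImmersion) hc.flip hY.1,
    MorphismProperty.of_isPullback (P := @Surjective.{u}) hc.flip hY.2⟩

theorem formallyUnramified_descend [hft : LocallyOfFiniteType f'] (hY : MoreMor.IsThickening iY)
    (hc : IsPullback iX f f' iY) (hf : FormallyUnramified f) : FormallyUnramified f' :=
  DeformNilp.property_of_thickening (P := @FormallyUnramified)
    (Q := fun {R S} _ _ φ => RingHom.FormallyUnramified φ)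
    (RingHom.FormallyUnramified.stableUnderComposition.stableUnderCompositionWithLocalizationAway
      RingHom.FormallyUnramified.holdsForLocalizationAway).1
    (fun R B C _ _ _ _ _ _ _ I hI _ _ hft' h => by
      haveI := hft' hft
      exact RingHom.formallyUnramified_algebraMap.mpr
        (DeformNilp.formallyUnramified_of_nil (B := B) (C := C) I hI h))
    hY hc (DeformNilp.isPullback_self iY) hf

theorem isSeparated_descend (hY : MoreMor.IsThickening iY)
    (hc : IsPullback iX f f' iY) [IsSeparated f] : IsSeparated f' := by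
  haveI := (isThickening_left hY hc).2
  haveI := (isThickening_left hY hc).1
  haveI := hY.1
  haveI : IsSeparated (iX ≫ f') := by rw [hc.w]; infer_instance
  refine ⟨IsClosedImmersion.of_isPreimmersion _ ?_⟩
  have h : Set.range (pullback.diagonal f') =
      pullback.map (iX ≫ f') (iX ≫ f') f' f' iX iX (𝟙 Y') (by simp) (by simp) ''
        Set.range (pullback.diagonal (iX ≫ f')) := by
    have e : ∀ x : X, pullback.map (iX ≫ f') (iX ≫ f') f' f' iX iX (𝟙 Y') (by simp) (by simp)
        (pullback.diagonal (iX ≫ f') x) = pullback.diagonal f' (iX x) := fun x =>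
      congrArg (fun m : X ⟶ _ => m x) (Mor.ThickeningTop.diagonal_comp_map f' iX).symm
    ext z
    constructor
    · rintro ⟨x', rfl⟩
      obtain ⟨x, rfl⟩ := iX.surjective x'
      exact ⟨_, ⟨x, rfl⟩, e x⟩
    · rintro ⟨_, ⟨x, rfl⟩, rfl⟩
      exact ⟨iX x, (e x).symm⟩
  haveI : IsClosedImmersion (pullback.map (iX ≫ f') (iX ≫ f') f' f' iX iX (𝟙 Y') (by simp) (by simp)) :=
    MorphismProperty.pullback_map (P := @IsClosedImmersion) (i₁ := iX) (i₂ := iX) (by assumption)
      (by assumption) rfl rfl
  rw [h]
  exact (pullback.map (iX ≫ f') (iX ≫ f') f' f' iX iX (𝟙 Y') _ _).isClosedEmbedding.isClosedMap _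
    (pullback.diagonal (iX ≫ f')).isClosedEmbedding.isClosed_range

theorem mono_descend [LocallyOfFiniteType f'] (hY : MoreMor.IsThickening iY)
    (hc : IsPullback iX f f' iY) [Mono f] : Mono f' := by
  haveI := formallyUnramified_descend hY hc inferInstance
  haveI : UniversallyInjective f' := (Mor.ThickeningTop.universallyInjective_iff iX iY f f'
    (isThickening_left hY hc) hY hc.w).mp inferInstance
  haveI : Surjective (pullback.diagonal f') :=
    (UniversallyInjective.iff_diagonal _).mp inferInstance
  haveI : IsIso (pullback.diagonal f') :=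
    (isIso_iff_isOpenImmersion_and_surjective _).mpr ⟨inferInstance, inferInstance⟩
  refine ⟨fun {Z} p₁ p₂ h => ?_⟩
  have e := pullback.lift_fst p₁ p₂ h
  have e' := pullback.lift_snd p₁ p₂ h
  rw [← IsIso.inv_eq_of_hom_inv_id (pullback.diagonal_fst f')] at e
  rw [← IsIso.inv_eq_of_hom_inv_id (pullback.diagonal_snd f')] at e'
  exact e.symm.trans e' 

theorem isProper_descend [LocallyOfFiniteType f'] (hY : MoreMor.IsThickening iY)
    (hc : IsPullback iX f f' iY) [IsProper f] : IsProper f' := by
  haveI : UniversallyClosed f' := (Mor.ThickeningTop.universallyClosed_iff iX iY f f'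
    (isThickening_left hY hc) hY hc.w).mp inferInstance
  haveI : QuasiCompact f' := (Mor.ThickeningTop.quasiCompact_iff iX iY f f'
    (isThickening_left hY hc) hY hc.w).mp inferInstance
  haveI := isSeparated_descend hY hc
  exact ⟨⟩

theorem isClosedImmersion_descend [LocallyOfFiniteType f'] (hY : MoreMor.IsThickening iY)
    (hc : IsPullback iX f f' iY) [IsClosedImmersion f] : IsClosedImmersion f' := by
  haveI := isProper_descend hY hc
  exact (IsClosedImmersion.iff_isProper_and_mono f').mpr ⟨inferInstance, mono_descend hY hc⟩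

theorem isImmersion_descend [LocallyOfFiniteType f'] (hY : MoreMor.IsThickening iY)
    (hc : IsPullback iX f f' iY) [IsImmersion f] : IsImmersion f' := by
  haveI := hY.1
  haveI := hY.2
  haveI := (isThickening_left hY hc).2
  let U : Y'.Opens := ⟨(iY '' (coborder (Set.range f))ᶜ)ᶜ,
    (iY.isClosedEmbedding.isClosedMap _
      (IsLocallyClosed.isOpen_coborder f.isLocallyClosed_range).isClosed_compl).isOpen_compl⟩
  have hU : ∀ y, iY y ∈ U ↔ y ∈ coborder (Set.range f) := fun y => by
    show iY y ∉ iY '' _ ↔ _
    rw [iY.isClosedEmbedding.injective.mem_set_image, Set.mem_compl_iff, not_not]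
  have hf' : Set.range f' ⊆ U := by
    rintro _ ⟨x', rfl⟩
    obtain ⟨x, rfl⟩ := iX.surjective x'
    rw [← Scheme.Hom.comp_apply, hc.w, Scheme.Hom.comp_apply]
    exact (hU _).mpr (subset_coborder ⟨x, rfl⟩)
  let l : X' ⟶ U := IsOpenImmersion.lift U.ι f' (by simpa using hf')
  have hl : l ≫ U.ι = f' := IsOpenImmersion.lift_fac _ _ _
  let fU : X ⟶ pullback iY U.ι := pullback.lift f (iX ≫ l) (by rw [Category.assoc, hl, hc.w])
  have hfU : fU ≫ pullback.fst iY U.ι = f := pullback.lift_fst _ _ _
  have hsq : IsPullback fU iX (pullback.snd iY U.ι) l :=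
    IsPullback.of_right (by rw [hfU, hl]; exact hc.flip) (pullback.lift_snd _ _ _)
      (IsPullback.of_hasPullback iY U.ι)
  haveI : IsImmersion (fU ≫ pullback.fst iY U.ι) := by rw [hfU]; infer_instance
  haveI : IsImmersion fU := IsImmersion.of_comp fU (pullback.fst iY U.ι)
  haveI : IsClosedImmersion fU := by
    refine IsClosedImmersion.of_isPreimmersion fU ?_
    have h1 : Set.range fU = pullback.fst iY U.ι ⁻¹' closure (Set.range f) := by
      ext z
      constructor
      · rintro ⟨x, rfl⟩
        refine subset_closure ⟨x, ?_⟩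
        rw [← hfU]; rfl
      · intro hz
        have h2 : pullback.fst iY U.ι z ∈ coborder (Set.range f) := (hU _).mp (by
          rw [← Scheme.Hom.comp_apply, pullback.condition, Scheme.Hom.comp_apply]
          exact (pullback.snd iY U.ι z).2)
        obtain ⟨x, hx⟩ := closure_inter_coborder.le ⟨hz, h2⟩
        refine ⟨x, (pullback.fst iY U.ι).isOpenEmbedding.injective ?_⟩
        rw [← Scheme.Hom.comp_apply, hfU, hx]
    rw [h1]
    exact isClosed_closure.preimage (pullback.fst iY U.ι).continuous
  haveI : LocallyOfFiniteType (l ≫ U.ι) := by rw [hl]; infer_instance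
  haveI : LocallyOfFiniteType l := locallyOfFiniteType_of_comp l U.ι
  haveI := isClosedImmersion_descend (iX := iX) (f := fU) (f' := l)
    ⟨MorphismProperty.pullback_snd _ _ hY.1,
      MorphismProperty.pullback_snd (P := @Surjective.{u}) _ _ hY.2⟩ hsq.flip
  rw [← hl]
  infer_instance

theorem locallyQuasiFinite_descend [LocallyOfFiniteType f'] (hY : MoreMor.IsThickening iY)
    (hc : IsPullback iX f f' iY) [LocallyQuasiFinite f] : LocallyQuasiFinite f' := by
  haveI := (isThickening_left hY hc).1
  haveI := (isThickening_left hY hc).2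
  haveI := hY.1
  haveI : LocallyQuasiFinite (iX ≫ f') := by rw [hc.w]; infer_instance
  refine locallyQuasiFinite_iff_isDiscrete_preimage_singleton.mpr fun y => ?_
  have h := (iX ≫ f').isDiscrete_preimage_singleton y
  rw [show (iX ≫ f') ⁻¹' {y} = iX ⁻¹' (f' ⁻¹' {y}) from rfl] at h
  have h2 := h.image iX.isClosedEmbedding.isEmbedding.isInducing
  rwa [Set.image_preimage_eq _ iX.surjective] at h2

theorem isFinite_descend [LocallyOfFiniteType f'] (hY : MoreMor.IsThickening iY)
    (hc : IsPullback iX f f' iY) [IsFinite f] : IsFinite f' := by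
  haveI := isProper_descend hY hc
  haveI := locallyQuasiFinite_descend hY hc
  exact (IsFinite.iff_isProper_and_locallyQuasiFinite f').mpr ⟨inferInstance, inferInstance⟩

end Groth.Agent.Flat.ThickeningLFT
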