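import Groth.Agent.Flat.TorDim
import Groth.Prelude.Def_DRing2
import Mathlib.RingTheory.IsTensorProduct

/-!
Flat syzygy sequences under base change, and tor dimension from a flat syzygy.
-/

set_option autoImplicit false

noncomputable section

namespace Groth.Agent.Flat.TorDimBaseChange

universe u

open CategoryTheory Groth.Agent.Flat.LocalCriterion Groth.Agent.Flat.TorDim
open scoped TensorProduct

section torDim

variable {R : Type u} [CommRing R] {S Q : ℕ → Type u}
  [∀ i, AddCommGroup (S i)] [∀ i, Module R (S i)] [∀ i, AddCommGroup (Q i)] [∀ i, Module R (Q i)]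

/-- A flat `d`-th syzygy bounds the tor dimension. -/
theorem hasTorDimLE (s : Syz R S Q) {d : ℕ} (hd : Module.Flat R (S d))
    {M : Type u} [AddCommGroup M] [Module R M] (e : S 0 ≃ₗ[R] M) :
    DRing.HasTorDimLE R d M := by
  intro N _ _ p hp
  obtain ⟨q, rfl⟩ : ∃ q, p = q + 1 := ⟨p - 1, by omega⟩
  obtain ⟨T, W, t, hT, hTor⟩ := exists_syz (R := R) N
  have hflat : Module.Flat R (S q) := s.flat_of_le hd (by omega)
  have h1 : TorZero R (S q) (T 0) := flat_iff_torZero.mp hflat (T 0)
  rw [s.flip t q 0] at h1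
  have h3 := (hTor (S 0) q).mpr (torZero_symm (by simpa using h1))
  exact ModuleCat.subsingleton_of_isZero
    (h3.of_iso (((CategoryTheory.Tor (ModuleCat.{u} R) (q + 1)).mapIso e.symm.toModuleIso).app _))

end torDim

section baseChange

variable {R Q₀ Q₁ R' : Type u} [CommRing R] [CommRing Q₀] [CommRing Q₁] [CommRing R']
  [Algebra Q₀ R] [Algebra Q₀ Q₁] [Algebra Q₁ R'] [Algebra R R'] [Algebra Q₀ R']
  [IsScalarTower Q₀ R R']
  [Module.Flat Q₀ R]
  {S Q : ℕ → Type u}
  [∀ i, AddCommGroup (S i)] [∀ i, Module R (S i)] [∀ i, AddCommGroup (Q i)] [∀ i, Module R (Q i)]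
  [∀ i, Module Q₀ (S i)] [∀ i, IsScalarTower Q₀ R (S i)]
  [∀ i, Module Q₀ (Q i)] [∀ i, IsScalarTower Q₀ R (Q i)]

variable (Q₁) in
theorem nonempty_baseChange [IsScalarTower Q₀ Q₁ R'] [Algebra.IsPushout Q₀ Q₁ R R'] (s : Syz R S Q) (h0 : Module.Flat Q₀ (S 0)) :
    Nonempty (Syz R' (fun i => R' ⊗[R] S i) (fun i => R' ⊗[R] Q i)) := by
  let s₀ : Syz Q₀ S Q :=
    { flat := fun i => by
        haveI := s.flat i
        exact Module.Flat.trans Q₀ R (Q i)
      ι := fun i => (s.ι i).restrictScalars Q₀
      π := fun i => (s.π i).restrictScalars Q₀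
      inj := s.inj
      exact := s.exact
      surj := s.surj }
  have hflat : ∀ i, Module.Flat Q₀ (S i) := fun i => s₀.flat_of_le h0 (Nat.zero_le i)
  refine ⟨{ flat := fun i => ?_, ι := fun i => (s.ι i).baseChange R',
            π := fun i => (s.π i).baseChange R', inj := fun i => ?_, exact := fun i => ?_,
            surj := fun i => ?_ }⟩
  · haveI := s.flat i
    infer_instance
  · haveI := s₀.flat i
    have hinj : Function.Injective ((s₀.ι i).lTensor Q₁) :=
      (torZero_iff_of_cover (s₀.ι i) (s₀.π i) (s₀.inj i) (s₀.exact i) (s₀.surj i)).mp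
        (torZero_symm (flat_iff_torZero.mp (hflat i) Q₁))
    let eS := Algebra.IsPushout.cancelBaseChange Q₀ Q₁ R R' (S (i + 1))
    let eQ := Algebra.IsPushout.cancelBaseChange Q₀ Q₁ R R' (Q i)
    have hcomm : ∀ t, (s.ι i).baseChange R' (eS.symm t) = eQ.symm ((s₀.ι i).lTensor Q₁ t) := by
      intro t
      induction t using TensorProduct.induction_on with
      | zero => simp
      | add a b ha hb => simp only [map_add, ha, hb]
      | tmul a m =>
        simp only [eS, eQ, Algebra.IsPushout.cancelBaseChange_symm_tmul, LinearMap.lTensor_tmul,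
          LinearMap.baseChange_tmul]
        rfl
    intro a b hab
    obtain ⟨a, rfl⟩ := eS.symm.surjective a
    obtain ⟨b, rfl⟩ := eS.symm.surjective b
    rw [hcomm, hcomm] at hab
    rw [hinj (eQ.symm.injective hab)]
  · exact lTensor_exact R' (s.exact i) (s.surj i)
  · exact LinearMap.lTensor_surjective R' (s.surj i)

end baseChange

end Groth.Agent.Flat.TorDimBaseChange
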