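import Groth.Agent.Flat.FibreScheme
import Mathlib.RingTheory.Flat.TorsionFree
import Mathlib.RingTheory.PolynomialAlgebra
import Mathlib.RingTheory.Regular.RegularSequence

/-!
Regular sequences on the fibre give regular sequences with flat quotients.
-/

set_option autoImplicit false

set_option synthInstance.maxHeartbeats 400000

noncomputable section

universe u

namespace Groth.Agent.Flat.FibreRegular

open scoped TensorProduct
open FlatAt FibreCriterion FibreScheme Polynomial

theorem exists_smul_eq_algebraMap {R : Type u} [CommRing R] (p : Ideal R) [p.IsPrime]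
    (k : p.ResidueField) :
    ∃ a t : R, t ∉ p ∧ algebraMap R p.ResidueField t * k = algebraMap R p.ResidueField a := by
  obtain ⟨⟨a, t⟩, h⟩ := IsLocalization.surj (nonZeroDivisors (R ⧸ p)) k
  obtain ⟨a, rfl⟩ := Ideal.Quotient.mk_surjective a
  obtain ⟨t, ht⟩ := t
  obtain ⟨t, rfl⟩ := Ideal.Quotient.mk_surjective t
  refine ⟨a, t, fun h' => nonZeroDivisors.ne_zero ht (Ideal.Quotient.eq_zero_iff_mem.mpr h'), ?_⟩
  rw [mul_comm]
  exact h

section core

attribute [local instance] Algebra.TensorProduct.rightAlgebra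

variable {R C : Type u} [CommRing R] [CommRing C] [Algebra R C] {L : Type u} [AddCommGroup L]
  [Module R L] [Module C L] [Module R[X] L] [IsScalarTower R C L] [IsScalarTower R R[X] L]

/-- a fibre on which `g` is injective is flat over the polynomial ring in `g` -/
theorem flat_fibre_polynomial (p : Ideal R) [p.IsPrime] (q : Ideal C) [q.IsPrime]
    (hq : q.comap (algebraMap R C) = p) (g : C) (hg : g ∈ q)
    (hact : ∀ (H : R[X]) (x : L), H • x = aeval g H • x)
    (hunit : ∀ s, s ∉ q → Function.Bijective fun x : L => s • x)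
    (hinj : Function.Injective (((Algebra.lsmul R R L g)).lTensor p.ResidueField)) :
    Module.Flat (R[X] ⊗[R] p.ResidueField) ((R[X] ⊗[R] p.ResidueField) ⊗[R[X]] L) := by
  let κ := p.ResidueField
  let K := R[X] ⊗[R] κ
  let φ : K ≃+* κ[X] := ((Algebra.TensorProduct.comm R R[X] κ).trans
    (polyEquivTensor R κ).symm).toRingEquiv
  haveI : IsDomain K := φ.toMulEquiv.isDomain _
  haveI : IsBezout K := Function.Surjective.isBezout φ.symm.toRingHom φ.symm.surjective
  refine (Module.Flat.flat_iff_torsion_eq_bot_of_isBezout (R := K) (M := K ⊗[R[X]] L)).mpr ?_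
  rw [eq_bot_iff]
  rintro x ⟨⟨z, hz⟩, hzx⟩
  rw [Submodule.mem_bot]
  haveI : Algebra.IsPushout R κ R[X] K := Algebra.IsPushout.symm inferInstance
  let e : K ⊗[R[X]] L ≃ₗ[κ] κ ⊗[R] L := Algebra.IsPushout.cancelBaseChange R κ R[X] K L
  -- the action of `R[X]`
  have hsm : ∀ (H : R[X]) (y : K ⊗[R[X]] L),
      e ((H ⊗ₜ[R] (1 : κ)) • y) = (Algebra.lsmul R R L (aeval g H)).lTensor κ (e y) := by
    intro H y
    obtain ⟨y, rfl⟩ := e.symm.surjective y
    rw [LinearEquiv.apply_symm_apply]
    induction y using TensorProduct.induction_on with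
    | zero => simp
    | add a b ha hb => simp only [smul_add, map_add, ha, hb]
    | tmul k l =>
      refine e.symm.injective ?_
      rw [LinearEquiv.symm_apply_apply, LinearMap.lTensor_tmul, Algebra.lsmul_coe]
      simp only [← hact]
      simp only [e, Algebra.IsPushout.cancelBaseChange_symm_tmul, TensorProduct.tmul_smul]
      rw [show (H ⊗ₜ[R] (1 : κ)) = algebraMap R[X] K H from rfl, algebraMap_smul]
  -- every non-zero element acts injectively
  have key : ∀ H : R[X], (∀ y : K ⊗[R[X]] L, (H ⊗ₜ[R] (1 : κ)) • y = 0 → y = 0) ∨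
      H ⊗ₜ[R] (1 : κ) = 0 := by
    intro H
    induction H using Polynomial.recOnHorner with
    | M0 => exact Or.inr (TensorProduct.zero_tmul _ _)
    | MC f a hf _ ih =>
      by_cases ha : a ∈ p
      · have : (Polynomial.C a) ⊗ₜ[R] (1 : κ) = 0 := by
          rw [← mul_one (Polynomial.C a), ← Polynomial.smul_eq_C_mul, TensorProduct.smul_tmul,
            Algebra.smul_def, mul_one, Ideal.algebraMap_residueField_eq_zero.mpr ha,
            TensorProduct.tmul_zero]
        rw [TensorProduct.add_tmul, this, add_zero]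
        exact ih
      · refine Or.inl fun y hy => e.injective ?_
        have hu : aeval g (f + Polynomial.C a) ∉ q := fun h => ha (by
          rw [← hq, Ideal.mem_comap]
          obtain ⟨f', hf'⟩ := X_dvd_iff.mpr hf
          rw [hf', map_add, map_mul, aeval_X, aeval_C] at h
          exact (Submodule.add_mem_iff_right _ (Ideal.mul_mem_right _ _ hg)).mp h)
        have hb : Function.Bijective (Algebra.lsmul R R L (aeval g (f + Polynomial.C a))) := hunit _ hu
        rw [map_zero]
        refine (LinearEquiv.ofBijective _ hb).lTensor κ |>.injective ?_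
        rw [map_zero]
        exact (hsm _ y).symm.trans (by rw [hy, map_zero])
    | MX f _ ih =>
      rcases ih with ih | ih
      · refine Or.inl fun y hy => ih y (e.injective ?_)
        have h := hsm (f * X) y
        rw [hy, map_zero, mul_comm, map_mul, aeval_X] at h
        rw [map_zero, hsm]
        refine hinj ?_
        rw [map_zero, ← LinearMap.lTensor_comp_apply]
        rw [map_mul] at h
        exact h.symm
      · refine Or.inr ?_
        rw [← mul_one (1 : κ), ← Algebra.TensorProduct.tmul_mul_tmul, ih, zero_mul]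
  -- clear denominators
  obtain ⟨t, H, ht, htH⟩ : ∃ (t : R) (H : R[X]), t ∉ p ∧ t • z = H ⊗ₜ[R] (1 : κ) := by
    clear hz hzx
    induction z using TensorProduct.induction_on with
    | zero => exact ⟨1, 0, fun h => Ideal.IsPrime.ne_top ‹_› ((Ideal.eq_top_iff_one p).mpr h),
        by simp⟩
    | add a b ha hb =>
      obtain ⟨t, H, ht, h⟩ := ha
      obtain ⟨t', H', ht', h'⟩ := hb
      refine ⟨t * t', t' • H + t • H', fun hh => (Ideal.IsPrime.mem_or_mem ‹_› hh).elim ht ht', ?_⟩
      rw [TensorProduct.add_tmul, ← TensorProduct.smul_tmul', ← TensorProduct.smul_tmul', ← h,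
        ← h', smul_add, smul_smul, smul_smul, mul_comm t' t]
    | tmul f k =>
      obtain ⟨a, t, ht, h⟩ := exists_smul_eq_algebraMap p k
      refine ⟨t, a • f, ht, ?_⟩
      rw [← TensorProduct.tmul_smul, Algebra.smul_def t k, h, TensorProduct.smul_tmul,
        Algebra.algebraMap_eq_smul_one]
  have htz : t • z ≠ 0 := fun h => by
    have hz0 : z ≠ 0 := nonZeroDivisors.ne_zero hz
    rw [show t • z = algebraMap R K t * z from Algebra.smul_def t z] at h
    refine (mul_eq_zero.mp h).elim (fun h1 => ?_) hz0
    have h2 := congrArg φ h1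
    rw [map_zero] at h2
    have h3 : φ (algebraMap R K t) = algebraMap R κ[X] t :=
      ((Algebra.TensorProduct.comm R R[X] κ).trans (polyEquivTensor R κ).symm).commutes t
    rw [h3, IsScalarTower.algebraMap_apply R κ κ[X], Polynomial.algebraMap_eq, C_eq_zero] at h2
    exact ht (Ideal.algebraMap_residueField_eq_zero.mp h2)
  refine (key H).elim (fun h => h x ?_) (fun h => (htz (htH.trans h)).elim)
  rw [← htH, smul_assoc, show z • x = 0 from hzx, smul_zero]

end core

section regular

variable {R C M : Type u} [CommRing R] [CommRing C] [Algebra R C] [AddCommGroup M] [Module R M]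
  [Module C M] [IsScalarTower R C M] (q : Ideal C) [q.IsPrime]

set_option maxHeartbeats 800000 in
/-- an element regular on the fibre makes the module flat over the polynomial ring -/
theorem flatAt_polynomial [Algebra.FinitePresentation R C] [Module.FinitePresentation C M]
    [Algebra R[X] C] [IsScalarTower R R[X] C] [Module R[X] M] [IsScalarTower R[X] C M]
    [IsScalarTower R R[X] M] (g : C) (hX : ∀ H : R[X], algebraMap R[X] C H = aeval g H)
    (hg : g ∈ q) (hR : FlatAt R M q)
    (hreg : ∀ y : M ⊗[R] (q.comap (algebraMap R C)).ResidueField, g • y = 0 →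
      ∃ s, s ∉ q ∧ s • y = 0) :
    FlatAt R[X] M q := by
  let p := q.comap (algebraMap R C)
  let ℓ := LocalizedModule.mkLinearMap q.primeCompl M
  let L := LocalizedModule q.primeCompl M
  have hunit : ∀ s, s ∉ q → Function.Bijective fun x : L => s • x := fun s hs =>
    (Module.End.isUnit_iff _).mp (IsLocalizedModule.map_units ℓ (⟨s, hs⟩ : q.primeCompl))
  have hinj : Function.Injective ((Algebra.lsmul R R L g).lTensor p.ResidueField) := by
    let r := TensorProduct.AlgebraTensorModule.rTensor R p.ResidueField ℓ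
    have hr : ∀ y : L ⊗[R] p.ResidueField, g • y = 0 → y = 0 := by
      intro y hy
      obtain ⟨⟨x, s⟩, hxy⟩ := IsLocalizedModule.surj q.primeCompl r y
      have h0 : r (g • x) = 0 := by
        rw [map_smul, ← hxy, smul_comm, hy, smul_zero]
      obtain ⟨t, ht⟩ := (IsLocalizedModule.eq_zero_iff q.primeCompl r).mp h0
      rw [Submonoid.smul_def, smul_comm] at ht
      obtain ⟨v, hv, hv0⟩ := hreg _ ht
      have h1 : r x = 0 := (IsLocalizedModule.eq_zero_iff q.primeCompl r).mpr
        ⟨⟨v * t, q.primeCompl.mul_mem hv t.2⟩, by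
          rw [Submonoid.smul_def, mul_smul]; exact hv0⟩
      refine ((Module.End.isUnit_iff _).mp (IsLocalizedModule.map_units r s)).injective ?_
      rw [map_zero, ← h1, ← hxy]
      rfl
    rw [injective_iff_map_eq_zero]
    intro z hz
    have hcomm : ∀ w, TensorProduct.comm R p.ResidueField L
        ((Algebra.lsmul R R L g).lTensor p.ResidueField w) =
          g • TensorProduct.comm R p.ResidueField L w := fun w => by
      induction w using TensorProduct.induction_on with
      | zero => simp
      | add a b ha hb => simp only [map_add, smul_add, ha, hb]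
      | tmul k l => simp [TensorProduct.smul_tmul']
    refine (TensorProduct.comm R p.ResidueField L).injective ?_
    rw [map_zero]
    exact hr _ ((hcomm z).symm.trans (by rw [hz, map_zero]))
  have hfibre := flat_fibre_polynomial (L := L) p q rfl g hg
    (fun H x => ((algebraMap_smul C H x).symm).trans (by rw [hX])) hunit hinj
  have hkill : FlatAtKilled R[X] M (p.map (algebraMap R R[X])) q := by
    have hL := flatAtKilled_of_fibre (C := C) (M := L) p q rfl hfibre
    intro P Q _ _ _ _ f hf hP hQ x hx
    refine Descent.exists_smul_eq_zero_of_injective q.primeCompl ℓ f ?_ hx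
    rw [injective_iff_map_eq_zero]
    intro y hy
    obtain ⟨s, hs, hs0⟩ := hL f hf hP hQ y hy
    refine ((Module.End.isUnit_iff _).mp (IsLocalizedModule.map_units
      (TensorProduct.AlgebraTensorModule.rTensor R[X] P ℓ)
      (⟨s, hs⟩ : q.primeCompl))).injective ?_
    rw [map_zero]
    exact hs0
  exact flatAt_of_fibre q hR hkill

/-- the fibre at zero -/
theorem exists_isBaseChange_zero [Algebra R[X] C] [Module R[X] M] [IsScalarTower R[X] C M]
    (g : C) (hX : ∀ H : R[X], algebraMap R[X] C H = aeval g H) :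
    letI : Algebra R[X] R := (aeval (R := R) (0 : R)).toRingHom.toAlgebra
    ∃ _ : IsScalarTower R[X] R (M ⧸ (Ideal.span {g} • ⊤ : Submodule C M)),
      IsBaseChange R ((Ideal.span {g} • ⊤ : Submodule C M).mkQ.restrictScalars R[X]) := by
  letI : Algebra R[X] R := (aeval (R := R) (0 : R)).toRingHom.toAlgebra
  have hgX : ∀ (H : R[X]) (m : M), H • m = aeval g H • m := fun H m => by
    rw [← hX, algebraMap_smul]
  haveI inst : IsScalarTower R[X] R (M ⧸ (Ideal.span {g} • ⊤ : Submodule C M)) :=
    IsScalarTower.of_algebraMap_smul fun H y => by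
      obtain ⟨m, rfl⟩ := Submodule.mkQ_surjective _ y
      rw [← algebraMap_smul C H (Submodule.mkQ _ m), hX]
      show aeval (0 : R) H • Submodule.mkQ _ m = aeval g H • Submodule.mkQ _ m
      rw [← algebraMap_smul C (aeval (0 : R) H) (Submodule.mkQ _ m), ← map_smul, ← map_smul,
        Submodule.mkQ_apply, Submodule.mkQ_apply, eq_comm, Submodule.Quotient.eq, ← sub_smul]
      refine Submodule.smul_mem_smul ?_ trivial
      rw [Ideal.mem_span_singleton]
      have hd := sub_dvd_eval_sub g (0 : C) (H.map (algebraMap R C))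
      rw [sub_zero, eval_map_algebraMap, eval_map_algebraMap] at hd
      rwa [show algebraMap R C (aeval (0 : R) H) = aeval (0 : C) H from by
        rw [← aeval_algebraMap_apply, map_zero]]
  refine ⟨inst, ?_⟩
  refine IsBaseChange.of_lift_unique _ fun Q _ _ _ _ u => ?_
  letI : AddCommGroup Q := Module.addCommMonoidToAddCommGroup R
  have hker : (Ideal.span {g} • ⊤ : Submodule C M).restrictScalars R[X] ≤ LinearMap.ker u := by
    intro m hm
    rw [Submodule.restrictScalars_mem, Submodule.ideal_span_singleton_smul] at hm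
    obtain ⟨m', -, rfl⟩ := hm
    rw [LinearMap.mem_ker]
    show u (g • m') = 0
    rw [show g • m' = (X : R[X]) • m' from by
        rw [hgX, aeval_X], map_smul, ← algebraMap_smul R (X : R[X]) (u m'),
      show algebraMap R[X] R X = 0 from aeval_X 0, zero_smul]
  let u' : (M ⧸ (Ideal.span {g} • ⊤ : Submodule C M)) →ₗ[R[X]] Q :=
    ((Ideal.span {g} • ⊤ : Submodule C M).restrictScalars R[X]).liftQ u hker ∘ₗ
      (Submodule.Quotient.restrictScalarsEquiv R[X] _).symm.toLinearMap
  refine ⟨LinearMap.extendScalarsOfSurjective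
    (fun r => ⟨Polynomial.C r, aeval_C 0 r⟩ : Function.Surjective (algebraMap R[X] R)) u', ?_, fun v hv => ?_⟩
  · ext m; rfl
  · refine LinearMap.ext fun y => ?_
    obtain ⟨m, rfl⟩ := Submodule.mkQ_surjective _ y
    exact LinearMap.congr_fun hv m


set_option maxHeartbeats 800000 in
/-- an element regular on the fibre is regular, with flat quotient -/
theorem injective_and_flatAt_quotient [Algebra.FinitePresentation R C]
    [Module.FinitePresentation C M] (g : C) (hg : g ∈ q) (hR : FlatAt R M q)
    (hreg : ∀ y : M ⊗[R] (q.comap (algebraMap R C)).ResidueField, g • y = 0 →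
      ∃ s, s ∉ q ∧ s • y = 0) :
    (∀ m : M, g • m = 0 → ∃ s, s ∉ q ∧ s • m = 0) ∧
      FlatAt R (M ⧸ (Ideal.span {g} • ⊤ : Submodule C M)) q := by
  letI : Algebra R[X] C := (aeval (R := R) g).toRingHom.toAlgebra
  haveI : IsScalarTower R R[X] C := IsScalarTower.of_algebraMap_eq fun r => (aeval_C g r).symm
  letI : Module R[X] M := Module.compHom M (aeval (R := R) g).toRingHom
  haveI : IsScalarTower R[X] C M := IsScalarTower.of_algebraMap_smul fun _ _ => rfl
  haveI : IsScalarTower R R[X] M := IsScalarTower.of_algebraMap_smul fun r m => by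
    show aeval g (Polynomial.C r) • m = r • m
    rw [aeval_C, algebraMap_smul]
  have hB : FlatAt R[X] M q := flatAt_polynomial q g (fun _ => rfl) hg hR hreg
  refine ⟨fun m hm => ?_, ?_⟩
  · obtain ⟨s, hs, hs0⟩ := hB (LinearMap.mulLeft R[X] (X : R[X]))
      (fun a b h => Polynomial.monic_X.isRegular.left h) (m ⊗ₜ 1) (by
        rw [LinearMap.lTensor_tmul, LinearMap.mulLeft_apply, mul_one, ← mul_one (X : R[X]),
          ← smul_eq_mul, ← TensorProduct.smul_tmul, show (X : R[X]) • m = aeval g X • m from rfl,
          aeval_X, hm, TensorProduct.zero_tmul])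
    refine ⟨s, hs, ?_⟩
    rw [TensorProduct.smul_tmul'] at hs0
    simpa using congrArg (TensorProduct.rid R[X] M) hs0
  · letI : Algebra R[X] R := (aeval (R := R) (0 : R)).toRingHom.toAlgebra
    obtain ⟨_, hj⟩ := exists_isBaseChange_zero (R := R) (M := M) g (fun _ => rfl)
    exact FlatAt.baseChange (RingHom.id C) _ hj (fun _ _ => rfl) q le_rfl hB

theorem mem_smul_top_localized_iff {L : Type u} [AddCommGroup L] [Module C L] (ℓ : M →ₗ[C] L)
    [IsLocalizedModule q.primeCompl ℓ] (I : Ideal C) (m : M) :
    ℓ m ∈ I • (⊤ : Submodule C L) ↔ ∃ s, s ∉ q ∧ s • m ∈ I • (⊤ : Submodule C M) := by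
  constructor
  · intro h
    have key : ∀ y ∈ I • (⊤ : Submodule C L), ∃ (s : C) (m' : M), s ∉ q ∧
        m' ∈ I • (⊤ : Submodule C M) ∧ s • y = ℓ m' := by
      intro y hy
      refine Submodule.smul_induction_on hy (fun i hi l _ => ?_) ?_
      · obtain ⟨⟨m', s⟩, hs⟩ := IsLocalizedModule.surj q.primeCompl ℓ l
        refine ⟨s, i • m', s.2, Submodule.smul_mem_smul hi trivial, ?_⟩
        rw [map_smul, ← hs, Submonoid.smul_def, smul_comm]
      · rintro a b ⟨s, m', hs, hm', ha⟩ ⟨t, n', ht, hn', hb⟩
        refine ⟨s * t, t • m' + s • n', q.primeCompl.mul_mem hs ht,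
          add_mem (Submodule.smul_mem _ _ hm') (Submodule.smul_mem _ _ hn'), ?_⟩
        rw [map_add, map_smul, map_smul, ← ha, ← hb, smul_add, mul_smul, mul_smul, smul_comm t s]
    obtain ⟨s, m', hs, hm', he⟩ := key _ h
    rw [← map_smul] at he
    obtain ⟨u, hu⟩ := (IsLocalizedModule.eq_iff_exists q.primeCompl ℓ).mp he
    refine ⟨u * s, q.primeCompl.mul_mem u.2 hs, ?_⟩
    rw [mul_smul]
    rw [Submonoid.smul_def, Submonoid.smul_def] at hu
    rw [hu]
    exact Submodule.smul_mem _ _ hm'
  · rintro ⟨s, hs, hm⟩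
    obtain ⟨v, hv⟩ := (IsLocalizedModule.map_units ℓ (⟨s, hs⟩ : q.primeCompl)).exists_left_inv
    have h1 : ℓ (s • m) ∈ I • (⊤ : Submodule C L) := by
      have := Submodule.mem_map_of_mem (f := ℓ) hm
      rw [Submodule.map_smul''] at this
      exact Submodule.smul_mono le_rfl le_top this
    have h2 := Submodule.mem_map_of_mem (f := v) h1
    rw [Submodule.map_smul''] at h2
    have h3 : v (ℓ (s • m)) = ℓ m := by
      rw [map_smul ℓ]
      exact LinearMap.congr_fun hv (ℓ m)
    exact h3 ▸ Submodule.smul_mono le_rfl le_top h2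

omit [Algebra R C] [Module R M] [IsScalarTower R C M] in
theorem isSMulRegular_localized_iff {L : Type u} [AddCommGroup L] [Module C L] (ℓ : M →ₗ[C] L)
    [IsLocalizedModule q.primeCompl ℓ] (I : Ideal C) (g : C) :
    IsSMulRegular (L ⧸ (I • ⊤ : Submodule C L)) g ↔
      ∀ m : M, g • m ∈ I • (⊤ : Submodule C M) → ∃ s, s ∉ q ∧ s • m ∈ I • (⊤ : Submodule C M) := by
  rw [isSMulRegular_iff_right_eq_zero_of_smul]
  constructor
  · intro h m hm
    refine (mem_smul_top_localized_iff q ℓ I m).mp ((Submodule.Quotient.mk_eq_zero _).mp (h _ ?_))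
    rw [← Submodule.Quotient.mk_smul, Submodule.Quotient.mk_eq_zero, ← map_smul]
    exact (mem_smul_top_localized_iff q ℓ I _).mpr
      ⟨1, fun h1 => Ideal.IsPrime.ne_top ‹_› ((Ideal.eq_top_iff_one q).mpr h1), by rwa [one_smul]⟩
  · intro h x hx
    obtain ⟨y, rfl⟩ := Submodule.mkQ_surjective _ x
    obtain ⟨⟨m, s⟩, hs⟩ := IsLocalizedModule.surj q.primeCompl ℓ y
    rw [Submodule.mkQ_apply, ← Submodule.Quotient.mk_smul, Submodule.Quotient.mk_eq_zero] at hx
    have h1 : ℓ (g • m) ∈ I • (⊤ : Submodule C L) := by
      rw [map_smul, ← hs, smul_comm]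
      exact Submodule.smul_mem _ _ hx
    obtain ⟨t, ht, htm⟩ := (mem_smul_top_localized_iff q ℓ I _).mp h1
    rw [smul_comm] at htm
    obtain ⟨u, hu, hum⟩ := h _ htm
    rw [← mul_smul] at hum
    have h2 : ℓ m ∈ I • (⊤ : Submodule C L) :=
      (mem_smul_top_localized_iff q ℓ I m).mpr ⟨u * t, q.primeCompl.mul_mem hu ht, hum⟩
    rw [Submodule.mkQ_apply, Submodule.Quotient.mk_eq_zero]
    obtain ⟨v, hv⟩ := (IsLocalizedModule.map_units ℓ s).exists_left_inv
    have h3 := Submodule.mem_map_of_mem (f := v) h2
    rw [Submodule.map_smul''] at h3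
    have h4 : v (ℓ m) = y := by
      rw [← hs]
      exact LinearMap.congr_fun hv y
    exact h4 ▸ Submodule.smul_mono le_rfl le_top h3

/-- regular sequences on the fibre are regular, with flat quotients -/
theorem flatAt_quotient_take [Algebra.FinitePresentation R C] [Module.FinitePresentation C M]
    (g : List C) (hg : ∀ b ∈ g, b ∈ q) (hR : FlatAt R M q)
    (hreg : ∀ i (hi : i < g.length),
      ∀ y : M ⊗[R] (q.comap (algebraMap R C)).ResidueField,
        g[i] • y ∈ Ideal.ofList (g.take i) •
          (⊤ : Submodule C (M ⊗[R] (q.comap (algebraMap R C)).ResidueField)) →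
        ∃ s, s ∉ q ∧ s • y ∈ Ideal.ofList (g.take i) •
          (⊤ : Submodule C (M ⊗[R] (q.comap (algebraMap R C)).ResidueField))) :
    (∀ i (hi : i < g.length), ∀ m : M, g[i] • m ∈ Ideal.ofList (g.take i) • (⊤ : Submodule C M) →
        ∃ s, s ∉ q ∧ s • m ∈ Ideal.ofList (g.take i) • (⊤ : Submodule C M)) ∧
      ∀ i ≤ g.length, FlatAt R (M ⧸ (Ideal.ofList (g.take i) • ⊤ : Submodule C M)) q := by
  suffices h : ∀ i ≤ g.length, FlatAt R (M ⧸ (Ideal.ofList (g.take i) • ⊤ : Submodule C M)) q ∧
      ∀ hi : i < g.length, ∀ m : M, g[i] • m ∈ Ideal.ofList (g.take i) • (⊤ : Submodule C M) →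
        ∃ s, s ∉ q ∧ s • m ∈ Ideal.ofList (g.take i) • (⊤ : Submodule C M) from
    ⟨fun i hi => (h i hi.le).2 hi, fun i hi => (h i hi).1⟩
  let κ := (q.comap (algebraMap R C)).ResidueField
  have hstep : ∀ i (hi : i < g.length),
      FlatAt R (M ⧸ (Ideal.ofList (g.take i) • ⊤ : Submodule C M)) q →
      (∀ m : M, g[i] • m ∈ Ideal.ofList (g.take i) • (⊤ : Submodule C M) →
        ∃ s, s ∉ q ∧ s • m ∈ Ideal.ofList (g.take i) • (⊤ : Submodule C M)) ∧
      FlatAt R (M ⧸ (Ideal.ofList (g.take (i + 1)) • ⊤ : Submodule C M)) q := by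
    intro i hi hflat
    let N := (Ideal.ofList (g.take i) • ⊤ : Submodule C M)
    haveI : Module.FinitePresentation C (M ⧸ N) :=
      Module.finitePresentation_of_surjective N.mkQ N.mkQ_surjective (by
        rw [Submodule.ker_mkQ]
        exact Submodule.FG.smul (Submodule.fg_span (List.finite_toSet _))
          (Module.finite_def.mp inferInstance))
    obtain ⟨h1, h2⟩ := injective_and_flatAt_quotient (M := M ⧸ N) q g[i]
      (hg _ (List.getElem_mem hi)) hflat (by
        intro y hy
        obtain ⟨y, rfl⟩ : ∃ z, TensorProduct.AlgebraTensorModule.rTensor R κ N.mkQ z = y :=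
          LinearMap.rTensor_surjective κ (g := N.mkQ.restrictScalars R) N.mkQ_surjective y
        have hker : ∀ z : M ⊗[R] κ, TensorProduct.AlgebraTensorModule.rTensor R κ N.mkQ z = 0 ↔
            z ∈ Ideal.ofList (g.take i) • (⊤ : Submodule C (M ⊗[R] κ)) := by
          intro z
          constructor
          · intro hz
            obtain ⟨w, rfl⟩ := ((rTensor_exact κ
              (f := N.subtype.restrictScalars R) (g := N.mkQ.restrictScalars R)
              (LinearMap.exact_subtype_mkQ N) N.mkQ_surjective) z).mp hz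
            clear hz
            induction w using TensorProduct.induction_on with
            | zero => rw [map_zero]; exact zero_mem _
            | add a b ha hb => rw [map_add]; exact add_mem ha hb
            | tmul n k =>
              obtain ⟨n, hn⟩ := n
              have := Submodule.mem_map_of_mem
                (f := (TensorProduct.AlgebraTensorModule.mk R C M κ).flip k) hn
              rw [Submodule.map_smul''] at this
              exact Submodule.smul_mono le_rfl le_top this
          · intro hz
            refine Submodule.smul_induction_on hz (fun a ha w _ => ?_) fun a b ha hb => by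
              rw [map_add, ha, hb, add_zero]
            rw [map_smul]
            generalize TensorProduct.AlgebraTensorModule.rTensor R κ N.mkQ w = v
            induction v using TensorProduct.induction_on with
            | zero => rw [smul_zero]
            | add u v hu hv => rw [smul_add, hu, hv, add_zero]
            | tmul u v =>
              obtain ⟨u, rfl⟩ := N.mkQ_surjective u
              rw [TensorProduct.smul_tmul', ← map_smul, show N.mkQ (a • u) = 0 from
                (Submodule.Quotient.mk_eq_zero N).mpr (Submodule.smul_mem_smul ha trivial),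
                TensorProduct.zero_tmul]
        rw [← map_smul, hker] at hy
        obtain ⟨s, hs, hsy⟩ := hreg i hi y hy
        exact ⟨s, hs, by rw [← map_smul, hker]; exact hsy⟩)
    refine ⟨fun m hm => ?_, ?_⟩
    · obtain ⟨s, hs, hs0⟩ := h1 (Submodule.Quotient.mk m) (by
        rw [← Submodule.Quotient.mk_smul, Submodule.Quotient.mk_eq_zero]; exact hm)
      exact ⟨s, hs, by
        rwa [← Submodule.Quotient.mk_smul, Submodule.Quotient.mk_eq_zero] at hs0⟩
    · have he : Ideal.ofList (g.take (i + 1)) • (⊤ : Submodule C M) =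
          N ⊔ Ideal.span {g[i]} • ⊤ := by
        rw [List.take_succ_eq_append_getElem hi, Ideal.ofList_append, Ideal.ofList_singleton,
          Submodule.sup_smul]
      have he2 : (Ideal.span {g[i]} • ⊤ : Submodule C (M ⧸ N)) =
          (Ideal.ofList (g.take (i + 1)) • (⊤ : Submodule C M)).map N.mkQ := by
        rw [he, Submodule.map_sup, N.mkQ_map_self, bot_sup_eq, Submodule.map_smul'',
          Submodule.map_top, N.range_mkQ]
      exact h2.of_linearEquiv ((Submodule.quotEquivOfEq _ _ he2).trans
        (Submodule.quotientQuotientEquivQuotient N _ (he ▸ le_sup_left)))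
  intro i hi
  induction i with
  | zero =>
    have h0 : (Ideal.ofList (g.take 0) • ⊤ : Submodule C M) = ⊥ := by simp
    have hf := hR.of_linearEquiv
      ((Submodule.quotEquivOfEqBot _ h0).symm)
    exact ⟨hf, fun hi => (hstep 0 hi hf).1⟩
  | succ i ih =>
    have hf := (hstep i hi (ih (Nat.le_of_succ_le hi)).1).2
    exact ⟨hf, fun hi => (hstep (i + 1) hi hf).1⟩

end regular

section away

variable {R C : Type u} [CommRing R] [CommRing C] [Algebra R C]

/-- a regular element of the fibre is regular near the prime, with flat quotient -/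
theorem exists_away_regular [Algebra.FinitePresentation R C] (q : Ideal C) [q.IsPrime] (c : C)
    (hc : c ∈ q) (hR : FlatAt R C q)
    (hreg : ∀ y : C ⊗[R] (q.comap (algebraMap R C)).ResidueField, c • y = 0 →
      ∃ s, s ∉ q ∧ s • y = 0) :
    ∃ g, g ∉ q ∧ ∀ (g' : C) (C' : Type u) [CommRing C'] [Algebra C C'] [Algebra R C']
      [IsScalarTower R C C'] [IsLocalization.Away (g * g') C'],
      algebraMap C C' c ∈ nonZeroDivisors C' ∧
        Module.Flat R (C' ⧸ Ideal.span {algebraMap C C' c}) := by
  letI : Algebra R[X] C := (aeval (R := R) c).toRingHom.toAlgebra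
  haveI : IsScalarTower R R[X] C := IsScalarTower.of_algebraMap_eq fun r => (aeval_C c r).symm
  haveI : Algebra.FinitePresentation R[X] C :=
    Algebra.FinitePresentation.of_restrict_scalars_finitePresentation R R[X] C
  have hB : FlatAt R[X] C q := flatAt_polynomial q c (fun _ => rfl) hc hR hreg
  obtain ⟨_, ⟨_, ⟨g, rfl⟩, rfl⟩, hgq, hgU⟩ :=
    PrimeSpectrum.isBasis_basic_opens.exists_subset_of_mem_open
      (show (⟨q, inferInstance⟩ : PrimeSpectrum C) ∈
        {Q : PrimeSpectrum C | FlatAt R[X] C Q.asIdeal} from hB)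
      OpenLocus.isOpen_flatLocus
  refine ⟨g, hgq, fun g' C' _ _ _ _ _ => ?_⟩
  letI : Algebra R[X] C' := (aeval (R := R) (algebraMap C C' c)).toRingHom.toAlgebra
  haveI : IsScalarTower R[X] C C' := IsScalarTower.of_algebraMap_eq fun H =>
    aeval_algebraMap_apply C' c H
  haveI : IsScalarTower R R[X] C' := IsScalarTower.of_algebraMap_eq fun r => (aeval_C _ r).symm
  haveI : Module.Flat R[X] C' := by
    rw [Module.Flat.iff_lTensor_injective']
    refine fun a => Descent.lTensor_localized_injective (Submonoid.powers (g * g'))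
      (Algebra.linearMap C C') a.subtype fun x hx => ?_
    have hb : g * g' ∈ Ideal.radical (LinearMap.ker (LinearMap.toSpanSingleton C _ x)) := by
      rw [Ideal.radical_eq_sInf, Ideal.mem_sInf]
      rintro Q ⟨hle, hQ⟩
      by_contra hgQ
      have hU : (⟨Q, hQ⟩ : PrimeSpectrum C) ∈ {Q : PrimeSpectrum C | FlatAt R[X] C Q.asIdeal} :=
        hgU (show g ∉ Q from fun h => hgQ (Ideal.mul_mem_right _ _ h))
      obtain ⟨s, hs, hs0⟩ := hU a.subtype (Submodule.injective_subtype a) x hx
      exact hs (hle (show LinearMap.toSpanSingleton C _ x s = 0 from hs0))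
    obtain ⟨n, hn⟩ := hb
    exact ⟨(g * g') ^ n, ⟨n, rfl⟩, hn⟩
  constructor
  · rw [mem_nonZeroDivisors_iff_right]
    intro x hx
    have h0 : x ⊗ₜ[R[X]] (1 : R[X]) = 0 := by
      refine Module.Flat.lTensor_preserves_injective_linearMap
        (LinearMap.mulLeft R[X] (X : R[X])) (fun a b h => Polynomial.monic_X.isRegular.left h) ?_
      rw [map_zero, LinearMap.lTensor_tmul, LinearMap.mulLeft_apply, mul_one, ← mul_one (X : R[X]),
        ← smul_eq_mul, ← TensorProduct.smul_tmul, Algebra.smul_def,
        show algebraMap R[X] C' X = algebraMap C C' c from aeval_X _, mul_comm, hx,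
        TensorProduct.zero_tmul]
    simpa using congrArg (TensorProduct.rid R[X] C') h0
  · letI : Algebra R[X] R := (aeval (R := R) (0 : R)).toRingHom.toAlgebra
    obtain ⟨_, hj⟩ :=
      exists_isBaseChange_zero (R := R) (M := C') (algebraMap C C' c) (fun _ => rfl)
    haveI := Module.Flat.isBaseChange R[X] R C' _ hj
    exact Module.Flat.of_linearEquiv (((Submodule.quotEquivOfEq _ _
      (show Ideal.span {algebraMap C C' c} = Ideal.span {algebraMap C C' c} • (⊤ : Ideal C') by
        rw [smul_eq_mul, Ideal.mul_top])) :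
      (C' ⧸ Ideal.span {algebraMap C C' c}) ≃ₗ[C'] _).restrictScalars R)

/-- regularity on the local ring of the fibre, read on `C ⊗ κ` -/
theorem fibre_regular_of_localization (q : Ideal C) [q.IsPrime] (O : Type u) [CommRing O]
    [Algebra C O] [IsLocalization.AtPrime O q] (c : C)
    (hO : ∀ z : O,
      algebraMap C O c * z ∈
        ((q.comap (algebraMap R C)).map (algebraMap R C)).map (algebraMap C O) →
      z ∈ ((q.comap (algebraMap R C)).map (algebraMap R C)).map (algebraMap C O)) :
    ∀ y : C ⊗[R] (q.comap (algebraMap R C)).ResidueField, c • y = 0 →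
      ∃ s, s ∉ q ∧ s • y = 0 := by
  intro y hy
  let p := q.comap (algebraMap R C)
  let pC := p.map (algebraMap R C)
  obtain ⟨t, c', ht, htc⟩ :
      ∃ (t : R) (c' : C), t ∉ p ∧ t • y = c' ⊗ₜ[R] (1 : p.ResidueField) := by
    clear hy
    induction y using TensorProduct.induction_on with
    | zero => exact ⟨1, 0, fun h => (inferInstance : p.IsPrime).ne_top (by
        rw [Ideal.eq_top_iff_one]; simpa using h), by simp⟩
    | add a b ha hb =>
      obtain ⟨t, H, ht, h⟩ := ha
      obtain ⟨t', H', ht', h'⟩ := hb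
      refine ⟨t * t', t' • H + t • H', fun hh => ((inferInstance : p.IsPrime).mem_or_mem hh).elim
        ht ht', ?_⟩
      rw [TensorProduct.add_tmul, ← TensorProduct.smul_tmul', ← TensorProduct.smul_tmul', ← h,
        ← h', smul_add, smul_smul, smul_smul, mul_comm t' t]
    | tmul f k =>
      obtain ⟨a, t, ht, h⟩ := exists_smul_eq_algebraMap p k
      refine ⟨t, a • f, ht, ?_⟩
      rw [← TensorProduct.tmul_smul, Algebra.smul_def t k, h, TensorProduct.smul_tmul,
        Algebra.algebraMap_eq_smul_one]
  have hcc : (c * c') ⊗ₜ[R] (1 : p.ResidueField) = 0 := by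
    rw [← smul_eq_mul, ← TensorProduct.smul_tmul', ← htc, smul_comm, hy, smul_zero]
  obtain ⟨t', ht', htt⟩ := exists_smul_eq_zero_of_one_tmul (N := C ⧸ pC) p
    (fun a ha z => by
      obtain ⟨z, rfl⟩ := Ideal.Quotient.mk_surjective z
      rw [Algebra.smul_def]
      exact Ideal.Quotient.eq_zero_iff_mem.mpr
        (Ideal.mul_mem_right _ _ (Ideal.mem_map_of_mem _ ha)))
    (Ideal.Quotient.mk pC (c * c')) (by
      have h := congrArg (fun w => TensorProduct.comm R (C ⧸ pC) p.ResidueField
        ((Ideal.Quotient.mkₐ R pC).toLinearMap.rTensor _ w)) hcc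
      simpa using h)
  have hmem : algebraMap R C t' * (c * c') ∈ pC := by
    rw [Algebra.smul_def] at htt
    exact Ideal.Quotient.eq_zero_iff_mem.mp htt
  have hu : IsUnit (algebraMap C O (algebraMap R C t')) :=
    IsLocalization.map_units O (⟨_, ht'⟩ : q.primeCompl)
  have h1 : algebraMap C O c' ∈ pC.map (algebraMap C O) := by
    refine hO _ ((Ideal.unit_mul_mem_iff_mem _ hu).mp ?_)
    rw [← map_mul, ← map_mul]
    exact Ideal.mem_map_of_mem _ hmem
  obtain ⟨⟨⟨a, ha⟩, ⟨s, hs⟩⟩, has⟩ :=
    (IsLocalization.mem_map_algebraMap_iff q.primeCompl O).mp h1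
  rw [← map_mul] at has
  obtain ⟨⟨w, hw⟩, hwe⟩ := (IsLocalization.eq_iff_exists q.primeCompl O).mp has
  have hz : ∀ i ∈ pC, i ⊗ₜ[R] (1 : p.ResidueField) = 0 := by
    intro i hi
    induction hi using Submodule.span_induction with
    | mem z hz =>
      obtain ⟨r, hr, rfl⟩ := hz
      rw [Algebra.algebraMap_eq_smul_one, TensorProduct.smul_tmul, ← Algebra.algebraMap_eq_smul_one,
        Ideal.algebraMap_residueField_eq_zero.mpr hr, TensorProduct.tmul_zero]
    | zero => exact TensorProduct.zero_tmul _ _
    | add a b _ _ ha hb => rw [TensorProduct.add_tmul, ha, hb, add_zero]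
    | smul d a _ ha => rw [← TensorProduct.smul_tmul', ha, smul_zero]
  refine ⟨w * s * algebraMap R C t,
    q.primeCompl.mul_mem (q.primeCompl.mul_mem hw hs) (show algebraMap R C t ∈ q.primeCompl from ht), ?_⟩
  rw [mul_smul, algebraMap_smul, htc, TensorProduct.smul_tmul', smul_eq_mul]
  refine hz _ ?_
  rw [show w * s * c' = w * (c' * s) from by ring]
  exact (show w * (c' * s) = w * a from hwe) ▸ Ideal.mul_mem_left _ _ ha

end away

end Groth.Agent.Flat.FibreRegular
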