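import Groth.Agent.Flat.OpenLocus
import Mathlib.RingTheory.Spectrum.Prime.Topology

/-!
Descent of flatness to finitely generated subrings, pointwise and globally.
-/

set_option autoImplicit false

noncomputable section

namespace Groth.Agent.Flat.GlobalModel

universe u

open scoped TensorProduct
open Descent FlatAt OpenLocus

variable {σ : Type} {ι : Type}

theorem vmap_zero {A B : Type u} [CommRing A] [CommRing B] (φ : A →+* B) :
    vmap (σ := σ) (ι := ι) φ 0 = 0 := funext fun _ => map_zero _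

theorem vmap_mem_ideal_smul_span {A B : Type u} [CommRing A] [CommRing B] (φ : A →+* B) {k : ℕ}
    (g₀ : Fin k → ι → MvPolynomial σ A) (g : Fin k → ι → MvPolynomial σ B)
    (hg : ∀ l, vmap φ (g₀ l) = g l) (J : Ideal A) {x : ι → MvPolynomial σ A}
    (hx : x ∈ J • (Submodule.span (MvPolynomial σ A) (Set.range g₀)).restrictScalars A) :
    vmap φ x ∈ J.map φ • (Submodule.span (MvPolynomial σ B) (Set.range g)).restrictScalars B := by
  refine Submodule.smul_induction_on hx (fun r hr n hn => ?_) (fun a b ha hb => ?_)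
  · rw [← algebraMap_smul (MvPolynomial σ A) r n, MvPolynomial.algebraMap_eq, vmap_smul,
      MvPolynomial.map_C, ← MvPolynomial.algebraMap_eq, algebraMap_smul]
    exact Submodule.smul_mem_smul (Ideal.mem_map_of_mem φ hr)
      (show vmap φ n ∈ (Submodule.span (MvPolynomial σ B) (Set.range g)).restrictScalars B from
        vmap_mem_span φ g₀ g hg hn)
  · rw [vmap_add]; exact add_mem ha hb

theorem mem_map_C_smul_top [Finite ι] {A : Type u} [CommRing A] (p : Ideal A)
    {v : ι → MvPolynomial σ A} (h : ∀ i m, (v i).coeff m ∈ p) :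
    v ∈ p.map (MvPolynomial.C : A →+* MvPolynomial σ A) •
      (⊤ : Submodule (MvPolynomial σ A) (ι → MvPolynomial σ A)) := by
  classical
  haveI := Fintype.ofFinite ι
  rw [pi_eq_sum_univ v]
  exact Submodule.sum_mem _ fun i _ =>
    Submodule.smul_mem_smul (MvPolynomial.mem_map_C_iff.mpr (h i)) trivial

theorem coeff_mem_of_mem_map_C_smul_top {A : Type u} [CommRing A] (p : Ideal A)
    {v : ι → MvPolynomial σ A} (h : v ∈ p.map (MvPolynomial.C : A →+* MvPolynomial σ A) •
      (⊤ : Submodule (MvPolynomial σ A) (ι → MvPolynomial σ A))) (i : ι) (m : σ →₀ ℕ) :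
    (v i).coeff m ∈ p := by
  revert m
  rw [← MvPolynomial.mem_map_C_iff]
  refine Submodule.smul_induction_on h (fun c hc u _ => ?_) (fun a b ha hb => ?_)
  · exact Ideal.mul_mem_right _ _ hc
  · exact Ideal.add_mem _ ha hb

attribute [local instance] MvPolynomial.algebraMvPolynomial

theorem exists_clear_vec [Finite ι] {A : Type u} [CommRing A] (M : Submonoid A) (A' : Type u)
    [CommRing A'] [Algebra A A'] [IsLocalization M A'] (v : ι → MvPolynomial σ A') :
    ∃ c ∈ M, ∃ v₀ : ι → MvPolynomial σ A,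
      vmap (algebraMap A A') v₀ = (MvPolynomial.C (algebraMap A A' c) : MvPolynomial σ A') • v := by
  classical
  haveI := Fintype.ofFinite ι
  haveI := MvPolynomial.isLocalization (σ := σ) M A'
  obtain ⟨⟨_, c, hc, rfl⟩, hb⟩ := IsLocalization.exist_integer_multiples
    (M.map (MvPolynomial.C : A →+* MvPolynomial σ A)) Finset.univ v
  choose v₀ hv₀ using fun i => hb i (Finset.mem_univ i)
  refine ⟨c, hc, v₀, funext fun i => (hv₀ i).trans ?_⟩
  show (algebraMap (MvPolynomial σ A) (MvPolynomial σ A') (MvPolynomial.C c)) * v i = _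
  rw [MvPolynomial.algebraMap_def, MvPolynomial.map_C]
  rfl

theorem exists_clear_mem [Finite ι] {A : Type u} [CommRing A] (M : Submonoid A) (A' : Type u)
    [CommRing A'] [Algebra A A'] [IsLocalization M A'] {k : ℕ}
    (g₀ : Fin k → ι → MvPolynomial σ A) {v₀ : ι → MvPolynomial σ A}
    (hv : vmap (algebraMap A A') v₀ ∈ Submodule.span (MvPolynomial σ A')
      (Set.range fun l => vmap (algebraMap A A') (g₀ l))) :
    ∃ c ∈ M, (MvPolynomial.C c : MvPolynomial σ A) • v₀ ∈ Submodule.span (MvPolynomial σ A) (Set.range g₀) := by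
  classical
  haveI := Fintype.ofFinite ι
  haveI := MvPolynomial.isLocalization (σ := σ) M A'
  obtain ⟨a, ha⟩ := (Submodule.mem_span_range_iff_exists_fun _).mp hv
  obtain ⟨⟨_, c, hc, rfl⟩, hb⟩ := IsLocalization.exist_integer_multiples
    (M.map (MvPolynomial.C : A →+* MvPolynomial σ A)) Finset.univ a
  choose a₀ ha₀ using fun l => hb l (Finset.mem_univ l)
  have heq : ∀ i, algebraMap (MvPolynomial σ A) (MvPolynomial σ A') (MvPolynomial.C c * v₀ i) =
      algebraMap (MvPolynomial σ A) (MvPolynomial σ A') ((∑ l, a₀ l • g₀ l) i) := fun i => by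
    rw [map_mul, Finset.sum_apply, map_sum]
    show _ * (vmap (algebraMap A A') v₀ i) = _
    rw [← ha, Finset.sum_apply, Finset.mul_sum]
    refine Finset.sum_congr rfl fun l _ => ?_
    rw [Pi.smul_apply, Pi.smul_apply, smul_eq_mul, smul_eq_mul, map_mul, ha₀]
    show _ = (algebraMap (MvPolynomial σ A) (MvPolynomial σ A') (MvPolynomial.C c)) * a l * _
    rw [mul_assoc]
    rfl
  choose e he using fun i =>
    IsLocalization.exists_of_eq (M := M.map (MvPolynomial.C : A →+* MvPolynomial σ A)) (heq i)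
  choose d hd hde using fun i => (e i).2
  refine ⟨(∏ i, d i) * c, M.mul_mem (Submonoid.prod_mem _ fun i _ => hd i) hc, ?_⟩
  have key : (MvPolynomial.C ((∏ i, d i) * c) : MvPolynomial σ A) • v₀ =
      (MvPolynomial.C (∏ i, d i) : MvPolynomial σ A) • ∑ l, a₀ l • g₀ l := funext fun i => by
    obtain ⟨r, hr⟩ := Finset.dvd_prod_of_mem d (Finset.mem_univ i)
    rw [Pi.smul_apply, Pi.smul_apply, smul_eq_mul, smul_eq_mul]
    have h2 := he i
    rw [← hde i] at h2
    rw [map_mul, hr, mul_comm (d i), map_mul, mul_assoc, mul_assoc, mul_assoc,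
      show MvPolynomial.C (d i) * (MvPolynomial.C c * v₀ i) =
        MvPolynomial.C (d i) * ((∑ l, a₀ l • g₀ l) i) from h2]
  rw [key]
  exact Submodule.smul_mem _ _ (Submodule.sum_mem _ fun l _ =>
    Submodule.smul_mem _ _ (Submodule.subset_span (Set.mem_range_self l)))

/-- the step, at a prime which need not lie over a maximal ideal -/
theorem flatAt_of_relations {A B : Type u} [CommRing A] [CommRing B] [Algebra A B]
    [IsNoetherianRing B] [Finite σ] [Finite ι] {k m : ℕ} (p₀ : Ideal A) [p₀.IsPrime]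
    (q : Ideal (MvPolynomial σ B)) [q.IsPrime]
    (hq : ∀ a, a ∈ p₀ ↔ MvPolynomial.C (algebraMap A B a) ∈ q)
    (g₀ : Fin k → ι → MvPolynomial σ A) (g : Fin k → ι → MvPolynomial σ B)
    (hg : ∀ l, vmap (algebraMap A B) (g₀ l) = g l) (w : Fin m → ι → MvPolynomial σ A)
    (hw : Submodule.span (MvPolynomial σ A) (Set.range w) =
      Submodule.span (MvPolynomial σ A) (Set.range g₀) ⊓
        (p₀.map (MvPolynomial.C : A →+* MvPolynomial σ A) • ⊤))
    (s : Fin m → MvPolynomial σ B) (hs : ∀ l, s l ∉ q)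
    (hsw : ∀ l, s l • vmap (algebraMap A B) (w l) ∈ p₀.map (algebraMap A B) •
      (Submodule.span (MvPolynomial σ B) (Set.range g)).restrictScalars B) :
    FlatAt B (Coker g) q := by
  classical
  let A' := Localization.AtPrime p₀
  let M := Algebra.algebraMapSubmonoid B p₀.primeCompl
  let B' := Localization M
  have hle : p₀.primeCompl ≤ M.comap (algebraMap A B) := Submonoid.le_comap_map p₀.primeCompl
  letI : Algebra A' B' := (IsLocalization.map B' (algebraMap A B) hle : A' →+* B').toAlgebra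
  have hsq : (algebraMap A' B').comp (algebraMap A A') = (algebraMap B B').comp (algebraMap A B) :=
    IsLocalization.map_comp hle
  haveI : IsNoetherianRing B' := IsLocalization.isNoetherianRing M B' inferInstance
  haveI := MvPolynomial.isLocalization (σ := σ) M B'
  have hMq : ∀ b ∈ M, MvPolynomial.C b ∉ q := by
    rintro _ ⟨a, ha, rfl⟩ h
    exact ha ((hq a).mpr h)
  have hdisj : Disjoint ((M.map (MvPolynomial.C : B →+* MvPolynomial σ B) :
      Submonoid (MvPolynomial σ B)) : Set (MvPolynomial σ B)) (q : Set (MvPolynomial σ B)) :=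
    Set.disjoint_left.mpr fun x hx hxq => by
      obtain ⟨b, hb, rfl⟩ := hx
      exact hMq b hb hxq
  let φ := MvPolynomial.map (σ := σ) (algebraMap B B')
  haveI hq' : (q.map φ).IsPrime := IsLocalization.isPrime_of_isPrime_disjoint
    (M.map MvPolynomial.C) (MvPolynomial σ B') q inferInstance hdisj
  have hcomap : (q.map φ).comap φ = q := IsLocalization.under_map_of_isPrime_disjoint
    (M.map MvPolynomial.C) (MvPolynomial σ B') inferInstance hdisj
  let p' := IsLocalRing.maximalIdeal A'
  let g₀' := fun l => vmap (algebraMap A A') (g₀ l)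
  let g' := fun l => vmap (algebraMap B B') (g l)
  let w' := fun l => vmap (algebraMap A A') (w l)
  have hwW : ∀ l, w l ∈ Submodule.span (MvPolynomial σ A) (Set.range g₀) ⊓
      (p₀.map (MvPolynomial.C : A →+* MvPolynomial σ A) • ⊤) :=
    fun l => hw ▸ Submodule.subset_span (Set.mem_range_self l)
  have hflat : Module.Flat B' (LocalizedModule (q.map φ).primeCompl (Coker g')) := by
    refine Descent.flat_of_relations p' (q.map φ) ?_ g₀' g' (fun l => ?_) w' ?_
      (fun l => φ (s l)) (fun l h => ?_) (fun l => ?_)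
    · rw [show p' = p₀.map (algebraMap A A') from Localization.AtPrime.map_eq_maximalIdeal.symm,
        Ideal.map_map, Ideal.map_map, RingHom.comp_assoc, hsq]
      refine Ideal.map_le_iff_le_comap.mpr fun a ha => ?_
      show MvPolynomial.C (algebraMap B B' (algebraMap A B a)) ∈ q.map φ
      rw [← MvPolynomial.map_C]
      exact Ideal.mem_map_of_mem φ ((hq a).mp ha)
    · rw [vmap_vmap, hsq, ← vmap_vmap, hg]
    · refine le_antisymm (Submodule.span_le.mpr ?_) fun v hv => ?_
      · rintro _ ⟨l, rfl⟩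
        refine ⟨vmap_mem_span _ g₀ g₀' (fun _ => rfl) (hwW l).1,
          mem_map_C_smul_top p' fun i d => ?_⟩
        show ((MvPolynomial.map (algebraMap A A')) (w l i)).coeff d ∈ p'
        rw [MvPolynomial.coeff_map]
        exact (IsLocalization.AtPrime.to_map_mem_maximal_iff A' p₀ _).mpr
          (coeff_mem_of_mem_map_C_smul_top p₀ (hwW l).2 i d)
      · obtain ⟨c, hc, v₀, hv₀⟩ := exists_clear_vec p₀.primeCompl A' v
        have h1 : vmap (algebraMap A A') v₀ ∈ Submodule.span (MvPolynomial σ A') (Set.range g₀') := by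
          rw [hv₀]; exact Submodule.smul_mem _ _ hv.1
        obtain ⟨c', hc', h2⟩ := exists_clear_mem p₀.primeCompl A' g₀ h1
        have h3 : (MvPolynomial.C c' : MvPolynomial σ A) • v₀ ∈ Submodule.span (MvPolynomial σ A) (Set.range w) := by
          rw [hw]
          refine ⟨h2, Submodule.smul_mem _ _ (mem_map_C_smul_top p₀ fun i d => ?_)⟩
          refine (IsLocalization.AtPrime.to_map_mem_maximal_iff A' p₀ _).mp ?_
          rw [← MvPolynomial.coeff_map, show MvPolynomial.map (algebraMap A A') (v₀ i) = _ from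
            congrFun hv₀ i]
          exact coeff_mem_of_mem_map_C_smul_top p' (Submodule.smul_mem _ _ hv.2) i d
        have h4 := vmap_mem_span (algebraMap A A') w w' (fun _ => rfl) h3
        rw [vmap_smul, hv₀, MvPolynomial.map_C, smul_smul, ← map_mul, ← map_mul] at h4
        have hu : IsUnit (MvPolynomial.C (algebraMap A A' (c' * c)) : MvPolynomial σ A') :=
          (IsLocalization.map_units A'
            (⟨c' * c, p₀.primeCompl.mul_mem hc' hc⟩ : p₀.primeCompl)).map MvPolynomial.C
        exact (Submodule.smul_mem_iff_of_isUnit _ hu).mp h4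
    · exact hs l (hcomap ▸ h)
    · show φ (s l) • vmap (algebraMap A' B') (vmap (algebraMap A A') (w l)) ∈ _
      rw [vmap_vmap, hsq, ← vmap_vmap, ← vmap_smul]
      refine SetLike.le_def.mp ?_
        (vmap_mem_ideal_smul_span (algebraMap B B') g g' (fun _ => rfl) _ (hsw l))
      refine Submodule.smul_mono (le_of_eq ?_) le_rfl
      rw [show p' = p₀.map (algebraMap A A') from Localization.AtPrime.map_eq_maximalIdeal.symm,
        Ideal.map_map, Ideal.map_map, hsq]
  refine FlatAt.of_localization φ (cokerMap g g' fun _ => rfl)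
    (isBaseChange_cokerMap g g' fun _ => rfl) (cokerMap_smul g g' fun _ => rfl) M q hMq ?_
    ((flatAt_iff_localizedModule _).mpr hflat)
  intro s' hs'
  obtain ⟨⟨t, ⟨_, b, hb, rfl⟩⟩, ht⟩ := IsLocalization.surj
    (M.map (MvPolynomial.C : B →+* MvPolynomial σ B)) s'
  refine ⟨t, fun h => hs' ?_, φ (MvPolynomial.C b), by rw [mul_comm]; exact ht.symm⟩
  have h' : φ t ∈ q.map φ := Ideal.mem_map_of_mem φ h
  rw [show φ t = _ from ht.symm] at h'
  refine (hq'.mem_or_mem h').resolve_right fun h'' => hMq b hb ?_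
  rw [← hcomap]
  exact h''

variable {R : Type u} [CommRing R]

theorem adj_mono {T T' : Finset R} (h : T ⊆ T') : adj T ≤ adj T' :=
  Algebra.adjoin_mono (Finset.coe_subset.mpr h)

/-- the transition maps -/
def adjInc {T T' : Finset R} (h : T ⊆ T') : adj T →+* adj T' :=
  (Subalgebra.inclusion (adj_mono h)).toRingHom

theorem val_comp_inclusion {S S' : Subalgebra ℤ R} (h : S ≤ S') :
    S'.val.toRingHom.comp (Subalgebra.inclusion h).toRingHom = S.val.toRingHom := rfl

theorem adjHom_comp_adjInc {T T' : Finset R} (h : T ⊆ T') :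
    (adjHom T').comp (adjInc h) = adjHom T := val_comp_inclusion (adj_mono h)

theorem adjHom_injective (T : Finset R) : Function.Injective (adjHom T) :=
  Subtype.val_injective

theorem adjHom_adjInc {T T' : Finset R} (h : T ⊆ T') (a : adj T) :
    adjHom T' (adjInc h a) = adjHom T a :=
  RingHom.congr_fun (adjHom_comp_adjInc h) a

theorem exists_adjoin_poly (p : MvPolynomial σ R) :
    ∃ T : Finset R, ∀ T' : Finset R, T ⊆ T' →
      ∃ p' : MvPolynomial σ (adj T'), MvPolynomial.map (adjHom T') p' = p := by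
  obtain ⟨T, hT⟩ := exists_adjoin_vec (ι := Unit) (fun _ => p)
  exact ⟨T, fun T' h => (hT T' h).elim fun v hv => ⟨v (), congrFun hv ()⟩⟩

theorem exists_finset_mem_adj [Finite ι] {T₀ : Finset R} {k : ℕ}
    (g : Fin k → ι → MvPolynomial σ R) (p₀ : Ideal (adj T₀)) {x : ι → MvPolynomial σ R}
    (hx : x ∈ p₀.map (adjHom T₀) •
      (Submodule.span (MvPolynomial σ R) (Set.range g)).restrictScalars R) :
    ∃ T : Finset R, ∀ T' (hT : T₀ ⊆ T'),
      T ⊆ T' → ∀ g' : Fin k → ι → MvPolynomial σ (adj T'),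
        (∀ l, vmap (adjHom T') (g' l) = g l) →
        ∃ x', vmap (adjHom T') x' = x ∧
          x' ∈ p₀.map (adjInc hT) •
            (Submodule.span (MvPolynomial σ (adj T')) (Set.range g')).restrictScalars (adj T') := by
  classical
  let Good : (ι → MvPolynomial σ R) → Prop := fun x => ∃ T : Finset R, ∀ T' (hT : T₀ ⊆ T'),
    T ⊆ T' → ∀ g' : Fin k → ι → MvPolynomial σ (adj T'),
      (∀ l, vmap (adjHom T') (g' l) = g l) →
      ∃ x', vmap (adjHom T') x' = x ∧
        x' ∈ p₀.map (adjInc hT) •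
          (Submodule.span (MvPolynomial σ (adj T')) (Set.range g')).restrictScalars (adj T')
  show Good x
  have hadd : ∀ a b, Good a → Good b → Good (a + b) := by
    rintro a b ⟨T, hT⟩ ⟨S, hS⟩
    refine ⟨T ∪ S, fun T' h0 h g' hg' => ?_⟩
    obtain ⟨a', rfl, ha⟩ := hT T' h0 (Finset.subset_union_left.trans h) g' hg'
    obtain ⟨b', rfl, hb⟩ := hS T' h0 (Finset.subset_union_right.trans h) g' hg'
    exact ⟨a' + b', vmap_add _ _ _, add_mem ha hb⟩
  have h0 : Good 0 := ⟨∅, fun T' _ _ g' _ => ⟨0, vmap_zero _, zero_mem _⟩⟩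
  refine Submodule.smul_induction_on hx (fun r hr n hn => ?_) hadd
  change n ∈ Submodule.span (MvPolynomial σ R) (Set.range g) at hn
  clear hx
  induction hr using Submodule.span_induction generalizing n with
  | mem r hr =>
    obtain ⟨a, ha, rfl⟩ := hr
    obtain ⟨c, hc⟩ := (Submodule.mem_span_range_iff_exists_fun _).mp hn
    choose Tc hTc using fun l => exists_adjoin_poly (c l)
    refine ⟨Finset.univ.biUnion Tc, fun T' h0' h g' hg' => ?_⟩
    choose c' hc' using fun l => hTc l T'
      ((Finset.subset_biUnion_of_mem Tc (Finset.mem_univ l)).trans h)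
    refine ⟨adjInc h0' a • ∑ l, c' l • g' l, ?_,
      Submodule.smul_mem_smul (Ideal.mem_map_of_mem _ ha)
        (show ∑ l, c' l • g' l ∈ (Submodule.span (MvPolynomial σ (adj T')) (Set.range g')).restrictScalars
          (adj T') from Submodule.sum_mem (Submodule.span _ (Set.range g')) fun l _ =>
            Submodule.smul_mem _ _ (Submodule.subset_span (Set.mem_range_self l)))⟩
    rw [vmap_smul_sum, adjHom_adjInc, ← hc]
    simp only [hc', hg']
  | zero => rw [zero_smul]; exact h0
  | add a b _ _ ha hb => rw [add_smul]; exact hadd _ _ (ha n hn) (hb n hn)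
  | smul d a _ ha =>
    rw [smul_eq_mul, mul_comm, mul_smul]
    exact ha (d • n) (Submodule.smul_mem
      ((Submodule.span (MvPolynomial σ R) (Set.range g)).restrictScalars R) d hn)

/-- pointwise descent of flatness to finitely generated subrings -/
theorem exists_flatAt_descent [Finite σ] [Finite ι] {k : ℕ}
    (g : Fin k → ι → MvPolynomial σ R) (q : Ideal (MvPolynomial σ R)) [q.IsPrime]
    (h : FlatAt R (Coker g) q) :
    ∃ T : Finset R, ∀ T', T ⊆ T' → ∀ g' : Fin k → ι → MvPolynomial σ (adj T'),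
      (∀ l, vmap (adjHom T') (g' l) = g l) →
      FlatAt (adj T') (Coker g') (q.comap (MvPolynomial.map (adjHom T'))) := by
  classical
  choose Tg hTg using fun l => exists_adjoin_vec (g l)
  obtain ⟨T₀, hT₀⟩ : ∃ T₀ : Finset R, ∀ l, Tg l ⊆ T₀ :=
    ⟨Finset.univ.biUnion Tg, fun l => Finset.subset_biUnion_of_mem Tg (Finset.mem_univ l)⟩
  choose g₀ hg₀ using fun l => hTg l T₀ (hT₀ l)
  let p₀ := (q.comap (MvPolynomial.C : R →+* MvPolynomial σ R)).comap (adjHom T₀)
  haveI : IsNoetherianRing (adj T₀) := adj_isNoetherianRing T₀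
  obtain ⟨m, w, hw⟩ := Submodule.fg_iff_exists_fin_generating_family.mp
    (IsNoetherian.noetherian (Submodule.span (MvPolynomial σ (adj T₀)) (Set.range g₀) ⊓
      (p₀.map (MvPolynomial.C : _ →+* MvPolynomial σ (adj T₀)) • ⊤)))
  have hwW : ∀ l, w l ∈ Submodule.span (MvPolynomial σ (adj T₀)) (Set.range g₀) ⊓
      (p₀.map (MvPolynomial.C : _ →+* MvPolynomial σ (adj T₀)) • ⊤) :=
    fun l => hw ▸ Submodule.subset_span (Set.mem_range_self l)
  haveI := (flatAt_iff_localizedModule q).mp h
  choose s hs hsmem using fun l => exists_smul_mem_of_flat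
    (Submodule.span (MvPolynomial σ R) (Set.range g)) q (p₀.map (adjHom T₀))
    (vmap_mem_span _ g₀ g hg₀ (hwW l).1) (vmap_mem_smul_top _ p₀ (hwW l).2)
  choose Ts hTs using fun l => exists_adjoin_poly (s l)
  choose Tl hTl using fun l => exists_finset_mem_adj g p₀ (hsmem l)
  refine ⟨T₀ ∪ (Finset.univ.biUnion Ts ∪ Finset.univ.biUnion Tl), fun T' hT g' hg' => ?_⟩
  rw [Finset.union_subset_iff, Finset.union_subset_iff, Finset.biUnion_subset,
    Finset.biUnion_subset] at hT
  obtain ⟨hT0, hTs', hTl'⟩ := hT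
  choose s' hs' using fun l => hTs l T' (hTs' l (Finset.mem_univ l))
  letI : Algebra (adj T₀) (adj T') := (adjInc hT0).toAlgebra
  haveI : IsNoetherianRing (adj T') := adj_isNoetherianRing T'
  haveI : p₀.IsPrime := Ideal.IsPrime.comap _
  haveI : (q.comap (MvPolynomial.map (adjHom T'))).IsPrime := Ideal.IsPrime.comap _
  have hcomp : (adjHom T').comp (algebraMap (adj T₀) (adj T')) = adjHom T₀ :=
    adjHom_comp_adjInc hT0
  refine flatAt_of_relations p₀ _ (fun a => ?_) g₀ g'
    (fun l => vmap_injective (adjHom_injective T') (by rw [vmap_vmap, hcomp, hg₀, hg']))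
    w hw s' (fun l => ?_) (fun l => ?_)
  · show _ ↔ MvPolynomial.map (adjHom T') (MvPolynomial.C (algebraMap (adj T₀) (adj T') a)) ∈ q
    rw [MvPolynomial.map_C, show adjHom T' (algebraMap (adj T₀) (adj T') a) = adjHom T₀ a from
      adjHom_adjInc hT0 a]
    exact Iff.rfl
  · show MvPolynomial.map (adjHom T') (s' l) ∉ q
    rw [hs']; exact hs l
  · obtain ⟨x', hx', hxmem⟩ := hTl l T' hT0 (hTl' l (Finset.mem_univ l)) g' hg'
    have he : s' l • vmap (algebraMap (adj T₀) (adj T')) (w l) = x' :=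
      vmap_injective (adjHom_injective T') (by
        rw [vmap_smul, vmap_vmap, hcomp, hs', hx'])
    rw [he]
    exact hxmem

theorem flatAt_mono {k : ℕ} [Finite ι] (g : Fin k → ι → MvPolynomial σ R) {T T' : Finset R}
    (hTT : T ⊆ T') (g₁ : Fin k → ι → MvPolynomial σ (adj T))
    (g₂ : Fin k → ι → MvPolynomial σ (adj T')) (hg₁ : ∀ l, vmap (adjHom T) (g₁ l) = g l)
    (hg₂ : ∀ l, vmap (adjHom T') (g₂ l) = g l) (Q : Ideal (MvPolynomial σ (adj T'))) [Q.IsPrime]
    (h : FlatAt (adj T) (Coker g₁) (Q.comap (MvPolynomial.map (adjInc hTT)))) :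
    FlatAt (adj T') (Coker g₂) Q := by
  letI : Algebra (adj T) (adj T') := (adjInc hTT).toAlgebra
  have hcomp : (adjHom T').comp (algebraMap (adj T) (adj T')) = adjHom T :=
    adjHom_comp_adjInc hTT
  have hg : ∀ l, vmap (algebraMap (adj T) (adj T')) (g₁ l) = g₂ l := fun l =>
    vmap_injective (adjHom_injective T') (by rw [vmap_vmap, hcomp, hg₁, hg₂])
  exact FlatAt.baseChange (MvPolynomial.map (algebraMap (adj T) (adj T')))
    (cokerMap g₁ g₂ hg) (isBaseChange_cokerMap g₁ g₂ hg) (cokerMap_smul g₁ g₂ hg) Q le_rfl h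

/-- flat locus containing the image of `Spec R[x]` becomes everything at a bigger stage -/
theorem exists_flat_of_image {k : ℕ} [Finite σ] [Finite ι] (g : Fin k → ι → MvPolynomial σ R)
    (T₁ : Finset R) (g₂ : Fin k → ι → MvPolynomial σ (adj T₁))
    (hg₂ : ∀ l, vmap (adjHom T₁) (g₂ l) = g l)
    (him : ∀ q : PrimeSpectrum (MvPolynomial σ R),
      FlatAt (adj T₁) (Coker g₂) (q.asIdeal.comap (MvPolynomial.map (adjHom T₁)))) :
    ∃ T : Finset R, T₁ ⊆ T ∧ ∀ T', T ⊆ T' → ∀ g' : Fin k → ι → MvPolynomial σ (adj T'),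
      (∀ l, vmap (adjHom T') (g' l) = g l) → Module.Flat (adj T') (Coker g') := by
  classical
  haveI := adj_isNoetherianRing T₁
  obtain ⟨I, hI⟩ := (PrimeSpectrum.isClosed_iff_zeroLocus_ideal _).mp
    (isOpen_flatLocus_noetherian (R := adj T₁) (S := MvPolynomial σ (adj T₁))
      (M := Coker g₂)).isClosed_compl
  have htop : I.map (MvPolynomial.map (adjHom T₁)) = ⊤ := by
    by_contra hne
    obtain ⟨m, hm, hle⟩ := Ideal.exists_le_maximal _ hne
    have : (PrimeSpectrum.comap (MvPolynomial.map (adjHom T₁)) ⟨m, hm.isPrime⟩) ∈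
        PrimeSpectrum.zeroLocus (I : Set (MvPolynomial σ (adj T₁))) :=
      Ideal.map_le_iff_le_comap.mp hle
    rw [← hI] at this
    exact this (him ⟨m, hm.isPrime⟩)
  obtain ⟨l, hl⟩ := (Finsupp.mem_span_image_iff_linearCombination (R := MvPolynomial σ R)
      (s := (I : Set (MvPolynomial σ (adj T₁)))) (v := MvPolynomial.map (adjHom T₁))).mp
    (show (1 : MvPolynomial σ R) ∈ _ from (Ideal.eq_top_iff_one _).mp htop)
  choose Tc hTc using fun e => exists_adjoin_poly (l e)
  refine ⟨T₁ ∪ l.support.biUnion Tc, Finset.subset_union_left, fun T' hT' g' hg' => ?_⟩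
  have hT₁' : T₁ ⊆ T' := Finset.subset_union_left.trans hT'
  choose c' hc' using fun (e : {e // e ∈ l.support}) =>
    hTc e T' ((Finset.subset_biUnion_of_mem Tc e.2).trans (Finset.subset_union_right.trans hT'))
  have hone : ∑ e : {e // e ∈ l.support}, c' e * MvPolynomial.map (adjInc hT₁') e = 1 := by
    refine MvPolynomial.map_injective _ (adjHom_injective T') ?_
    rw [map_sum, map_one, ← hl.2, Finsupp.linearCombination_apply, Finsupp.sum,
      ← Finset.sum_coe_sort l.support]
    refine Finset.sum_congr rfl fun e _ => ?_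
    rw [map_mul, hc', MvPolynomial.map_map, adjHom_comp_adjInc, smul_eq_mul]
  refine Module.flat_of_isLocalized_maximal (MvPolynomial σ (adj T')) _
    (fun P _ => LocalizedModule P.primeCompl (Coker g'))
    (fun P _ => LocalizedModule.mkLinearMap P.primeCompl (Coker g')) fun P hP => ?_
  rw [← flatAt_iff_localizedModule]
  refine flatAt_mono g hT₁' g₂ g' hg₂ hg' P ?_
  by_contra hn
  have hP' : (⟨P.comap (MvPolynomial.map (adjInc hT₁')), Ideal.IsPrime.comap _⟩ :
      PrimeSpectrum (MvPolynomial σ (adj T₁))) ∈ PrimeSpectrum.zeroLocus (I : Set _) := hI ▸ hn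
  refine hP.ne_top ((Ideal.eq_top_iff_one _).mpr (hone ▸ Ideal.sum_mem _ fun e _ => ?_))
  exact Ideal.mul_mem_left _ _ (hP' (hl.1 e.2))

theorem comap_adjHom {T T' : Finset R} (hTT : T ⊆ T') (q : Ideal (MvPolynomial σ R)) :
    (q.comap (MvPolynomial.map (adjHom T'))).comap (MvPolynomial.map (adjInc hTT)) =
      q.comap (MvPolynomial.map (adjHom T)) := by
  rw [Ideal.comap_comap, show (MvPolynomial.map (σ := σ) (adjHom T')).comp
    (MvPolynomial.map (adjInc hTT)) = MvPolynomial.map (adjHom T) from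
      RingHom.ext fun x => by rw [RingHom.comp_apply, MvPolynomial.map_map, adjHom_comp_adjInc]]

/-- A flat finitely presented module has a flat model over a finitely generated subring. -/
theorem exists_flat_model [Finite σ] [Finite ι] {k : ℕ}
    (g : Fin k → ι → MvPolynomial σ R) (h : Module.Flat R (Coker g)) :
    ∃ T : Finset R, ∀ T', T ⊆ T' → ∃ g' : Fin k → ι → MvPolynomial σ (adj T'),
      (∀ l, vmap (adjHom T') (g' l) = g l) ∧ Module.Flat (adj T') (Coker g') := by
  classical
  choose Tg hTg using fun l => exists_adjoin_vec (g l)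
  obtain ⟨Tb, hTb⟩ : ∃ Tb : Finset R, ∀ l, Tg l ⊆ Tb :=
    ⟨Finset.univ.biUnion Tg, fun l => Finset.subset_biUnion_of_mem Tg (Finset.mem_univ l)⟩
  haveI := h
  choose T hT using fun q : PrimeSpectrum (MvPolynomial σ R) => exists_flatAt_descent g q.asIdeal
    (FlatAt.of_flat q.asIdeal q.isPrime.ne_top)
  choose g₁ hg₁ using fun q l => hTg l (Tb ∪ T q) ((hTb l).trans Finset.subset_union_left)
  let U : PrimeSpectrum (MvPolynomial σ R) → Set (PrimeSpectrum (MvPolynomial σ R)) := fun q =>
    PrimeSpectrum.comap (MvPolynomial.map (adjHom (Tb ∪ T q))) ⁻¹'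
      {Q | FlatAt (adj (Tb ∪ T q)) (Coker (g₁ q)) Q.asIdeal}
  have hU : ∀ q, IsOpen (U q) := fun q => by
    haveI := adj_isNoetherianRing (Tb ∪ T q)
    exact isOpen_flatLocus_noetherian.preimage (PrimeSpectrum.continuous_comap _)
  obtain ⟨F, hF⟩ := isCompact_univ.elim_finite_subcover U hU fun q _ =>
    Set.mem_iUnion.mpr ⟨q, hT q (Tb ∪ T q) Finset.subset_union_right (g₁ q) (hg₁ q)⟩
  obtain ⟨T₁, hT₁b, hT₁⟩ : ∃ T₁ : Finset R, Tb ⊆ T₁ ∧ ∀ q ∈ F, Tb ∪ T q ⊆ T₁ :=
    ⟨Tb ∪ F.biUnion T, Finset.subset_union_left, fun q hq =>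
      Finset.union_subset_union_right (Finset.subset_biUnion_of_mem T hq)⟩
  choose g₂ hg₂ using fun l => hTg l T₁ ((hTb l).trans hT₁b)
  obtain ⟨T₂, hT₂₁, hT₂⟩ := exists_flat_of_image g T₁ g₂ hg₂ fun q => by
    obtain ⟨q₀, hq₀, hqU⟩ := Set.mem_iUnion₂.mp (hF (Set.mem_univ q))
    haveI : (q.asIdeal.comap (MvPolynomial.map (adjHom T₁))).IsPrime := Ideal.IsPrime.comap _
    refine flatAt_mono g (hT₁ q₀ hq₀) (g₁ q₀) g₂ (hg₁ q₀) hg₂ _ ?_
    rw [comap_adjHom]
    exact hqU
  refine ⟨T₂, fun T' hT' => ?_⟩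
  choose g' hg' using fun l => hTg l T' (((hTb l).trans hT₁b).trans (hT₂₁.trans hT'))
  exact ⟨g', hg', hT₂ T' hT' g' hg'⟩

end Groth.Agent.Flat.GlobalModel
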