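import Groth.Agent.Flat.GlobalModel
import Mathlib.RingTheory.LocalRing.ResidueField.Ideal
import Mathlib.RingTheory.TensorProduct.IsBaseChangeRightExact
import Mathlib.RingTheory.Localization.FractionRing

/-!
The fibrewise criterion of flatness, without Noetherian hypotheses.
-/

set_option autoImplicit false

noncomputable section

namespace Groth.Agent.Flat.FibreCriterion

universe u

open scoped TensorProduct
open Descent FlatAt OpenLocus GlobalModel

/-- `M_q` has no `Tor₁` against injections of modules killed by `I` -/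
def FlatAtKilled (B : Type u) {C : Type u} (M : Type u) [CommRing B] [CommRing C] [Algebra B C]
    [AddCommGroup M] [Module B M] [Module C M] [IsScalarTower B C M] (I : Ideal B) (q : Ideal C) :
    Prop :=
  ∀ ⦃P Q : Type u⦄ [AddCommGroup P] [Module B P] [AddCommGroup Q] [Module B Q] (f : P →ₗ[B] Q),
    Function.Injective f → (∀ i ∈ I, ∀ x : P, i • x = 0) → (∀ i ∈ I, ∀ x : Q, i • x = 0) →
      ∀ x : M ⊗[B] P, f.lTensor M x = 0 → ∃ s, s ∉ q ∧ s • x = 0

section basic

variable {B C M : Type u} [CommRing B] [CommRing C] [Algebra B C] [AddCommGroup M] [Module B M]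
  [Module C M] [IsScalarTower B C M] {I : Ideal B} {q : Ideal C}

theorem FlatAtKilled.of_flatAt (h : FlatAt B M q) : FlatAtKilled B M I q :=
  fun _ _ _ _ _ _ f hf _ _ x hx => h f hf x hx

theorem FlatAtKilled.mono_ideal (h : FlatAtKilled B M I q) {I' : Ideal B} (hI : I ≤ I') :
    FlatAtKilled B M I' q :=
  fun _ _ _ _ _ _ f hf hP hQ x hx =>
    h f hf (fun i hi => hP i (hI hi)) (fun i hi => hQ i (hI hi)) x hx

theorem FlatAtKilled.of_flat_quotient (hq : q ≠ ⊤) (h : Module.Flat (B ⧸ I) ((B ⧸ I) ⊗[B] M)) :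
    FlatAtKilled B M I q := by
  intro P Q _ _ _ _ f hf hP hQ x hx
  have hP' : Module.IsTorsionBySet B P I := fun y a => hP a a.2 y
  have hQ' : Module.IsTorsionBySet B Q I := fun y a => hQ a a.2 y
  letI := hP'.module
  letI := hQ'.module
  haveI : IsScalarTower B (B ⧸ I) P := hP'.isScalarTower
  haveI : IsScalarTower B (B ⧸ I) Q := hQ'.isScalarTower
  let f' : P →ₗ[B ⧸ I] Q := LinearMap.extendScalarsOfSurjective Ideal.Quotient.mk_surjective f
  have := LocalCriterion.lTensor_restrictScalars_injective h f' hf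
  refine ⟨1, fun h1 => hq ((Ideal.eq_top_iff_one q).mpr h1), ?_⟩
  rw [one_smul]
  exact this (hx.trans (map_zero _).symm)

theorem FlatAtKilled.comap {C' : Type u} [CommRing C'] [Algebra B C'] [Module C' M]
    [IsScalarTower B C' M] (π : C' →+* C) (hπ : Function.Surjective π)
    (hsmul : ∀ (s : C') (m : M), π s • m = s • m) (h : FlatAtKilled B M I q) :
    FlatAtKilled B M I (q.comap π) := by
  intro P Q _ _ _ _ f hf hP hQ x hx
  obtain ⟨s, hs, hs0⟩ := h f hf hP hQ x hx
  obtain ⟨s, rfl⟩ := hπ s
  refine ⟨s, hs, Eq.trans ?_ hs0⟩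
  clear hx hs0
  induction x using TensorProduct.induction_on with
  | zero => simp
  | add a b ha hb => simp only [smul_add, ha, hb]
  | tmul m p => simp [TensorProduct.smul_tmul', hsmul]

end basic

section core

variable {A B C M : Type u} [CommRing A] [CommRing B] [CommRing C] [Algebra A B] [Algebra A C]
  [Algebra B C] [IsScalarTower A B C] [AddCommGroup M] [Module A M] [Module B M] [Module C M]
  [IsScalarTower A C M] [IsScalarTower B C M] [IsScalarTower A B M]

/-- Noetherian fibre criterion -/
theorem flatAt_of_killed [IsNoetherianRing B] [IsNoetherianRing C] [Module.Finite C M]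
    (p : Ideal A) (q : Ideal C) [q.IsPrime] (hpq : p.map (algebraMap A C) ≤ q)
    (hA : FlatAt A M q) (hfib : FlatAtKilled B M (p.map (algebraMap A B)) q) :
    FlatAt B M q := by
  rw [flatAt_iff_localizedModule]
  let I := p.map (algebraMap A B)
  let Cq := Localization q.primeCompl
  let L := LocalizedModule q.primeCompl M
  let ℓ : M →ₗ[C] L := LocalizedModule.mkLinearMap q.primeCompl M
  haveI : Module.Finite Cq L := Module.Finite.of_isLocalizedModule q.primeCompl ℓ
  haveI : IsNoetherianRing Cq := IsLocalization.isNoetherianRing q.primeCompl Cq inferInstance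
  refine Criteria.local_criterion (S := Cq) I ?_ ?_ ?_
  · refine le_trans ?_ (IsLocalRing.maximalIdeal_le_jacobson _)
    rw [IsScalarTower.algebraMap_eq B C Cq, ← Ideal.map_map, Ideal.map_map (f := algebraMap A B),
      ← IsScalarTower.algebraMap_eq A B C]
    refine (Ideal.map_mono hpq).trans ?_
    rw [Localization.AtPrime.map_eq_maximalIdeal]
  · rw [← LinearMap.lTensor_inj_iff_rTensor_inj]
    refine Descent.lTensor_localized_injective q.primeCompl ℓ I.subtype fun z hz => ?_
    let ι : p →ₗ[A] I := LinearMap.codRestrict (I.restrictScalars A)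
      (Algebra.linearMap A B ∘ₗ p.subtype) fun x => Ideal.mem_map_of_mem _ x.2
    let φ : M ⊗[A] p →ₗ[A] M ⊗[B] I := TensorProduct.lift (LinearMap.mk₂ A
      (fun m x => m ⊗ₜ[B] ι x)
      (fun m n x => TensorProduct.add_tmul m n _)
      (fun r m x => by rw [TensorProduct.smul_tmul'])
      (fun m x y => by rw [map_add, TensorProduct.tmul_add])
      (fun r m x => by rw [map_smul, TensorProduct.tmul_smul]))
    have hφ : Function.Surjective φ := by
      intro w
      induction w using TensorProduct.induction_on with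
      | zero => exact ⟨0, map_zero _⟩
      | add a b ha hb =>
        obtain ⟨a, rfl⟩ := ha
        obtain ⟨b, rfl⟩ := hb
        exact ⟨a + b, map_add _ _ _⟩
      | tmul m i =>
        obtain ⟨i, hi⟩ := i
        induction hi using Submodule.span_induction generalizing m with
        | mem x hx =>
          obtain ⟨r, hr, rfl⟩ := hx
          exact ⟨m ⊗ₜ ⟨r, hr⟩, rfl⟩
        | zero => exact ⟨0, by rw [map_zero]; exact (TensorProduct.tmul_zero _ m).symm⟩
        | add x y hx hy ihx ihy =>
          obtain ⟨a, ha⟩ := ihx m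
          obtain ⟨b, hb⟩ := ihy m
          refine ⟨a + b, ?_⟩
          rw [map_add, ha, hb, ← TensorProduct.tmul_add]
          rfl
        | smul s x hx ih =>
          obtain ⟨a, ha⟩ := ih (s • m)
          refine ⟨a, ha.trans ?_⟩
          rw [TensorProduct.smul_tmul]
          rfl
    obtain ⟨w, rfl⟩ := hφ z
    have hcomm : ∀ w, TensorProduct.rid B M (I.subtype.lTensor M (φ w)) =
        TensorProduct.rid A M (p.subtype.lTensor M w) := fun w => by
      induction w using TensorProduct.induction_on with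
      | zero => simp
      | add a b ha hb => simp only [map_add, ha, hb]
      | tmul m x =>
        show algebraMap A B (x : A) • m = (x : A) • m
        exact algebraMap_smul B (x : A) m
    obtain ⟨s, hs, hs0⟩ := hA p.subtype (Submodule.injective_subtype p) w
      ((TensorProduct.rid A M).injective (by rw [← hcomm, hz, map_zero, map_zero]))
    refine ⟨s, hs, ?_⟩
    have hsm : ∀ w, φ (s • w) = s • φ w := fun w => by
      induction w using TensorProduct.induction_on with
      | zero => simp
      | add a b ha hb => simp only [smul_add, map_add, ha, hb]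
      | tmul m x => simp [φ, TensorProduct.smul_tmul']
    rw [← hsm, hs0, map_zero]
  · refine Descent.flat_baseChange_of_injective fun a => ?_
    refine Descent.lTensor_localized_injective q.primeCompl ℓ _ fun z hz => ?_
    exact hfib (a.subtype.restrictScalars B) (Submodule.injective_subtype a)
      (fun i hi x => Subtype.ext (by
        show i • (x : B ⧸ I) = 0
        rw [← algebraMap_smul (B ⧸ I) i (x : B ⧸ I), Ideal.Quotient.algebraMap_eq,
          Ideal.Quotient.eq_zero_iff_mem.mpr hi, zero_smul]))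
      (fun i hi x => by
        rw [← algebraMap_smul (B ⧸ I) i x, Ideal.Quotient.algebraMap_eq,
          Ideal.Quotient.eq_zero_iff_mem.mpr hi, zero_smul]) z hz

end core

section fieldDescent

/-- injections of modules killed by `p ∩ A` stay injective after tensoring with `κ(p)` -/
theorem flat_residueField_lTensor_injective {A R : Type u} [CommRing A] [CommRing R] [Algebra A R]
    (p : Ideal R) [p.IsPrime] {N N' : Type u} [AddCommGroup N] [Module A N] [AddCommGroup N']
    [Module A N'] (ι : N →ₗ[A] N') (hι : Function.Injective ι)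
    (hN : ∀ a ∈ p.comap (algebraMap A R), ∀ x : N, a • x = 0)
    (hN' : ∀ a ∈ p.comap (algebraMap A R), ∀ x : N', a • x = 0) :
    Function.Injective (ι.lTensor p.ResidueField) := by
  let pA := p.comap (algebraMap A R)
  let κ := p.ResidueField
  have hPt : Module.IsTorsionBySet A N pA := fun x a => hN a a.2 x
  have hQt : Module.IsTorsionBySet A N' pA := fun x a => hN' a a.2 x
  letI := hPt.module
  letI := hQt.module
  haveI : IsScalarTower A (A ⧸ pA) N := hPt.isScalarTower
  haveI : IsScalarTower A (A ⧸ pA) N' := hQt.isScalarTower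
  haveI : pA.IsPrime := Ideal.IsPrime.comap _
  letI : Algebra (A ⧸ pA) κ := (Ideal.Quotient.lift pA (algebraMap A κ) fun a ha => by
    rw [IsScalarTower.algebraMap_apply A R κ]
    exact Ideal.algebraMap_residueField_eq_zero.mpr ha).toAlgebra
  haveI : IsScalarTower A (A ⧸ pA) κ := IsScalarTower.of_algebraMap_eq fun _ => rfl
  haveI : FaithfulSMul (A ⧸ pA) κ := by
    rw [faithfulSMul_iff_algebraMap_injective, injective_iff_map_eq_zero]
    intro a
    obtain ⟨a, rfl⟩ := Ideal.Quotient.mk_surjective a
    intro ha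
    refine Ideal.Quotient.eq_zero_iff_mem.mpr ?_
    show algebraMap A R a ∈ p
    rw [← Ideal.algebraMap_residueField_eq_zero, ← IsScalarTower.algebraMap_apply]
    exact ha
  letI : Algebra (FractionRing (A ⧸ pA)) κ := FractionRing.liftAlgebra _ _
  haveI : Module.Flat (A ⧸ pA) (FractionRing (A ⧸ pA)) :=
    IsLocalization.flat _ (nonZeroDivisors (A ⧸ pA))
  haveI : Module.Flat (A ⧸ pA) κ := Module.Flat.trans (A ⧸ pA) (FractionRing (A ⧸ pA)) κ
  have hbot : pA • (⊤ : Submodule A κ) = ⊥ :=
    eq_bot_iff.mpr (Submodule.smul_le.mpr fun a ha z _ => by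
      rw [Submodule.mem_bot, ← algebraMap_smul κ a z, IsScalarTower.algebraMap_apply A R κ,
        Ideal.algebraMap_residueField_eq_zero.mpr (show algebraMap A R a ∈ p from ha), zero_smul])
  let e : ((A ⧸ pA) ⊗[A] κ) ≃ₗ[A ⧸ pA] κ :=
    LinearEquiv.extendScalarsOfSurjective Ideal.Quotient.mk_surjective
      ((TensorProduct.quotTensorEquivQuotSMul κ pA).trans
        ((pA • (⊤ : Submodule A κ)).quotEquivOfEqBot hbot))
  exact LocalCriterion.lTensor_restrictScalars_injective (Module.Flat.of_linearEquiv e)
    (LinearMap.extendScalarsOfSurjective Ideal.Quotient.mk_surjective ι) hι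

/-- the field-extension part of the descent -/
theorem exists_smul_eq_zero_descend {A R CT C N Z : Type u} [CommRing A] [CommRing R] [CommRing CT]
    [CommRing C] [Algebra A R] [Algebra A CT] [Algebra R C] [Algebra A C] [IsScalarTower A R C]
    [AddCommGroup N] [Module A N] [Module CT N] [IsScalarTower A CT N]
    [AddCommGroup Z] [Module C Z]
    (φC : CT →ₐ[A] C) (hC : IsBaseChange R φC.toLinearMap) (q : Ideal C) [q.IsPrime]
    (p : Ideal R) [p.IsPrime] (hpq : q.comap (algebraMap R C) = p)
    (hN : ∀ a ∈ p.comap (algebraMap A R), ∀ x : N, a • x = 0)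
    (Ψ : p.ResidueField ⊗[A] N →+ Z) (hΨ : Function.Injective Ψ)
    (hΨR : ∀ (r : R) z, Ψ (r • z) = algebraMap R C r • Ψ z)
    (hΨC : ∀ (c : CT) (x : N), Ψ (1 ⊗ₜ (c • x)) = φC c • Ψ (1 ⊗ₜ x))
    (ξ : N) {s : C} (hs : s ∉ q) (hs0 : s • Ψ (1 ⊗ₜ ξ) = 0) :
    ∃ c, c ∉ q.comap φC.toRingHom ∧ c • ξ = 0 := by
  let κ := p.ResidueField
  by_contra hne
  push Not at hne
  let ann : Ideal CT := LinearMap.ker (LinearMap.toSpanSingleton CT N ξ)
  have hann : ann ≤ q.comap φC.toRingHom := fun c hc => by
    by_contra hcq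
    exact hne c hcq hc
  let ι : (CT ⧸ ann) →ₗ[A] N :=
    (Submodule.liftQ ann (LinearMap.toSpanSingleton CT N ξ) le_rfl).restrictScalars A
  have hι : Function.Injective ι := by
    rw [injective_iff_map_eq_zero]
    intro z hz
    obtain ⟨c, rfl⟩ := Ideal.Quotient.mk_surjective z
    exact Ideal.Quotient.eq_zero_iff_mem.mpr (LinearMap.mem_ker.mpr hz)
  let Θ : C →ₗ[R] κ ⊗[A] (CT ⧸ ann) :=
    hC.lift (TensorProduct.mk A κ (CT ⧸ ann) 1 ∘ₗ (Ideal.Quotient.mkₐ A ann).toLinearMap)
  have key : ∀ c : C, c • Ψ (1 ⊗ₜ ξ) = Ψ (ι.lTensor κ (Θ c)) := by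
    intro c
    induction c using hC.inductionOn with
    | zero => simp
    | add a b ha hb => rw [add_smul, ha, hb, map_add, map_add, map_add]
    | tmul c =>
      show φC c • _ = Ψ (ι.lTensor κ (Θ (φC.toLinearMap c)))
      rw [← hΨC, hC.lift_eq]
      rfl
    | smul r c hc =>
      rw [Algebra.smul_def, mul_smul, hc, ← hΨR]
      congr 1
      rw [← Algebra.smul_def, map_smul]
      generalize Θ c = w
      induction w using TensorProduct.induction_on with
      | zero => simp
      | add a b ha hb => rw [map_add, smul_add, ha, hb, smul_add, map_add]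
      | tmul k n => rfl
  have hker : ∀ a ∈ p.comap (algebraMap A R), algebraMap A CT a ∈ ann := fun a ha => by
    show algebraMap A CT a • ξ = 0
    rw [algebraMap_smul, hN a ha]
  have hκι : Function.Injective (ι.lTensor κ) :=
    flat_residueField_lTensor_injective p ι hι
      (fun a ha z => by
        obtain ⟨z, rfl⟩ := Ideal.Quotient.mk_surjective z
        rw [← Ideal.Quotient.mkₐ_eq_mk A, ← map_smul]
        refine Ideal.Quotient.eq_zero_iff_mem.mpr ?_
        rw [Algebra.smul_def]
        exact Ideal.mul_mem_right _ _ (hker a ha))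
      hN
  have hΘ : Θ s = 0 := hκι (hΨ (by rw [← key, hs0, map_zero, map_zero]))
  -- evaluate at `q`
  let ρ : CT →+* q.ResidueField := (algebraMap C q.ResidueField).comp φC.toRingHom
  have hρ : ann ≤ RingHom.ker ρ := fun c hc =>
    Ideal.algebraMap_residueField_eq_zero.mpr (hann hc)
  letI : Algebra κ q.ResidueField :=
    (Ideal.ResidueField.map p q (algebraMap R C) hpq.symm).toAlgebra
  haveI : IsScalarTower R κ q.ResidueField := IsScalarTower.of_algebraMap_eq fun r =>
    ((Ideal.ResidueField.map_algebraMap _ _ _ _ _).trans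
      (IsScalarTower.algebraMap_apply R C q.ResidueField r).symm).symm
  haveI : IsScalarTower A κ q.ResidueField := IsScalarTower.of_algebraMap_eq fun a => by
    rw [IsScalarTower.algebraMap_apply A R κ, ← IsScalarTower.algebraMap_apply R κ,
      ← IsScalarTower.algebraMap_apply A R q.ResidueField]
  let ρ' : (CT ⧸ ann) →ₗ[A] q.ResidueField :=
    (AlgHom.mk (Ideal.Quotient.lift ann ρ hρ) fun a => by
      show algebraMap C q.ResidueField (φC (algebraMap A CT a)) = _
      rw [φC.commutes, ← IsScalarTower.algebraMap_apply A C q.ResidueField]).toLinearMap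
  have hρΘ : ∀ c : C, ρ'.liftBaseChange κ (Θ c) = algebraMap C q.ResidueField c := by
    intro c
    induction c using hC.inductionOn with
    | zero => simp
    | add a b ha hb => rw [map_add, map_add, map_add, ha, hb]
    | tmul c =>
      show ρ'.liftBaseChange κ (Θ (φC.toLinearMap c)) = _
      rw [hC.lift_eq]
      simp [ρ', ρ]
    | smul r c hc =>
      rw [map_smul, ← algebraMap_smul κ r (Θ c), map_smul, hc, algebraMap_smul,
        Algebra.smul_def, Algebra.smul_def, map_mul, ← IsScalarTower.algebraMap_apply]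
  refine hs (Ideal.algebraMap_residueField_eq_zero.mp ?_)
  rw [← hρΘ, hΘ, map_zero]

variable {A R BT CT B C MT M : Type u} [CommRing A] [CommRing R] [CommRing BT] [CommRing CT]
  [CommRing B] [CommRing C] [Algebra A R] [Algebra A BT] [Algebra A CT] [Algebra BT CT]
  [IsScalarTower A BT CT] [Algebra R B] [Algebra A B] [IsScalarTower A R B] [Algebra BT B]
  [IsScalarTower A BT B] [Algebra.IsPushout A R BT B]
  [Algebra R C] [Algebra B C] [IsScalarTower R B C] [Algebra A C] [IsScalarTower A R C]
  [AddCommGroup MT] [Module A MT] [Module BT MT] [Module CT MT] [IsScalarTower BT CT MT]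
  [IsScalarTower A CT MT] [IsScalarTower A BT MT]
  [AddCommGroup M] [Module B M] [Module C M] [IsScalarTower B C M]
  [Module BT M] [IsScalarTower BT B M]

/-- descending the fibre condition along a base change of the coefficient ring -/
theorem FlatAtKilled.descend (φC : CT →ₐ[A] C) (hC : IsBaseChange R φC.toLinearMap)
    (j : MT →ₗ[BT] M) (hj : IsBaseChange B j) (hjC : ∀ c m, j (c • m) = φC c • j m)
    (q : Ideal C) [q.IsPrime] (p : Ideal R) [p.IsPrime] (hpq : q.comap (algebraMap R C) = p)
    (h : FlatAtKilled B M (p.map (algebraMap R B)) q) :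
    FlatAtKilled BT MT ((p.comap (algebraMap A R)).map (algebraMap A BT))
      (q.comap φC.toRingHom) := by
  classical
  intro P Q _ _ _ _ f hf hP hQ ξ hξ
  letI : Module A P := Module.compHom P (algebraMap A BT)
  haveI : IsScalarTower A BT P := IsScalarTower.of_algebraMap_smul fun _ _ => rfl
  letI : Module A Q := Module.compHom Q (algebraMap A BT)
  haveI : IsScalarTower A BT Q := IsScalarTower.of_algebraMap_smul fun _ _ => rfl
  let pA := p.comap (algebraMap A R)
  let κ := p.ResidueField
  letI : Algebra κ (B ⊗[R] κ) := Algebra.TensorProduct.rightAlgebra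
  haveI : Algebra.IsPushout R κ B (B ⊗[R] κ) := Algebra.IsPushout.symm inferInstance
  haveI : IsScalarTower A κ (B ⊗[R] κ) := IsScalarTower.of_algebraMap_eq fun a => by
    rw [IsScalarTower.algebraMap_apply A R (B ⊗[R] κ), IsScalarTower.algebraMap_apply A R κ,
      ← IsScalarTower.algebraMap_apply R κ (B ⊗[R] κ)]
  haveI : IsScalarTower BT B (B ⊗[R] κ) := inferInstance
  haveI : Algebra.IsPushout A κ BT (B ⊗[R] κ) :=
    (Algebra.IsPushout.comp_iff (R := A) (S := R) (R' := BT) (S' := B) (T := κ)
      (T' := B ⊗[R] κ)).mpr inferInstance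
  have hkilled : ∀ {N : Type u} [AddCommGroup N] [Module BT N],
      ∀ i ∈ p.map (algebraMap R B), ∀ x : (B ⊗[R] κ) ⊗[BT] N, i • x = 0 := by
    intro N _ _ i hi
    have hi0 : algebraMap B (B ⊗[R] κ) i = 0 := by
      induction hi using Submodule.span_induction with
      | mem x hx =>
        obtain ⟨r, hr, rfl⟩ := hx
        rw [← IsScalarTower.algebraMap_apply R B (B ⊗[R] κ),
          IsScalarTower.algebraMap_apply R κ (B ⊗[R] κ),
          Ideal.algebraMap_residueField_eq_zero.mpr hr, map_zero]
      | zero => exact map_zero _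
      | add x y _ _ hx hy => rw [map_add, hx, hy, add_zero]
      | smul s x _ hx => rw [smul_eq_mul, map_mul, hx, mul_zero]
    intro x
    rw [← algebraMap_smul (B ⊗[R] κ) i x, hi0, zero_smul]
  -- the injection stays injective
  let f' : (B ⊗[R] κ) ⊗[BT] P →ₗ[B] (B ⊗[R] κ) ⊗[BT] Q :=
    (f.baseChange (B ⊗[R] κ)).restrictScalars B
  let eP : (B ⊗[R] κ) ⊗[BT] P ≃ₗ[κ] κ ⊗[A] P :=
    Algebra.IsPushout.cancelBaseChange A κ BT (B ⊗[R] κ) P
  let eQ : (B ⊗[R] κ) ⊗[BT] Q ≃ₗ[κ] κ ⊗[A] Q :=
    Algebra.IsPushout.cancelBaseChange A κ BT (B ⊗[R] κ) Q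
  have hκf : Function.Injective ((f.restrictScalars A).baseChange κ) :=
    flat_residueField_lTensor_injective p (f.restrictScalars A) hf
      (fun a ha x => by
        show algebraMap A BT a • x = 0
        exact hP _ (Ideal.mem_map_of_mem _ ha) x)
      (fun a ha x => by
        show algebraMap A BT a • x = 0
        exact hQ _ (Ideal.mem_map_of_mem _ ha) x)
  have hf' : Function.Injective f' := by
    have key : ∀ z, eQ (f' z) = (f.restrictScalars A).baseChange κ (eP z) := fun z => by
      obtain ⟨z, rfl⟩ := eP.symm.surjective z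
      rw [LinearEquiv.apply_symm_apply]
      induction z using TensorProduct.induction_on with
      | zero => simp
      | add a b ha hb => simp only [map_add, ha, hb]
      | tmul k v =>
        refine eQ.symm.injective ?_
        simp [f', eP, eQ, Algebra.IsPushout.cancelBaseChange_symm_tmul]
    intro x y hxy
    refine eP.injective (hκf ?_)
    rw [← key, ← key, hxy]
  -- push the element up
  let mkP : P →ₗ[BT] (B ⊗[R] κ) ⊗[BT] P := TensorProduct.mk BT (B ⊗[R] κ) P 1
  let x' := twist j hj (mkP.lTensor MT ξ)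
  have hx' : f'.lTensor M x' = 0 := by
    rw [← twist_lTensor, ← LinearMap.lTensor_comp_apply,
      show f'.restrictScalars BT ∘ₗ mkP = TensorProduct.mk BT (B ⊗[R] κ) Q 1 ∘ₗ f from
        LinearMap.ext fun v => by simp [f', mkP],
      LinearMap.lTensor_comp_apply, hξ, map_zero, map_zero]
  obtain ⟨s, hs, hs0⟩ := h f' hf' hkilled hkilled x' hx'
  let Ψ : κ ⊗[A] (MT ⊗[BT] P) →+ M ⊗[B] ((B ⊗[R] κ) ⊗[BT] P) :=
    (((Algebra.IsPushout.cancelBaseChange A κ BT (B ⊗[R] κ) (MT ⊗[BT] P)).symm.toAddEquiv.trans
      (TensorProduct.leftComm BT (B ⊗[R] κ) MT P).toAddEquiv).trans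
      (twist j hj).toAddEquiv).toAddMonoidHom
  have hΨinj : Function.Injective Ψ := AddEquiv.injective _
  have hΨ : ∀ (k : κ) m v, Ψ (k ⊗ₜ (m ⊗ₜ v)) =
      j m ⊗ₜ[B] (algebraMap κ (B ⊗[R] κ) k ⊗ₜ[BT] v) := fun k m v => by
    simp [Ψ, Algebra.IsPushout.cancelBaseChange_symm_tmul, twist_tmul]
  have hxΨ : ∀ z, twist j hj (mkP.lTensor MT z) = Ψ (1 ⊗ₜ z) := fun z => by
    induction z using TensorProduct.induction_on with
    | zero => simp
    | add a b ha hb => rw [map_add, map_add, ha, hb, TensorProduct.tmul_add, map_add]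
    | tmul m v => rw [hΨ, LinearMap.lTensor_tmul, twist_tmul, map_one]; rfl
  refine exists_smul_eq_zero_descend φC hC q p hpq ?_ Ψ hΨinj ?_ ?_ ξ hs
    (by rw [← hxΨ]; exact hs0)
  · intro a ha z
    induction z using TensorProduct.induction_on with
    | zero => simp
    | add u v hu hv => rw [smul_add, hu, hv, add_zero]
    | tmul m v =>
      rw [← algebraMap_smul BT a (m ⊗ₜ[BT] v), ← TensorProduct.tmul_smul,
        hP _ (Ideal.mem_map_of_mem _ ha) v, TensorProduct.tmul_zero]
  · intro r z
    induction z using TensorProduct.induction_on with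
    | zero => simp
    | add a b ha hb => rw [smul_add, map_add, ha, hb, map_add, smul_add]
    | tmul k n =>
      induction n using TensorProduct.induction_on with
      | zero => simp
      | add a b ha hb =>
        rw [TensorProduct.tmul_add, smul_add, map_add, ha, hb, map_add, smul_add]
      | tmul m v =>
        rw [TensorProduct.smul_tmul', hΨ, hΨ, TensorProduct.smul_tmul',
          IsScalarTower.algebraMap_apply R B C, algebraMap_smul, TensorProduct.smul_tmul,
          TensorProduct.smul_tmul', ← algebraMap_smul (B ⊗[R] κ) (algebraMap R B r),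
          smul_eq_mul, Algebra.smul_def, map_mul,
          ← IsScalarTower.algebraMap_apply R B (B ⊗[R] κ),
          ← IsScalarTower.algebraMap_apply R κ (B ⊗[R] κ)]
  · intro c z
    induction z using TensorProduct.induction_on with
    | zero => simp
    | add a b ha hb => rw [smul_add, TensorProduct.tmul_add, map_add, ha, hb, TensorProduct.tmul_add,
        map_add, smul_add]
    | tmul m v => rw [TensorProduct.smul_tmul', hΨ, hΨ, TensorProduct.smul_tmul', hjC]

end fieldDescent

section quotient

/-- a module over a quotient is its own base change -/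
theorem isBaseChange_id_of_surjective {B₀ B M : Type u} [CommRing B₀] [CommRing B] [Algebra B₀ B]
    [AddCommGroup M] [Module B₀ M] [Module B M] [IsScalarTower B₀ B M]
    (hs : Function.Surjective (algebraMap B₀ B)) :
    IsBaseChange B (LinearMap.id : M →ₗ[B₀] M) := by
  have h1 : ∀ z : B ⊗[B₀] M, (1 : B) ⊗ₜ (LinearMap.id.liftBaseChange B z) = z := fun z => by
    induction z using TensorProduct.induction_on with
    | zero => simp
    | add a b ha hb => rw [map_add, TensorProduct.tmul_add, ha, hb]
    | tmul b m =>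
      obtain ⟨b, rfl⟩ := hs b
      rw [LinearMap.liftBaseChange_tmul, LinearMap.id_apply, algebraMap_smul,
        ← TensorProduct.smul_tmul, Algebra.smul_def, mul_one]
  have hbij : Function.Bijective ((LinearMap.id : M →ₗ[B₀] M).liftBaseChange B) :=
    ⟨fun a b h => by rw [← h1 a, ← h1 b, h], fun m => ⟨1 ⊗ₜ m, by simp⟩⟩
  exact IsBaseChange.of_equiv (LinearEquiv.ofBijective _ hbij) (fun x => by simp)

/-- a module killed by the kernel of a surjection is a module over the target -/
abbrev quotModule {B₀ B N : Type u} [CommRing B₀] [CommRing B] [Algebra B₀ B] [AddCommGroup N]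
    [Module B₀ N] (hs : Function.Surjective (algebraMap B₀ B))
    (hN : ∀ i ∈ RingHom.ker (algebraMap B₀ B), ∀ y : N, i • y = 0) : Module B N :=
  Module.compHom N ((Ideal.Quotient.lift _ (Module.toAddMonoidEnd B₀ N) fun a ha =>
    AddMonoidHom.ext fun y => hN a ha y).comp
      (RingHom.quotientKerEquivOfSurjective hs).symm.toRingHom)

theorem quotModule_isScalarTower {B₀ B N : Type u} [CommRing B₀] [CommRing B] [Algebra B₀ B]
    [AddCommGroup N] [Module B₀ N] (hs : Function.Surjective (algebraMap B₀ B))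
    (hN : ∀ i ∈ RingHom.ker (algebraMap B₀ B), ∀ y : N, i • y = 0) :
    letI := quotModule hs hN
    IsScalarTower B₀ B N := by
  letI := quotModule hs hN
  refine IsScalarTower.of_algebraMap_smul fun c y => ?_
  have : (RingHom.quotientKerEquivOfSurjective hs).symm (algebraMap B₀ B c) =
      Ideal.Quotient.mk _ c :=
    (RingEquiv.symm_apply_eq _).mpr (RingHom.quotientKerEquivOfSurjective_apply_mk hs c).symm
  show ((Ideal.Quotient.lift (RingHom.ker (algebraMap B₀ B)) (Module.toAddMonoidEnd B₀ N)
    fun a ha => AddMonoidHom.ext fun y => hN a ha y)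
    ((RingHom.quotientKerEquivOfSurjective hs).symm (algebraMap B₀ B c))) y = c • y
  rw [this]
  rfl

/-- passing to a ring with more relations -/
theorem FlatAtKilled.of_surjective {B₀ B C M : Type u} [CommRing B₀] [CommRing B] [Algebra B₀ B]
    [CommRing C] [Algebra B C] [Algebra B₀ C] [IsScalarTower B₀ B C]
    [AddCommGroup M] [Module B₀ M] [Module B M] [Module C M] [IsScalarTower B₀ B M]
    [IsScalarTower B₀ C M] [IsScalarTower B C M]
    (hs : Function.Surjective (algebraMap B₀ B)) (T : Submonoid B₀) (q : Ideal C) [q.IsPrime]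
    (hT : ∀ t ∈ T, algebraMap B₀ C t ∉ q) (I₀ : Ideal B₀)
    (hker : ∀ j ∈ RingHom.ker (algebraMap B₀ B), ∃ t ∈ T, t * j ∈ I₀)
    (h : FlatAtKilled B M (I₀.map (algebraMap B₀ B)) q) : FlatAtKilled B₀ M I₀ q := by
  intro P Q _ _ _ _ f hf hP hQ x hx
  let PT := LocalizedModule T P
  let QT := LocalizedModule T Q
  let ℓP : P →ₗ[B₀] PT := LocalizedModule.mkLinearMap T P
  let ℓQ : Q →ₗ[B₀] QT := LocalizedModule.mkLinearMap T Q
  have hkill : ∀ {N : Type u} [AddCommGroup N] [Module B₀ N], (∀ i ∈ I₀, ∀ y : N, i • y = 0) →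
      ∀ i, i ∈ I₀ ∨ i ∈ RingHom.ker (algebraMap B₀ B) → ∀ y : LocalizedModule T N, i • y = 0 := by
    intro N _ _ hN i hi y
    have h0 : ∀ i ∈ I₀, ∀ y : LocalizedModule T N, i • y = 0 := fun i hi y => by
      induction y using LocalizedModule.induction_on with
      | h m t => rw [LocalizedModule.smul'_mk, hN i hi, LocalizedModule.zero_mk]
    rcases hi with hi | hi
    · exact h0 i hi y
    · obtain ⟨t, ht, htj⟩ := hker i hi
      refine ((Module.End.isUnit_iff _).mp (IsLocalizedModule.map_units
        (LocalizedModule.mkLinearMap T N) (⟨t, ht⟩ : T))).injective ?_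
      rw [map_zero, Module.algebraMap_end_apply, ← mul_smul]
      exact h0 _ htj y
  letI : Module B PT := quotModule hs fun i hi y => hkill hP i (Or.inr hi) y
  letI : Module B QT := quotModule hs fun i hi y => hkill hQ i (Or.inr hi) y
  haveI : IsScalarTower B₀ B PT := quotModule_isScalarTower hs _
  haveI : IsScalarTower B₀ B QT := quotModule_isScalarTower hs _
  let fT : PT →ₗ[B] QT :=
    LinearMap.extendScalarsOfSurjective hs (IsLocalizedModule.map T ℓP ℓQ f)
  have hfT : Function.Injective fT := IsLocalizedModule.map_injective T ℓP ℓQ f hf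
  have hI : ∀ {N : Type u} [AddCommGroup N] [Module B₀ N] [Module B N] [IsScalarTower B₀ B N],
      (∀ i ∈ I₀, ∀ y : N, i • y = 0) → ∀ i ∈ I₀.map (algebraMap B₀ B), ∀ y : N, i • y = 0 := by
    intro N _ _ _ _ hN i hi y
    obtain ⟨i', hi', rfl⟩ := (Ideal.mem_map_iff_of_surjective _ hs).mp hi
    rw [algebraMap_smul]
    exact hN i' hi' y
  have hid := isBaseChange_id_of_surjective (M := M) hs
  let x' : M ⊗[B] PT := twist LinearMap.id hid (ℓP.lTensor M x)
  have hx' : fT.lTensor M x' = 0 := by
    rw [← twist_lTensor, ← LinearMap.lTensor_comp_apply,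
      show fT.restrictScalars B₀ ∘ₗ ℓP = ℓQ ∘ₗ f from
        LinearMap.ext fun v => IsLocalizedModule.map_apply T ℓP ℓQ f v,
      LinearMap.lTensor_comp_apply, hx, map_zero, map_zero]
  obtain ⟨s, hsq, hs0⟩ := h fT hfT (hI fun i hi => hkill hP i (Or.inl hi))
    (hI fun i hi => hkill hQ i (Or.inl hi)) x' hx'
  have h1 : ℓP.rTensor M (TensorProduct.comm B₀ M P (s • x)) = 0 := by
    have e : ℓP.lTensor M (s • x) = 0 := by
      refine (twist LinearMap.id hid).injective ?_
      rw [map_zero, show ℓP.lTensor M (s • x) =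
        s • ℓP.lTensor M x from by
          clear hx hx' hs0 x'
          induction x using TensorProduct.induction_on with
          | zero => simp
          | add a b ha hb => simp only [smul_add, map_add, ha, hb]
          | tmul m v => simp [TensorProduct.smul_tmul'],
        twist_smul (RingHom.id C) LinearMap.id hid (fun _ _ => rfl)]
      exact hs0
    have e' : ∀ z, ℓP.rTensor M (TensorProduct.comm B₀ M P z) =
        TensorProduct.comm B₀ M PT (ℓP.lTensor M z) := fun z => by
      induction z using TensorProduct.induction_on with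
      | zero => simp
      | add a b ha hb => simp only [map_add, ha, hb]
      | tmul m v => simp
    rw [e', e, map_zero]
  obtain ⟨⟨t, ht⟩, ht0⟩ := (IsLocalizedModule.eq_zero_iff T
    (f := TensorProduct.AlgebraTensorModule.rTensor B₀ M ℓP)).mp h1
  refine ⟨algebraMap B₀ C t * s, fun h' => ((‹q.IsPrime›.mem_or_mem h').elim (hT t ht) hsq), ?_⟩
  rw [mul_smul, algebraMap_smul]
  refine (TensorProduct.comm B₀ M P).injective ?_
  rw [map_smul, map_zero]
  exact ht0

/-- an `A`-base change which is `BT`-linear is a base change to the pushout -/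
theorem isBaseChange_of_isPushout {A R BT B MT M : Type u} [CommRing A] [CommRing R] [CommRing BT]
    [CommRing B] [Algebra A R] [Algebra A BT] [Algebra R B] [Algebra A B] [IsScalarTower A R B]
    [Algebra BT B] [IsScalarTower A BT B] [Algebra.IsPushout A R BT B]
    [AddCommGroup MT] [Module A MT] [Module BT MT] [IsScalarTower A BT MT]
    [AddCommGroup M] [Module A M] [Module R M] [Module B M] [IsScalarTower R B M]
    [IsScalarTower A R M] [Module BT M] [IsScalarTower BT B M] [IsScalarTower A BT M]
    (j : MT →ₗ[BT] M) (hj : IsBaseChange R (j.restrictScalars A)) : IsBaseChange B j := by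
  let e := Algebra.IsPushout.cancelBaseChange A R BT B MT
  have key : ∀ z, j.liftBaseChange B (e.symm z) = hj.equiv z := fun z => by
    induction z using TensorProduct.induction_on with
    | zero => simp
    | add a b ha hb => simp only [map_add, ha, hb]
    | tmul r m =>
      rw [Algebra.IsPushout.cancelBaseChange_symm_tmul, LinearMap.liftBaseChange_tmul,
        algebraMap_smul, IsBaseChange.equiv_tmul]
      rfl
  have hbij : Function.Bijective (j.liftBaseChange B) := by
    refine ⟨fun a b h => ?_, fun m => ⟨e.symm (hj.equiv.symm m), by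
      rw [key, LinearEquiv.apply_symm_apply]⟩⟩
    obtain ⟨a, rfl⟩ := e.symm.surjective a
    obtain ⟨b, rfl⟩ := e.symm.surjective b
    rw [key, key] at h
    rw [hj.equiv.injective h]
  exact IsBaseChange.of_equiv (LinearEquiv.ofBijective _ hbij) (fun x => by simp)

/-- finitely many elements generate an ideal of `R[x]` up to `p` and `R ∖ p` -/
theorem exists_fg_torsion {σ : Type} [Finite σ] {R : Type u} [CommRing R] (p : Ideal R) [p.IsPrime]
    (J : Ideal (MvPolynomial σ R)) :
    ∃ F : Finset (MvPolynomial σ R), (F : Set (MvPolynomial σ R)) ⊆ J ∧ ∀ j ∈ J, ∃ t, t ∉ p ∧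
      MvPolynomial.C t * j ∈ Ideal.span (F : Set (MvPolynomial σ R)) ⊔ p.map MvPolynomial.C := by
  classical
  let φ : MvPolynomial σ R →+* MvPolynomial σ (R ⧸ p) := MvPolynomial.map (Ideal.Quotient.mk p)
  have hφ : Function.Surjective φ :=
    MvPolynomial.map_surjective _ Ideal.Quotient.mk_surjective
  have hker : RingHom.ker φ = p.map MvPolynomial.C := by
    rw [MvPolynomial.ker_map, Ideal.mk_ker]
  let Kx := MvPolynomial σ p.ResidueField
  letI : Algebra (MvPolynomial σ (R ⧸ p)) Kx := MvPolynomial.algebraMvPolynomial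
  haveI : IsLocalization ((nonZeroDivisors (R ⧸ p)).map (MvPolynomial.C (σ := σ))) Kx :=
    MvPolynomial.isLocalization _ _
  let ψ := (algebraMap (MvPolynomial σ (R ⧸ p)) Kx).comp φ
  haveI : IsNoetherianRing Kx := MvPolynomial.isNoetherianRing
  let S : Set Kx := ψ '' (J : Set (MvPolynomial σ R))
  have hfg : (Submodule.span Kx S).FG := IsNoetherian.noetherian (R := Kx) (Submodule.span Kx S)
  obtain ⟨F', hF', hspan⟩ := (Submodule.fg_span_iff_fg_span_finset_subset S).mp hfg
  obtain ⟨F, hFJ, rfl⟩ := Finset.subset_set_image_iff.mp hF'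
  refine ⟨F, hFJ, fun j hj => ?_⟩
  have h1 : algebraMap (MvPolynomial σ (R ⧸ p)) Kx (φ j) ∈
      ((Ideal.span (F : Set (MvPolynomial σ R))).map φ).map
        (algebraMap (MvPolynomial σ (R ⧸ p)) Kx) := by
    rw [Ideal.map_map, Ideal.map_span, ← Finset.coe_image]
    exact hspan.le (Submodule.subset_span ⟨j, hj, rfl⟩)
  obtain ⟨⟨⟨a, ha⟩, ⟨_, c, hc, rfl⟩⟩, hac⟩ := (IsLocalization.mem_map_algebraMap_iff
    ((nonZeroDivisors (R ⧸ p)).map (MvPolynomial.C (σ := σ))) Kx).mp h1
  obtain ⟨c, rfl⟩ := Ideal.Quotient.mk_surjective c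
  rw [← map_mul] at hac
  have hinj : Function.Injective (algebraMap (MvPolynomial σ (R ⧸ p)) Kx) :=
    MvPolynomial.map_injective _ (IsFractionRing.injective (R ⧸ p) p.ResidueField)
  refine ⟨c, fun h => nonZeroDivisors.ne_zero hc (Ideal.Quotient.eq_zero_iff_mem.mpr h), ?_⟩
  rw [← hker, RingHom.ker_eq_comap_bot, ← Ideal.comap_map_of_surjective φ hφ, Ideal.mem_comap,
    map_mul, show φ (MvPolynomial.C c) = MvPolynomial.C (Ideal.Quotient.mk p c) from
      MvPolynomial.map_C _ _, mul_comm, hinj hac]
  exact ha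

theorem vmap_smul_single {σ : Type} {ι : Type} [DecidableEq ι] {A R : Type u} [CommRing A]
    [CommRing R] (φ : A →+* R) (z : MvPolynomial σ A) (i : ι) :
    vmap φ (z • (Pi.single i 1 : ι → MvPolynomial σ A)) = Pi.single i (MvPolynomial.map φ z) := by
  funext j
  show MvPolynomial.map φ (z * (Pi.single i (1 : MvPolynomial σ A) : ι → _) j) = _
  rcases eq_or_ne j i with rfl | h
  · rw [Pi.single_eq_same, Pi.single_eq_same, mul_one]
  · rw [Pi.single_eq_of_ne h, Pi.single_eq_of_ne h, mul_zero, map_zero]

theorem vmap_sum_smul {σ : Type} {ι : Type} {A R : Type u} [CommRing A] [CommRing R]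
    (φ : A →+* R) {k : ℕ} (c : Fin k → MvPolynomial σ A) (g : Fin k → ι → MvPolynomial σ A) :
    vmap φ (∑ l, c l • g l) = ∑ l, MvPolynomial.map φ (c l) • vmap φ (g l) := by
  have h := vmap_smul_sum φ (1 : A) c g
  rwa [one_smul, map_one, one_smul] at h

end quotient

theorem aeval_map {σ : Type} {A R D : Type u} [CommRing A] [CommRing R] [CommRing D] [Algebra A R]
    [Algebra R D] [Algebra A D] [IsScalarTower A R D] (π : MvPolynomial σ R →ₐ[R] D)
    (z : MvPolynomial σ A) :
    MvPolynomial.aeval (fun i => π (MvPolynomial.X i)) z =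
      π (MvPolynomial.map (algebraMap A R) z) := by
  induction z using MvPolynomial.induction_on with
  | C a =>
    rw [MvPolynomial.aeval_C, MvPolynomial.map_C, ← MvPolynomial.algebraMap_eq, π.commutes,
      IsScalarTower.algebraMap_apply A R D]
  | add a b ha hb => simp only [map_add, ha, hb]
  | mul_X a i ha => simp only [map_mul, ha, MvPolynomial.aeval_X, MvPolynomial.map_X]

theorem aeval_one_tmul_map {σ : Type} {A R S : Type u} [CommRing A] [CommRing R] [CommRing S]
    [Algebra A R] [Algebra A S] (s : σ → S) (z : MvPolynomial σ A) :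
    MvPolynomial.aeval (fun i => (1 : R) ⊗ₜ[A] s i) (MvPolynomial.map (algebraMap A R) z) =
      (1 : R) ⊗ₜ[A] MvPolynomial.aeval s z := by
  induction z using MvPolynomial.induction_on with
  | C a =>
    rw [MvPolynomial.map_C, MvPolynomial.aeval_C, MvPolynomial.aeval_C,
      Algebra.TensorProduct.algebraMap_apply, Algebra.algebraMap_self, RingHom.id_apply,
      Algebra.algebraMap_eq_smul_one, Algebra.algebraMap_eq_smul_one, TensorProduct.smul_tmul]
  | add a b ha hb => simp only [map_add, TensorProduct.tmul_add, ha, hb]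
  | mul_X a i ha => simp [ha, Algebra.TensorProduct.tmul_mul_tmul]

theorem finite_coker {σ : Type} {A : Type u} [CommRing A] {k N : ℕ}
    (g : Fin k → Fin N → MvPolynomial σ A) : Module.Finite (MvPolynomial σ A) (Coker g) :=
  inferInstance

section main

set_option synthInstance.maxHeartbeats 200000
set_option backward.isDefEq.respectTransparency false

attribute [local instance] Algebra.TensorProduct.rightAlgebra

/-- the criterion, given Noetherian models -/
theorem flatAt_of_model {A R B C M BT CT MT : Type u} [CommRing A] [CommRing R] [CommRing B]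
    [CommRing C] [Algebra A R] [Algebra R B] [Algebra B C] [Algebra R C] [IsScalarTower R B C]
    [Algebra A B] [IsScalarTower A R B] [Algebra A C] [IsScalarTower A R C]
    [AddCommGroup M] [Module A M] [Module R M] [Module B M] [Module C M] [IsScalarTower A R M]
    [IsScalarTower R B M] [IsScalarTower R C M] [IsScalarTower B C M]
    [CommRing BT] [CommRing CT] [Algebra A BT] [Algebra A CT] [Algebra BT CT]
    [IsScalarTower A BT CT] [IsNoetherianRing BT] [IsNoetherianRing CT]
    [AddCommGroup MT] [Module A MT] [Module BT MT] [Module CT MT] [IsScalarTower A BT MT]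
    [IsScalarTower A CT MT] [IsScalarTower BT CT MT] [Module.Finite CT MT]
    (θB : BT →ₐ[A] B) (θC : CT →ₐ[A] C)
    (hθ : ∀ b, θC (algebraMap BT CT b) = algebraMap B C (θB b))
    (hB : Function.Surjective
      (Algebra.TensorProduct.lift (Algebra.ofId R B) θB fun _ _ => .all _ _))
    (hC : Function.Surjective
      (Algebra.TensorProduct.lift (Algebra.ofId R C) θC fun _ _ => .all _ _))
    (q : Ideal C) [q.IsPrime]
    (hker : ∀ z, Algebra.TensorProduct.lift (Algebra.ofId R B) θB (fun _ _ => .all _ _) z = 0 →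
      ∃ t, t ∉ q.comap (algebraMap R C) ∧ algebraMap R (R ⊗[A] BT) t * z ∈
        (q.comap (algebraMap R C)).map (algebraMap R (R ⊗[A] BT)))
    (j₀ : MT →ₗ[A] M) (hj₀ : IsBaseChange R j₀) (hjC : ∀ c x, j₀ (c • x) = θC c • j₀ x)
    (hA : FlatAt A MT (q.comap θC.toRingHom))
    (hfib : FlatAtKilled B M (((q.comap (algebraMap R C))).map (algebraMap R B)) q) :
    FlatAt B M q := by
  let p := q.comap (algebraMap R C)
  let B' := R ⊗[A] BT
  let C' := R ⊗[A] CT
  let φ' : B' →ₐ[R] C' :=
    Algebra.TensorProduct.map (AlgHom.id R R) (IsScalarTower.toAlgHom A BT CT)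
  letI : Algebra B' C' := φ'.toRingHom.toAlgebra
  haveI : IsScalarTower R B' C' := IsScalarTower.of_algebraMap_eq fun r => (φ'.commutes r).symm
  let πB' : B' →ₐ[R] B := Algebra.TensorProduct.lift (Algebra.ofId R B) θB fun _ _ => .all _ _
  let πC' : C' →ₐ[R] C := Algebra.TensorProduct.lift (Algebra.ofId R C) θC fun _ _ => .all _ _
  have hπBC : ∀ b, πC' (φ' b) = algebraMap B C (πB' b) := fun b => by
    induction b using TensorProduct.induction_on with
    | zero => simp
    | add a b ha hb => simp only [map_add, ha, hb]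
    | tmul r b =>
      show algebraMap R C r * θC (algebraMap BT CT b) = algebraMap B C (algebraMap R B r * θB b)
      rw [map_mul, ← IsScalarTower.algebraMap_apply R B C, hθ]
  letI : Algebra B' B := πB'.toRingHom.toAlgebra
  letI : Algebra B' C := ((algebraMap B C).comp πB'.toRingHom).toAlgebra
  haveI : IsScalarTower B' B C := IsScalarTower.of_algebraMap_eq fun _ => rfl
  letI : Module B' M := Module.compHom M πB'.toRingHom
  letI : Module C' M := Module.compHom M πC'.toRingHom
  haveI : IsScalarTower B' B M := IsScalarTower.of_algebraMap_smul fun _ _ => rfl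
  haveI : IsScalarTower B' C M := IsScalarTower.of_algebraMap_smul fun b z => by
    show algebraMap B C (πB' b) • z = _
    rw [algebraMap_smul]
    rfl
  haveI : IsScalarTower B' C' M := IsScalarTower.of_algebraMap_smul fun b z => by
    show πC' (φ' b) • z = _
    rw [hπBC, algebraMap_smul]
    rfl
  haveI : IsScalarTower R B' M := IsScalarTower.of_algebraMap_smul fun r z => by
    show πB' (algebraMap R B' r) • z = _
    rw [πB'.commutes, algebraMap_smul]
  letI : Module BT M := Module.compHom M (algebraMap BT B')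
  haveI : IsScalarTower BT B' M := IsScalarTower.of_algebraMap_smul fun _ _ => rfl
  haveI : IsScalarTower A BT M := IsScalarTower.of_algebraMap_smul fun a z => by
    show πB' (algebraMap BT B' (algebraMap A BT a)) • z = a • z
    rw [← IsScalarTower.algebraMap_apply A BT B', IsScalarTower.algebraMap_apply A R B',
      πB'.commutes, algebraMap_smul, algebraMap_smul]
  let φC : CT →ₐ[A] C' := Algebra.TensorProduct.includeRight
  have hπφ : ∀ z, πC' (φC z) = θC z := fun z => by
    show algebraMap R C 1 * θC z = θC z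
    rw [map_one, one_mul]
  let j : MT →ₗ[BT] M :=
    { toFun := j₀
      map_add' := map_add _
      map_smul' := fun b x => by
        show j₀ (b • x) = πB' (1 ⊗ₜ b) • j₀ x
        rw [← algebraMap_smul CT b x, hjC, hθ, algebraMap_smul]
        show θB b • j₀ x = (algebraMap R B 1 * θB b) • j₀ x
        rw [map_one, one_mul] }
  have hjC' : ∀ c x, j (c • x) = φC c • j x := fun c x => by
    show j₀ (c • x) = πC' (φC c) • j₀ x
    rw [hπφ]
    exact hjC c x
  have hj : IsBaseChange B' j := isBaseChange_of_isPushout j hj₀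
  let q' : Ideal C' := q.comap πC'.toRingHom
  let qT : Ideal CT := q'.comap φC.toRingHom
  haveI : q'.IsPrime := Ideal.IsPrime.comap _
  haveI : qT.IsPrime := Ideal.IsPrime.comap _
  have hp : q'.comap (algebraMap R C') = p := by
    ext r
    show πC' (algebraMap R C' r) ∈ q ↔ _
    rw [πC'.commutes]
    rfl
  have hqT : qT = q.comap θC.toRingHom := by
    ext z
    show πC' (φC z) ∈ q ↔ θC z ∈ q
    rw [hπφ]
  have hfib' : FlatAtKilled B' M (p.map (algebraMap R B')) q := by
    refine FlatAtKilled.of_surjective (B := B) hB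
      (p.primeCompl.map (algebraMap R B')) q ?_ _ ?_ ?_
    · rintro _ ⟨t, ht, rfl⟩
      show algebraMap B C (πB' (algebraMap R B' t)) ∉ q
      rw [πB'.commutes, ← IsScalarTower.algebraMap_apply]
      exact ht
    · intro b hb
      obtain ⟨t, ht, htz⟩ := hker b hb
      exact ⟨_, Submonoid.mem_map_of_mem _ (show t ∈ p.primeCompl from ht), htz⟩
    · rw [Ideal.map_map, show (algebraMap B' B).comp (algebraMap R B') = algebraMap R B from
        πB'.comp_algebraMap]
      exact hfib
  have hdesc := FlatAtKilled.descend φC (TensorProduct.isBaseChange A CT R) j hj hjC' q' p hp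
    (hfib'.comap πC'.toRingHom hC fun _ _ => rfl)
  have hBT : FlatAt BT MT qT := by
    refine flatAt_of_killed (p.comap (algebraMap A R)) qT ?_ (hqT ▸ hA) hdesc
    rw [Ideal.map_le_iff_le_comap]
    intro a ha
    show πC' (φC (algebraMap A CT a)) ∈ q
    rw [φC.commutes, IsScalarTower.algebraMap_apply A R C', πC'.commutes]
    exact ha
  have hB' : FlatAt B' M q' := FlatAt.baseChange φC.toRingHom j hj hjC' q' le_rfl hBT
  rw [flatAt_comap_iff πC'.toRingHom hC (fun _ _ => rfl) q] at hB'
  exact FlatAt.baseChange (RingHom.id C) LinearMap.id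
    (isBaseChange_id_of_surjective (B₀ := B') hB) (fun _ _ => rfl) q le_rfl hB'

set_option maxHeartbeats 1000000 in
set_option maxHeartbeats 1000000 in
/-- the criterion, given a presentation defined over a Noetherian subring -/
theorem flatAt_of_presentation {A R B C M : Type u} [CommRing A] [IsNoetherianRing A] [CommRing R]
    [CommRing B] [CommRing C] [Algebra A R] (hinj : Function.Injective (algebraMap A R))
    [Algebra R B] [Algebra B C] [Algebra R C] [IsScalarTower R B C] [AddCommGroup M] [Module R M]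
    [Module B M] [Module C M] [IsScalarTower R B M] [IsScalarTower R C M] [IsScalarTower B C M]
    {n m N k : ℕ} (πB : MvPolynomial (Fin n) R →ₐ[R] B) (hπB : Function.Surjective πB)
    (πC : MvPolynomial (Fin n ⊕ Fin m) R →ₐ[R] C) (hπC : Function.Surjective πC)
    (hπr : ∀ f, πC (MvPolynomial.rename Sum.inl f) = algebraMap B C (πB f))
    (F : Finset (MvPolynomial (Fin n) R)) (hF : ∀ f ∈ F, πB f = 0)
    (f' : {f // f ∈ F} → MvPolynomial (Fin n) A)
    (hf' : ∀ f, MvPolynomial.map (algebraMap A R) (f' f) = f.1)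
    (g : Fin k → Fin N → MvPolynomial (Fin n ⊕ Fin m) R)
    (e : M ≃+ Coker g) (hsmul : ∀ z x, e.symm (z • x) = πC z • e.symm x)
    (g' : Fin k → Fin N → MvPolynomial (Fin n ⊕ Fin m) A)
    (hg' : ∀ l, vmap (algebraMap A R) (g' l) = g l)
    (c : {f // f ∈ F} → Fin N → Fin k → MvPolynomial (Fin n ⊕ Fin m) R)
    (hc : ∀ f i, ∑ l, c f i l • g l = Pi.single i (MvPolynomial.rename Sum.inl f.1))
    (c' : ({f // f ∈ F} × Fin N) × Fin k → MvPolynomial (Fin n ⊕ Fin m) A)
    (hc' : ∀ a, MvPolynomial.map (algebraMap A R) (c' a) = c a.1.1 a.1.2 a.2)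
    (q : Ideal C) [q.IsPrime]
    (hFt : ∀ j, πB j = 0 → ∃ t, t ∉ q.comap (algebraMap R C) ∧ MvPolynomial.C t * j ∈
      Ideal.span (F : Set (MvPolynomial (Fin n) R)) ⊔
        (q.comap (algebraMap R C)).map MvPolynomial.C)
    (hflatT : FlatAt A (Coker g')
      ((q.comap πC.toRingHom).comap (MvPolynomial.map (algebraMap A R))))
    (hfib : FlatAtKilled B M (((q.comap (algebraMap R C))).map (algebraMap R B)) q) :
    FlatAt B M q := by
  classical
  let p := q.comap (algebraMap R C)
  letI : Algebra A B := ((algebraMap R B).comp (algebraMap A R)).toAlgebra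
  haveI : IsScalarTower A R B := IsScalarTower.of_algebraMap_eq fun _ => rfl
  letI : Algebra A C := ((algebraMap R C).comp (algebraMap A R)).toAlgebra
  haveI : IsScalarTower A R C := IsScalarTower.of_algebraMap_eq fun _ => rfl
  letI : Module A M := Module.compHom M (algebraMap A R)
  haveI : IsScalarTower A R M := IsScalarTower.of_algebraMap_smul fun _ _ => rfl
  let eR : Coker g ≃ₗ[R] M :=
    { e.symm with
      map_smul' := fun r x => by
        show e.symm (r • x) = r • e.symm x
        rw [← algebraMap_smul (MvPolynomial (Fin n ⊕ Fin m) R) r x, hsmul, πC.commutes,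
          algebraMap_smul] }
  -- the models
  let r₀ : MvPolynomial (Fin n) A →ₐ[A] MvPolynomial (Fin n ⊕ Fin m) A :=
    MvPolynomial.rename Sum.inl
  let J₀ : Ideal (MvPolynomial (Fin n) A) := Ideal.span (Set.range f')
  let JC : Ideal (MvPolynomial (Fin n ⊕ Fin m) A) := J₀.map r₀.toRingHom
  let φ₀ : (MvPolynomial (Fin n) A ⧸ J₀) →ₐ[A] (MvPolynomial (Fin n ⊕ Fin m) A ⧸ JC) :=
    Ideal.quotientMapₐ JC r₀ Ideal.le_comap_map
  letI : Algebra (MvPolynomial (Fin n) A ⧸ J₀) (MvPolynomial (Fin n ⊕ Fin m) A ⧸ JC) :=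
    φ₀.toRingHom.toAlgebra
  haveI : IsScalarTower A (MvPolynomial (Fin n) A ⧸ J₀) (MvPolynomial (Fin n ⊕ Fin m) A ⧸ JC) :=
    IsScalarTower.of_algebraMap_eq fun a => (φ₀.commutes a).symm
  haveI : Module.Finite (MvPolynomial (Fin n ⊕ Fin m) A) (Coker g') := finite_coker g'
  have hrename : ∀ z, MvPolynomial.map (algebraMap A R) (r₀ z) =
      MvPolynomial.rename Sum.inl (MvPolynomial.map (algebraMap A R) z) :=
    fun z => MvPolynomial.map_rename _ _ _
  have htor : Module.IsTorsionBySet (MvPolynomial (Fin n ⊕ Fin m) A) (Coker g') JC := by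
    have : JC ≤ Module.annihilator (MvPolynomial (Fin n ⊕ Fin m) A) (Coker g') := by
      refine Ideal.map_le_iff_le_comap.mpr (Ideal.span_le.mpr ?_)
      rintro _ ⟨f, rfl⟩
      refine Module.mem_annihilator.mpr fun x => ?_
      obtain ⟨v, rfl⟩ := Submodule.mkQ_surjective _ x
      rw [Submodule.mkQ_apply, ← Submodule.Quotient.mk_smul, Submodule.Quotient.mk_eq_zero,
        pi_eq_sum_univ' v, Finset.smul_sum]
      refine Submodule.sum_mem _ fun i _ => ?_
      rw [smul_comm]
      refine Submodule.smul_mem _ _ ?_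
      have he : r₀ (f' f) • (Pi.single i 1 : Fin N → MvPolynomial (Fin n ⊕ Fin m) A) =
          ∑ l, c' ((f, i), l) • g' l := by
        refine vmap_injective hinj ?_
        rw [vmap_smul_single, vmap_sum_smul, hrename, hf', ← hc f i]
        refine Finset.sum_congr rfl fun l _ => ?_
        rw [hc', hg']
      show r₀ (f' f) • _ ∈ _
      rw [he]
      exact Submodule.sum_mem _ fun l _ =>
        Submodule.smul_mem _ _ (Submodule.subset_span ⟨l, rfl⟩)
    exact fun x a => Module.mem_annihilator.mp (this a.2) x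
  letI : Module (MvPolynomial (Fin n ⊕ Fin m) A ⧸ JC) (Coker g') := htor.module
  haveI : IsScalarTower (MvPolynomial (Fin n ⊕ Fin m) A) (MvPolynomial (Fin n ⊕ Fin m) A ⧸ JC)
    (Coker g') := htor.isScalarTower
  haveI : IsScalarTower A (MvPolynomial (Fin n ⊕ Fin m) A ⧸ JC) (Coker g') :=
    IsScalarTower.to₁₃₄ A (MvPolynomial (Fin n ⊕ Fin m) A) (MvPolynomial (Fin n ⊕ Fin m) A ⧸ JC) _
  haveI : Module.Finite (MvPolynomial (Fin n ⊕ Fin m) A ⧸ JC) (Coker g') :=
    Module.Finite.of_restrictScalars_finite (MvPolynomial (Fin n ⊕ Fin m) A) _ _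
  letI : Module (MvPolynomial (Fin n) A ⧸ J₀) (Coker g') := Module.compHom _ φ₀.toRingHom
  haveI : IsScalarTower (MvPolynomial (Fin n) A ⧸ J₀) (MvPolynomial (Fin n ⊕ Fin m) A ⧸ JC)
    (Coker g') := IsScalarTower.of_algebraMap_smul fun _ _ => rfl
  haveI : IsScalarTower A (MvPolynomial (Fin n) A ⧸ J₀) (Coker g') :=
    ⟨fun a b x => by
      show φ₀ (a • b) • x = a • (φ₀ b • x)
      rw [map_smul, smul_assoc]⟩
  let θB : (MvPolynomial (Fin n) A ⧸ J₀) →ₐ[A] B := Ideal.Quotient.liftₐ J₀
    (MvPolynomial.aeval fun i => πB (MvPolynomial.X i)) fun z hz => by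
      induction hz using Submodule.span_induction with
      | mem z hz =>
        obtain ⟨f, rfl⟩ := hz
        rw [aeval_map, hf']
        exact hF f.1 f.2
      | zero => exact map_zero _
      | add a b _ _ ha hb => rw [map_add, ha, hb, add_zero]
      | smul a b _ hb => rw [smul_eq_mul, map_mul, hb, mul_zero]
  let θC : (MvPolynomial (Fin n ⊕ Fin m) A ⧸ JC) →ₐ[A] C := Ideal.Quotient.liftₐ JC
    (MvPolynomial.aeval fun i => πC (MvPolynomial.X i)) fun z hz => by
      rw [aeval_map]
      refine (show JC.map (MvPolynomial.map (algebraMap A R)) ≤ RingHom.ker πC.toRingHom from ?_)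
        (Ideal.mem_map_of_mem _ hz)
      rw [Ideal.map_map, Ideal.map_span, Ideal.span_le]
      rintro _ ⟨_, ⟨f, rfl⟩, rfl⟩
      show πC (MvPolynomial.map (algebraMap A R) (r₀ (f' f))) = 0
      rw [hrename, hπr, hf', hF f.1 f.2, map_zero]
  have hθC : ∀ z, θC (Ideal.Quotient.mk JC z) = πC (MvPolynomial.map (algebraMap A R) z) :=
    fun z => aeval_map πC z
  have hθB : ∀ z, θB (Ideal.Quotient.mk J₀ z) = πB (MvPolynomial.map (algebraMap A R) z) :=
    fun z => aeval_map πB z
  let π₀ : MvPolynomial (Fin n) R →ₐ[R] R ⊗[A] (MvPolynomial (Fin n) A ⧸ J₀) :=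
    MvPolynomial.aeval fun i => (1 : R) ⊗ₜ[A] Ideal.Quotient.mk J₀ (MvPolynomial.X i)
  have hπ₀map : ∀ z, π₀ (MvPolynomial.map (algebraMap A R) z) =
      (1 : R) ⊗ₜ[A] Ideal.Quotient.mk J₀ z := fun z => by
    refine (aeval_one_tmul_map (R := R) (fun i => Ideal.Quotient.mk J₀ (MvPolynomial.X i)) z).trans
      (congrArg ((1 : R) ⊗ₜ[A] ·) ?_)
    rw [show (fun i => Ideal.Quotient.mk J₀ (MvPolynomial.X i)) =
      (fun i => Ideal.Quotient.mkₐ A J₀ (MvPolynomial.X i)) from rfl]
    exact AlgHom.congr_fun (MvPolynomial.aeval_unique (Ideal.Quotient.mkₐ A J₀)).symm z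
  have hπ₀ : Function.Surjective π₀ := fun b => by
    induction b using TensorProduct.induction_on with
    | zero => exact ⟨0, map_zero _⟩
    | add a b ha hb =>
      obtain ⟨a, rfl⟩ := ha
      obtain ⟨b, rfl⟩ := hb
      exact ⟨a + b, map_add _ _ _⟩
    | tmul r b =>
      obtain ⟨b, rfl⟩ := Ideal.Quotient.mk_surjective b
      refine ⟨r • MvPolynomial.map (algebraMap A R) b, ?_⟩
      rw [map_smul, hπ₀map, TensorProduct.smul_tmul', smul_eq_mul, mul_one]
  have hπ₀B : ∀ z, Algebra.TensorProduct.lift (Algebra.ofId R B) θB (fun _ _ => .all _ _) (π₀ z) =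
      πB z := fun z => congrArg (fun g : MvPolynomial (Fin n) R →ₐ[R] B => g z)
    (show (Algebra.TensorProduct.lift (Algebra.ofId R B) θB fun _ _ => .all _ _).comp π₀ = πB from
      MvPolynomial.algHom_ext fun i => by simp [π₀, θB])
  refine flatAt_of_model θB θC ?_ ?_ ?_ q ?_
    ((eR.toLinearMap.restrictScalars A) ∘ₗ cokerMap g' g hg') ?_ ?_ ?_ hfib
  · intro b
    obtain ⟨b, rfl⟩ := Ideal.Quotient.mk_surjective b
    show θC (Ideal.Quotient.mk JC (r₀ b)) = _
    rw [hθC, hrename, hπr, hθB]
  · intro b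
    obtain ⟨z, rfl⟩ := hπB b
    exact ⟨π₀ z, hπ₀B z⟩
  · intro c
    obtain ⟨z, rfl⟩ := hπC c
    induction z using MvPolynomial.induction_on with
    | C r => exact ⟨r ⊗ₜ 1, by simp⟩
    | add a b ha hb =>
      obtain ⟨x, hx⟩ := ha
      obtain ⟨y, hy⟩ := hb
      exact ⟨x + y, by simp [hx, hy]⟩
    | mul_X a i ha =>
      obtain ⟨x, hx⟩ := ha
      exact ⟨x * (1 ⊗ₜ Ideal.Quotient.mk JC (MvPolynomial.X i)), by simp [hx, hθC]⟩
  · intro b hb
    obtain ⟨z, rfl⟩ := hπ₀ b
    obtain ⟨t, ht, htz⟩ := hFt z ((hπ₀B z).symm.trans hb)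
    refine ⟨t, ht, ?_⟩
    rw [← π₀.commutes, ← map_mul, MvPolynomial.algebraMap_eq]
    refine (show (Ideal.span (F : Set _) ⊔ p.map MvPolynomial.C).map π₀.toRingHom ≤
      p.map (algebraMap R _) from ?_) (Ideal.mem_map_of_mem _ htz)
    rw [Ideal.map_sup, sup_le_iff, Ideal.map_span, Ideal.span_le, Ideal.map_map]
    refine ⟨?_, le_of_eq (congrArg (fun h => Ideal.map h p) (π₀.comp_algebraMap))⟩
    rintro _ ⟨f, hf, rfl⟩
    show π₀ f ∈ _
    have h0 := hπ₀map (f' (⟨f, hf⟩ : {f // f ∈ F}))
    rw [hf'] at h0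
    rw [show π₀ f = _ from h0, Ideal.Quotient.eq_zero_iff_mem.mpr
      (show f' (⟨f, hf⟩ : {f // f ∈ F}) ∈ J₀ from Ideal.subset_span (Set.mem_range_self _)),
      TensorProduct.tmul_zero]
    exact zero_mem _
  · exact IsBaseChange.of_equiv (((isBaseChange_cokerMap g' g hg').equiv).trans
      eR) fun x => by
        simp only [LinearEquiv.trans_apply, IsBaseChange.equiv_tmul, one_smul]
        rfl
  · intro c x
    obtain ⟨c, rfl⟩ := Ideal.Quotient.mk_surjective c
    show e.symm (cokerMap g' g hg' (c • x)) = _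
    rw [hθC, cokerMap_smul, hsmul]
    rfl
  · haveI : (q.comap θC.toRingHom).IsPrime := Ideal.IsPrime.comap _
    rw [← flatAt_comap_iff (Ideal.Quotient.mk JC) Ideal.Quotient.mk_surjective (fun _ _ => rfl)]
    convert hflatT using 1
    ext z
    show θC (Ideal.Quotient.mk JC z) ∈ q ↔ πC (MvPolynomial.map (algebraMap A R) z) ∈ q
    rw [hθC]


/-- the fibrewise criterion of flatness -/
theorem flatAt_of_fibre {R B C M : Type u} [CommRing R] [CommRing B] [CommRing C] [Algebra R B]
    [Algebra B C] [Algebra R C] [IsScalarTower R B C] [Algebra.FiniteType R B]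
    [Algebra.FinitePresentation R C] [AddCommGroup M] [Module R M] [Module B M] [Module C M]
    [IsScalarTower R B M] [IsScalarTower R C M] [IsScalarTower B C M]
    [Module.FinitePresentation C M] (q : Ideal C) [q.IsPrime] (hR : FlatAt R M q)
    (hfib : FlatAtKilled B M (((q.comap (algebraMap R C))).map (algebraMap R B)) q) :
    FlatAt B M q := by
  classical
  let p := q.comap (algebraMap R C)
  obtain ⟨n, πB, hπB⟩ :=
    Algebra.FiniteType.iff_quotient_mvPolynomial''.mp (inferInstance : Algebra.FiniteType R B)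
  obtain ⟨m, πy, hπy, -⟩ := (inferInstance : Algebra.FinitePresentation R C).out
  let πC : (MvPolynomial (Fin n ⊕ Fin m) R) →ₐ[R] C := MvPolynomial.aeval
    (Sum.elim (fun i => algebraMap B C (πB (MvPolynomial.X i))) fun i => πy (MvPolynomial.X i))
  have hπC : Function.Surjective πC := fun c => by
    obtain ⟨z, rfl⟩ := hπy c
    refine ⟨MvPolynomial.rename Sum.inr z, ?_⟩
    rw [show πC (MvPolynomial.rename Sum.inr z) =
      (πC.comp (MvPolynomial.rename Sum.inr)) z from rfl]
    exact congrArg (fun g : MvPolynomial (Fin m) R →ₐ[R] C => g z)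
      (MvPolynomial.algHom_ext fun i => by simp [πC])
  have hπr : ∀ f, πC (MvPolynomial.rename Sum.inl f) = algebraMap B C (πB f) := fun f => by
    rw [show πC (MvPolynomial.rename Sum.inl f) = (πC.comp (MvPolynomial.rename Sum.inl)) f from rfl,
      show algebraMap B C (πB f) = ((IsScalarTower.toAlgHom R B C).comp πB) f from rfl]
    exact congrArg (fun g : MvPolynomial (Fin n) R →ₐ[R] C => g f)
      (MvPolynomial.algHom_ext fun i => by simp [πC])
  letI : Algebra (MvPolynomial (Fin n ⊕ Fin m) R) C := πC.toRingHom.toAlgebra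
  letI : Module (MvPolynomial (Fin n ⊕ Fin m) R) M := Module.compHom M πC.toRingHom
  haveI : IsScalarTower (MvPolynomial (Fin n ⊕ Fin m) R) C M := IsScalarTower.of_algebraMap_smul fun _ _ => rfl
  haveI : IsScalarTower R (MvPolynomial (Fin n ⊕ Fin m) R) M := IsScalarTower.of_algebraMap_smul fun r z => by
    show πC (algebraMap R _ r) • z = _
    rw [πC.commutes, algebraMap_smul]
  haveI : Module.FinitePresentation (MvPolynomial (Fin n ⊕ Fin m) R) C :=
    Module.finitePresentation_of_surjective (Algebra.linearMap (MvPolynomial (Fin n ⊕ Fin m) R) C) hπC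
      (Algebra.FinitePresentation.ker_fG_of_surjective πC hπC)
  haveI : Module.FinitePresentation (MvPolynomial (Fin n ⊕ Fin m) R) M := Module.FinitePresentation.trans (R := (MvPolynomial (Fin n ⊕ Fin m) R)) (M := M) C
  obtain ⟨N, K, e, hK⟩ := Module.FinitePresentation.exists_fin (MvPolynomial (Fin n ⊕ Fin m) R) M
  obtain ⟨k, g, rfl⟩ := Submodule.fg_iff_exists_fin_generating_family.mp hK
  let Q : Ideal (MvPolynomial (Fin n ⊕ Fin m) R) := q.comap πC.toRingHom
  have hQ : FlatAt R (Coker g) Q :=
    ((flatAt_comap_iff πC.toRingHom hπC (fun _ _ => rfl) q).mpr hR).of_linearEquiv e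
  obtain ⟨F, hF, hFt⟩ := exists_fg_torsion p (RingHom.ker πB.toRingHom)
  obtain ⟨T₁, hT₁⟩ := exists_flatAt_descent g Q hQ
  choose Tg hTg using fun l => exists_adjoin_vec (g l)
  choose Tf hTf using fun f : {f // f ∈ F} => exists_adjoin_poly f.1
  have hmem : ∀ (f : {f // f ∈ F}) (i : Fin N),
      Pi.single i (MvPolynomial.rename Sum.inl f.1) ∈ Submodule.span (MvPolynomial (Fin n ⊕ Fin m) R) (Set.range g) := by
    intro f i
    rw [← mul_one (MvPolynomial.rename Sum.inl f.1), ← smul_eq_mul, Pi.single_smul',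
      ← Submodule.Quotient.mk_eq_zero, Submodule.Quotient.mk_smul]
    refine e.symm.injective ?_
    rw [map_zero, map_smul]
    show πC (MvPolynomial.rename Sum.inl f.1) • e.symm _ = 0
    rw [hπr, show πB f.1 = 0 from hF f.2, map_zero, zero_smul]
  choose c hc using fun f i => (Submodule.mem_span_range_iff_exists_fun _).mp (hmem f i)
  choose Tc hTc using fun (a : ({f // f ∈ F} × Fin N) × Fin k) =>
    exists_adjoin_poly (c a.1.1 a.1.2 a.2)
  let T := T₁ ∪ Finset.univ.biUnion Tg ∪ Finset.univ.biUnion Tf ∪ Finset.univ.biUnion Tc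
  choose g' hg' using fun l => hTg l T fun x hx => by
    simp only [T, Finset.mem_union, Finset.mem_biUnion]
    exact Or.inl (Or.inl (Or.inr ⟨l, Finset.mem_univ l, hx⟩))
  choose f' hf' using fun f => hTf f T fun x hx => by
    simp only [T, Finset.mem_union, Finset.mem_biUnion]
    exact Or.inl (Or.inr ⟨f, Finset.mem_univ f, hx⟩)
  choose c' hc' using fun a => hTc a T fun x hx => by
    simp only [T, Finset.mem_union, Finset.mem_biUnion]
    exact Or.inr ⟨a, Finset.mem_univ a, hx⟩
  have hflatT := hT₁ T (fun x hx => by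
    simp only [T, Finset.mem_union]
    exact Or.inl (Or.inl (Or.inl hx))) g' hg'
  haveI := adj_isNoetherianRing T
  exact flatAt_of_presentation (A := adj T) (adjHom_injective T) πB hπB πC hπC hπr F
    (fun f hf => hF hf) f' hf' g e.toAddEquiv (fun z x => e.symm.map_smul z x) g' hg' c hc c' hc'
    q (fun j hj => hFt j hj) hflatT hfib

end main

end Groth.Agent.Flat.FibreCriterion
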