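import Groth.Agent.Flat.OpenLocus
import Mathlib.RingTheory.Ideal.MinimalPrime.Localization

/-!
Flatness of a module at a prime of a smaller coefficient ring.
-/

set_option autoImplicit false

noncomputable section

namespace Groth.Agent.Flat.FlatAtImage

universe u

open scoped TensorProduct
open Groth.Agent.Flat.FlatAt

variable {A B C M : Type u} [CommRing A] [CommRing B] [CommRing C] [Algebra A B] [Algebra A C]
  [Algebra B C] [IsScalarTower A B C] [AddCommGroup M] [Module A M] [Module B M] [Module C M]
  [IsScalarTower B C M] [IsScalarTower A B M] [IsScalarTower A C M]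

theorem flatAt_iff_forall_above (q : Ideal B) [q.IsPrime] :
    FlatAt A M q ↔
      ∀ y : Ideal C, y.IsPrime → y.comap (algebraMap B C) ≤ q → FlatAt A M y := by
  have key : ∀ {P : Type u} [AddCommGroup P] [Module A P] (b : B) (x : M ⊗[A] P),
      algebraMap B C b • x = b • x := fun b x => by
    induction x using TensorProduct.induction_on with
    | zero => simp
    | add a b ha hb => simp only [smul_add, ha, hb]
    | tmul m p => simp [TensorProduct.smul_tmul']
  constructor
  · intro h y _ hy P Q _ _ _ _ f hf x hx
    obtain ⟨s, hs, hs0⟩ := h f hf x hx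
    exact ⟨algebraMap B C s, fun h' => hs (hy h'), (key s x).trans hs0⟩
  · intro h P Q _ _ _ _ f hf x hx
    by_contra hne
    push Not at hne
    let ann : Ideal C := LinearMap.ker (LinearMap.toSpanSingleton C (M ⊗[A] P) x)
    have hd : Disjoint (ann : Set C)
        ((q.primeCompl.map (algebraMap B C) : Submonoid C) : Set C) := by
      refine Set.disjoint_right.mpr fun c hc hc' => ?_
      obtain ⟨b, hb, rfl⟩ := hc
      exact hne b hb ((key b x).symm.trans hc')
    obtain ⟨y, hy, hann, hdis⟩ := Ideal.exists_le_prime_disjoint _ _ hd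
    have hle : y.comap (algebraMap B C) ≤ q := fun b hb => by
      by_contra hbq
      exact Set.disjoint_left.mp hdis hb ⟨b, hbq, rfl⟩
    obtain ⟨s, hs, hs0⟩ := h y hy hle f hf x hx
    exact hs (hann hs0)

/-- openness of the locus where a module finitely presented over an fp algebra is flat -/
theorem isOpen_flatAt_image [Algebra.FinitePresentation A B] [Algebra.FinitePresentation B C]
    [Module.FinitePresentation C M] :
    IsOpen {q : PrimeSpectrum B | FlatAt A M q.asIdeal} := by
  haveI : Algebra.FinitePresentation A C := Algebra.FinitePresentation.trans A B C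
  have hU : IsOpen {y : PrimeSpectrum C | FlatAt A M y.asIdeal} := OpenLocus.isOpen_flatLocus
  obtain ⟨I, hI⟩ := (PrimeSpectrum.isClosed_iff_zeroLocus_ideal _).mp hU.isClosed_compl
  have hI' : ∀ y : PrimeSpectrum C, ¬ FlatAt A M y.asIdeal ↔ I ≤ y.asIdeal := fun y =>
    Set.ext_iff.mp hI y
  have heq : {q : PrimeSpectrum B | FlatAt A M q.asIdeal} =
      (PrimeSpectrum.zeroLocus (I.comap (algebraMap B C) : Set B))ᶜ := by
    refine Set.ext fun q => ⟨fun hq hle => ?_, fun hq => ?_⟩
    · obtain ⟨m, hm, hmq⟩ := Ideal.exists_minimalPrimes_le (J := q.asIdeal) hle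
      obtain ⟨y, hy, hIy, hym⟩ := Ideal.exists_comap_eq_of_mem_minimalPrimes _ m hm
      exact (hI' ⟨y, hy⟩).mpr hIy ((flatAt_iff_forall_above q.asIdeal).mp hq y hy (hym.le.trans hmq))
    · rw [Set.mem_setOf_eq, flatAt_iff_forall_above (C := C)]
      intro y hy hle
      by_contra hn
      exact hq fun b hb => hle ((hI' ⟨y, hy⟩).mp hn hb)
  rw [heq]
  exact (PrimeSpectrum.isClosed_zeroLocus _).isOpen_compl

end Groth.Agent.Flat.FlatAtImage
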