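import Groth.Agent.Flat.GlobalModel
import Mathlib.Algebra.Category.Ring.Constructions

/-!
Flat finitely presented algebras have flat models over finitely generated rings.
-/

set_option autoImplicit false

noncomputable section

namespace Groth.Agent.Flat.AlgebraModel

universe u

open scoped TensorProduct
open Descent OpenLocus GlobalModel CategoryTheory

section iso

variable {σ : Type} {A : Type u} [CommRing A] {B : Type u} [CommRing B] [Algebra A B]
  (π : MvPolynomial σ A →ₐ[A] B) (hπ : Function.Surjective π) {k : ℕ}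
  (g : Fin k → MvPolynomial σ A) (hker : RingHom.ker π.toRingHom = Ideal.span (Set.range g))

include hπ hker in
/-- a presented algebra as a cokernel -/
theorem exists_cokerEquiv :
    ∃ e : Coker (fun l (_ : Unit) => g l) ≃ₗ[A] B,
      ∀ v, e (Submodule.Quotient.mk v) = π (v ()) := by
  let N := Submodule.span (MvPolynomial σ A) (Set.range fun l (_ : Unit) => g l)
  let φ : (Unit → MvPolynomial σ A) →ₗ[A] B :=
    π.toLinearMap ∘ₗ LinearMap.proj ()
  have hN : N.restrictScalars A = LinearMap.ker φ := by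
    refine le_antisymm (fun v hv => ?_) fun v hv => ?_
    · rw [Submodule.restrictScalars_mem, Submodule.mem_span_range_iff_exists_fun] at hv
      obtain ⟨c, rfl⟩ := hv
      show π ((∑ l, c l • fun _ : Unit => g l) ()) = 0
      rw [Finset.sum_apply, map_sum]
      refine Finset.sum_eq_zero fun l _ => ?_
      show π (c l * g l) = 0
      rw [map_mul, show π (g l) = 0 from (hker.ge (Ideal.subset_span ⟨l, rfl⟩) :
        g l ∈ RingHom.ker π.toRingHom), mul_zero]
    · have h : v () ∈ Ideal.span (Set.range g) := hker.le hv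
      obtain ⟨c, hc⟩ := (Submodule.mem_span_range_iff_exists_fun _).mp h
      rw [Submodule.restrictScalars_mem, Submodule.mem_span_range_iff_exists_fun]
      exact ⟨c, funext fun _ => by rw [Finset.sum_apply]; exact hc⟩
  refine ⟨((Submodule.Quotient.restrictScalarsEquiv A N).symm.trans
    (Submodule.quotEquivOfEq _ _ hN)).trans (φ.quotKerEquivOfSurjective fun b => ?_), fun v => rfl⟩
  obtain ⟨z, rfl⟩ := hπ b
  exact ⟨fun _ => z, rfl⟩

end iso

/-- the model given by lifted equations -/
theorem exists_model_of_equations {σ : Type} [Finite σ] {A₀ A B : Type u} [CommRing A₀]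
    [CommRing A] [Algebra A₀ A] [CommRing B] [Algebra A B]
    (π : MvPolynomial σ A →ₐ[A] B) (hπ : Function.Surjective π) {k : ℕ}
    (g : Fin k → MvPolynomial σ A) (hker : RingHom.ker π.toRingHom = Ideal.span (Set.range g))
    (g' : Fin k → Unit → MvPolynomial σ A₀)
    (hg' : ∀ l, vmap (algebraMap A₀ A) (g' l) = fun _ => g l)
    (hflat : Module.Flat A₀ (Coker g')) :
    ∃ (B₀ : Type u) (_ : CommRing B₀) (_ : Algebra A₀ B₀) (j : B₀ →+* B),
      Algebra.FiniteType A₀ B₀ ∧ Module.Flat A₀ B₀ ∧
      IsPushout (CommRingCat.ofHom (algebraMap A₀ A)) (CommRingCat.ofHom (algebraMap A₀ B₀))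
        (CommRingCat.ofHom (algebraMap A B)) (CommRingCat.ofHom j) := by
  letI : Algebra A₀ B := ((algebraMap A B).comp (algebraMap A₀ A)).toAlgebra
  haveI : IsScalarTower A₀ A B := IsScalarTower.of_algebraMap_eq fun _ => rfl
  let g₀ : Fin k → MvPolynomial σ A₀ := fun l => g' l ()
  have hg₀ : g' = fun l (_ : Unit) => g₀ l := rfl
  let B₀ := MvPolynomial σ A₀ ⧸ Ideal.span (Set.range g₀)
  let π₀ : MvPolynomial σ A₀ →ₐ[A₀] B₀ := Ideal.Quotient.mkₐ A₀ _
  obtain ⟨e₀, he₀⟩ := exists_cokerEquiv π₀ Ideal.Quotient.mk_surjective g₀ Ideal.mk_ker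
  obtain ⟨e, he⟩ := exists_cokerEquiv π hπ g hker
  let ψ : MvPolynomial σ A₀ →ₐ[A₀] B :=
    (π.restrictScalars A₀).comp (MvPolynomial.mapAlgHom (Algebra.ofId A₀ A))
  have hψ : ∀ z, ψ z = π (MvPolynomial.map (algebraMap A₀ A) z) := fun z => rfl
  let j : B₀ →ₐ[A₀] B := Ideal.Quotient.liftₐ _ ψ fun z hz => by
    refine (show Ideal.span (Set.range g₀) ≤ RingHom.ker ψ.toRingHom from ?_) hz
    rw [Ideal.span_le]
    rintro _ ⟨l, rfl⟩
    show ψ (g₀ l) = 0
    rw [hψ, show MvPolynomial.map (algebraMap A₀ A) (g₀ l) = g l from congrFun (hg' l) ()]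
    exact (hker.ge (Ideal.subset_span ⟨l, rfl⟩) : g l ∈ RingHom.ker π.toRingHom)
  have hbc : IsBaseChange A j.toLinearMap := by
    refine IsBaseChange.of_equiv ((TensorProduct.AlgebraTensorModule.congr (LinearEquiv.refl A A)
      e₀.symm).trans (((isBaseChange_cokerMap g' (fun l _ => g l) hg').equiv).trans e)) fun x => ?_
    obtain ⟨x, rfl⟩ := e₀.surjective x
    obtain ⟨v, rfl⟩ := Submodule.mkQ_surjective _ x
    simp only [LinearEquiv.trans_apply, TensorProduct.AlgebraTensorModule.congr_tmul,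
      LinearEquiv.refl_apply, LinearEquiv.symm_apply_apply, IsBaseChange.equiv_tmul, one_smul,
      Submodule.mkQ_apply, cokerMap_mk, he, he₀]
    exact (congrArg (fun t => e (cokerMap g' (fun l _ => g l) hg' t))
      (e₀.symm_apply_eq.mpr (he₀ v).symm)).trans (he _)
  letI : Algebra B₀ B := j.toRingHom.toAlgebra
  haveI : IsScalarTower A₀ B₀ B := IsScalarTower.of_algebraMap_eq fun a => (j.commutes a).symm
  haveI : Algebra.IsPushout A₀ A B₀ B := ⟨hbc⟩
  refine ⟨B₀, inferInstance, inferInstance, j.toRingHom, inferInstance,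
    Module.Flat.of_linearEquiv e₀.symm, ?_⟩
  exact CommRingCat.isPushout_iff_isPushout.mpr inferInstance

/-- flat models of flat finitely presented algebras -/
theorem exists_flat_algebra_model (A B : Type u) [CommRing A] [CommRing B] [Algebra A B]
    [Algebra.FinitePresentation A B] [Module.Flat A B] :
    ∃ T : Finset A, ∀ T', T ⊆ T' →
      ∃ (B₀ : Type u) (_ : CommRing B₀) (_ : Algebra (adj T') B₀) (j : B₀ →+* B),
        Algebra.FiniteType (adj T') B₀ ∧ Module.Flat (adj T') B₀ ∧
        IsPushout (CommRingCat.ofHom (adjHom T')) (CommRingCat.ofHom (algebraMap (adj T') B₀))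
          (CommRingCat.ofHom (algebraMap A B)) (CommRingCat.ofHom j) := by
  obtain ⟨n, π, hπ, hfg⟩ := (inferInstance : Algebra.FinitePresentation A B).out
  obtain ⟨k, g, hg⟩ := Submodule.fg_iff_exists_fin_generating_family.mp hfg
  obtain ⟨e, -⟩ := exists_cokerEquiv π hπ g hg.symm
  obtain ⟨T, hT⟩ := exists_flat_model (fun l (_ : Unit) => g l) (Module.Flat.of_linearEquiv e)
  refine ⟨T, fun T' hT' => ?_⟩
  obtain ⟨g', hg', hflat⟩ := hT T' hT'
  exact exists_model_of_equations π hπ g hg.symm g' hg' hflat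

end Groth.Agent.Flat.AlgebraModel
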