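import Groth.Agent.Flat.Criteria
import Mathlib.RingTheory.Flat.Localization
import Mathlib.RingTheory.Localization.BaseChange
import Mathlib.RingTheory.Localization.Finiteness
import Mathlib.RingTheory.Localization.Submodule
import Mathlib.RingTheory.TensorProduct.IsBaseChangePi
import Mathlib.RingTheory.TensorProduct.MvPolynomial
import Mathlib.RingTheory.Ideal.Quotient.Operations
import Mathlib.LinearAlgebra.Basis.VectorSpace

/-!
Descent of flatness of finitely presented modules to Noetherian rings: the abstract step.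
-/

set_option autoImplicit false

noncomputable section

namespace Groth.Agent.Flat.Descent

universe u

open scoped TensorProduct
open Groth.Agent.Flat.LocalCriterion

section localized

variable {R S M L : Type u} [CommRing R] [CommRing S] [Algebra R S] [AddCommGroup M] [Module R M]
  [Module S M] [IsScalarTower R S M] [AddCommGroup L] [Module R L] [Module S L]
  [IsScalarTower R S L] (T : Submonoid S) (ℓ : M →ₗ[S] L) [IsLocalizedModule T ℓ]
  {P Q : Type u} [AddCommGroup P] [Module R P] [AddCommGroup Q] [Module R Q] (f : P →ₗ[R] Q)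

include ℓ in
theorem lTensor_localized_injective
    (h : ∀ x, f.lTensor M x = 0 → ∃ s ∈ T, s • x = 0) : Function.Injective (f.lTensor L) := by
  rw [injective_iff_map_eq_zero]
  intro y hy
  obtain ⟨⟨x, ⟨s, hs⟩⟩, hxy⟩ :=
    IsLocalizedModule.surj T (TensorProduct.AlgebraTensorModule.rTensor R P ℓ) y
  have h1 : TensorProduct.AlgebraTensorModule.rTensor R Q ℓ
      (TensorProduct.AlgebraTensorModule.lTensor S M f x) = 0 := by
    have e := LinearMap.congr_fun (IsLocalizedModule.map_lTensor S T f ℓ)
      (TensorProduct.AlgebraTensorModule.rTensor R P ℓ x)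
    rw [IsLocalizedModule.map_apply] at e
    rw [e, ← hxy, Submonoid.smul_def, map_smul]
    show s • f.lTensor L y = 0
    rw [hy, smul_zero]
  obtain ⟨⟨t, ht⟩, ht0⟩ := (IsLocalizedModule.eq_zero_iff T _).mp h1
  rw [Submonoid.smul_def, ← map_smul] at ht0
  obtain ⟨v, hv, hv0⟩ := h (t • x) ht0
  have h2 : (v * (t * s)) • y = 0 := by
    rw [mul_smul, mul_smul]
    rw [Submonoid.smul_def] at hxy
    rw [hxy, ← map_smul, ← map_smul, hv0, map_zero]
  refine ((Module.End.isUnit_iff _).mp (IsLocalizedModule.map_units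
    (TensorProduct.AlgebraTensorModule.rTensor R P ℓ)
    (⟨v * (t * s), T.mul_mem hv (T.mul_mem ht hs)⟩ : T))).injective ?_
  rw [map_zero]
  exact h2

include ℓ in
theorem exists_smul_eq_zero_of_injective (h : Function.Injective (f.lTensor L))
    {x : M ⊗[R] P} (hx : f.lTensor M x = 0) : ∃ s ∈ T, s • x = 0 := by
  have e := LinearMap.congr_fun (IsLocalizedModule.map_lTensor S T f ℓ)
    (TensorProduct.AlgebraTensorModule.rTensor R P ℓ x)
  rw [IsLocalizedModule.map_apply] at e
  have h1 : TensorProduct.AlgebraTensorModule.rTensor R P ℓ x = 0 := by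
    apply h
    rw [map_zero]
    refine e.symm.trans ?_
    show TensorProduct.AlgebraTensorModule.rTensor R Q ℓ (f.lTensor M x) = 0
    rw [hx, map_zero]
  obtain ⟨⟨s, hs⟩, hs0⟩ := (IsLocalizedModule.eq_zero_iff T _).mp h1
  exact ⟨s, hs, hs0⟩

end localized

/-- flatness of a base change from injectivity of tensors -/
theorem flat_baseChange_of_injective {R A L : Type u} [CommRing R] [CommRing A] [Algebra R A]
    [AddCommGroup L] [Module R L]
    (h : ∀ a : Ideal A, Function.Injective ((a.subtype.restrictScalars R).lTensor L)) :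
    Module.Flat A (A ⊗[R] L) := by
  rw [Module.Flat.iff_rTensor_injective']
  intro a x y hxy
  let e := fun (P : Type u) [AddCommGroup P] [Module A P] [Module R P] [IsScalarTower R A P] =>
    TensorProduct.AlgebraTensorModule.cancelBaseChange R A A P L
  have key : ∀ z, e A (a.subtype.rTensor (A ⊗[R] L) z) =
      (a.subtype.restrictScalars R).rTensor L (e a z) := fun z => by
    induction z using TensorProduct.induction_on with
    | zero => simp
    | add z w hz hw => simp only [map_add, hz, hw]
    | tmul b t =>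
      induction t using TensorProduct.induction_on with
      | zero => simp
      | add z w hz hw => simp only [TensorProduct.tmul_add, map_add, hz, hw]
      | tmul c l => simp [e]
  refine (e a).injective ((LinearMap.lTensor_inj_iff_rTensor_inj L _).mp (h a) ?_)
  rw [← key, ← key, hxy]

section step

variable {R₀ R₁ P : Type u} [CommRing R₀] [CommRing R₁] [CommRing P] [Algebra R₀ R₁]
  [Algebra R₁ P]
  {F₀ F : Type u} [AddCommGroup F₀] [Module R₀ F₀] [AddCommGroup F] [Module P F] [Module R₁ F]
  [Module R₀ F] [IsScalarTower R₁ P F] [IsScalarTower R₀ R₁ F]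

/-- elements of `N ∩ J F` are in `J N` up to an element outside `q` -/
theorem exists_smul_mem (p₀ : Ideal R₀) [p₀.IsMaximal] (q : Ideal P) [q.IsPrime]
    (N₀ : Submodule R₀ F₀) (j : F₀ →ₗ[R₀] F) (hj : IsBaseChange R₁ j) (N : Submodule P F)
    (hN : N.restrictScalars R₁ = Submodule.span R₁ (j '' N₀))
    (hkill : ∀ w ∈ N₀, w ∈ p₀ • (⊤ : Submodule R₀ F₀) → ∃ s ∈ q.primeCompl,
      s • j w ∈ p₀.map (algebraMap R₀ R₁) • N.restrictScalars R₁)
    {x : F} (hx : x ∈ N) (hxJ : x ∈ p₀.map (algebraMap R₀ R₁) • (⊤ : Submodule R₁ F)) :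
    ∃ t ∈ q.primeCompl, t • x ∈ p₀.map (algebraMap R₀ R₁) • N.restrictScalars R₁ := by
  classical
  let J := p₀.map (algebraMap R₀ R₁)
  let JN : Submodule R₁ F := J • N.restrictScalars R₁
  have hJN : ∀ (s : P) (y : F), y ∈ JN → s • y ∈ JN := fun s y hy => by
    refine Submodule.smul_induction_on hy (fun r hr n hn => ?_) (fun a b ha hb => ?_)
    · rw [smul_comm]; exact Submodule.smul_mem_smul hr (N.smul_mem s hn)
    · rw [smul_add]; exact add_mem ha hb
  let W : Submodule R₀ N₀ := (p₀ • (⊤ : Submodule R₀ F₀)).comap N₀.subtype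
  let ib : (↥N₀ ⧸ W) →ₗ[R₀] (F₀ ⧸ p₀ • (⊤ : Submodule R₀ F₀)) :=
    W.mapQ _ N₀.subtype le_rfl
  have hib : Function.Injective ib := by
    rw [injective_iff_map_eq_zero]
    intro z hz
    obtain ⟨z, rfl⟩ := Submodule.mkQ_surjective W z
    refine (Submodule.Quotient.mk_eq_zero W).mpr ?_
    show (z : F₀) ∈ p₀ • (⊤ : Submodule R₀ F₀)
    exact (Submodule.Quotient.mk_eq_zero _).mp hz
  -- split off over the residue field
  letI : Field (R₀ ⧸ p₀) := Ideal.Quotient.field p₀
  have hW : Module.IsTorsionBySet R₀ (↥N₀ ⧸ W) p₀ := fun z a => by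
    refine hib ?_
    rw [map_smul, map_zero]
    obtain ⟨y, hy⟩ := Submodule.mkQ_surjective _ (ib z)
    rw [← hy, ← map_smul]
    exact (Submodule.Quotient.mk_eq_zero _).mpr (Submodule.smul_mem_smul a.2 trivial)
  letI := hW.module
  haveI : IsScalarTower R₀ (R₀ ⧸ p₀) (↥N₀ ⧸ W) := hW.isScalarTower
  let ib' : (↥N₀ ⧸ W) →ₗ[R₀ ⧸ p₀] (F₀ ⧸ p₀ • (⊤ : Submodule R₀ F₀)) :=
    LinearMap.extendScalarsOfSurjective Ideal.Quotient.mk_surjective ib
  obtain ⟨r, hr⟩ := ib'.exists_leftInverse_of_injective (LinearMap.ker_eq_bot.mpr hib)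
  -- write x from the base change
  have hsurj : ∀ y ∈ N, ∃ ξ : R₁ ⊗[R₀] ↥N₀, hj.equiv (N₀.subtype.lTensor R₁ ξ) = y := fun y hy => by
    change y ∈ N.restrictScalars R₁ at hy
    rw [hN] at hy
    induction hy using Submodule.span_induction with
    | mem y hy =>
      obtain ⟨w, hw, rfl⟩ := hy
      exact ⟨1 ⊗ₜ ⟨w, hw⟩, by simp [IsBaseChange.equiv_tmul]⟩
    | zero => exact ⟨0, by simp⟩
    | add a b _ _ ha hb =>
      obtain ⟨ξ, rfl⟩ := ha
      obtain ⟨ζ, rfl⟩ := hb
      exact ⟨ξ + ζ, by simp⟩
    | smul c a _ ha =>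
      obtain ⟨ξ, rfl⟩ := ha
      refine ⟨c • ξ, ?_⟩
      rw [← LinearMap.baseChange_eq_ltensor, map_smul, map_smul]
  obtain ⟨ξ, hξ⟩ := hsurj x hx
  let π := (p₀ • (⊤ : Submodule R₀ F₀)).mkQ
  have hπ : π.lTensor R₁ (N₀.subtype.lTensor R₁ ξ) = 0 := by
    have hmem : hj.equiv.symm x ∈ J • (⊤ : Submodule R₁ (R₁ ⊗[R₀] F₀)) := by
      refine Submodule.smul_induction_on hxJ (fun a ha y _ => ?_) (fun a b ha hb => ?_)
      · rw [map_smul]; exact Submodule.smul_mem_smul ha trivial
      · rw [map_add]; exact add_mem ha hb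
    rw [← hξ, LinearEquiv.symm_apply_apply] at hmem
    have hzero : ∀ a ∈ J, ∀ z : R₁ ⊗[R₀] (F₀ ⧸ p₀ • (⊤ : Submodule R₀ F₀)), a • z = 0 := by
      intro a ha
      induction ha using Submodule.span_induction with
      | mem a ha =>
        obtain ⟨c, hc, rfl⟩ := ha
        intro z
        rw [algebraMap_smul]
        induction z using TensorProduct.induction_on with
        | zero => exact smul_zero _
        | add z w hz hw => rw [smul_add, hz, hw, add_zero]
        | tmul b v =>
          obtain ⟨v, rfl⟩ := Submodule.mkQ_surjective _ v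
          rw [← TensorProduct.tmul_smul, ← map_smul, Submodule.mkQ_apply,
            (Submodule.Quotient.mk_eq_zero (p₀ • (⊤ : Submodule R₀ F₀))).mpr
              (Submodule.smul_mem_smul hc (Submodule.mem_top (x := v))),
            TensorProduct.tmul_zero]
      | zero => intro z; exact zero_smul _ _
      | add a b _ _ ha hb => intro z; rw [add_smul, ha, hb, add_zero]
      | smul c a _ ha => intro z; rw [smul_assoc, ha, smul_zero]
    refine Submodule.smul_induction_on hmem (fun a ha y _ => ?_) (fun a b ha hb => ?_)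
    · rw [← LinearMap.baseChange_eq_ltensor, map_smul]
      exact hzero a ha _
    · rw [map_add, ha, hb, add_zero]
  have hξW : W.mkQ.lTensor R₁ ξ = 0 := by
    have h1 : ib.lTensor R₁ (W.mkQ.lTensor R₁ ξ) = 0 := by
      rw [← hπ, ← LinearMap.lTensor_comp_apply, ← LinearMap.lTensor_comp_apply]
      rfl
    have h2 : (r.restrictScalars R₀) ∘ₗ ib = LinearMap.id :=
      LinearMap.ext fun z => LinearMap.congr_fun hr z
    calc W.mkQ.lTensor R₁ ξ
        = ((r.restrictScalars R₀) ∘ₗ ib).lTensor R₁ (W.mkQ.lTensor R₁ ξ) := by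
          rw [h2, LinearMap.lTensor_id]; rfl
      _ = 0 := by rw [LinearMap.lTensor_comp_apply, h1, map_zero]
  obtain ⟨η, rfl⟩ :=
    (lTensor_exact R₁ (LinearMap.exact_subtype_mkQ W) (Submodule.mkQ_surjective W) ξ).mp hξW
  rw [← hξ]
  clear hξ hπ hξW hxJ hx x
  induction η using TensorProduct.induction_on with
  | zero => exact ⟨1, q.primeCompl.one_mem, by simp⟩
  | add a b ha hb =>
    obtain ⟨s, hs, hs'⟩ := ha
    obtain ⟨t, ht, ht'⟩ := hb
    refine ⟨s * t, q.primeCompl.mul_mem hs ht, ?_⟩
    rw [map_add, map_add, map_add, smul_add, mul_comm, mul_smul, mul_comm t, mul_smul]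
    exact add_mem (hJN _ _ hs') (hJN _ _ ht')
  | tmul a w =>
    obtain ⟨s, hs, hs'⟩ := hkill w.1 w.1.2 w.2
    refine ⟨s, hs, ?_⟩
    simp only [LinearMap.lTensor_tmul, IsBaseChange.equiv_tmul]
    rw [smul_comm]
    exact Submodule.smul_mem _ _ hs'

theorem smul_top_le_range (J : Ideal R₁) (N : Submodule P F) :
    ∀ x ∈ J • N.restrictScalars R₁, ∃ ζ : ↥N ⊗[R₁] J,
      TensorProduct.rid R₁ F (J.subtype.lTensor F
        ((N.subtype.restrictScalars R₁).rTensor J ζ)) = x := by
  intro x hx
  refine Submodule.smul_induction_on hx (fun r hr n hn => ⟨⟨n, hn⟩ ⊗ₜ ⟨r, hr⟩, by simp⟩)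
    (fun a b ha hb => ?_)
  obtain ⟨ζ, rfl⟩ := ha
  obtain ⟨ζ', rfl⟩ := hb
  exact ⟨ζ + ζ', by simp⟩

/-- The step: flatness of the localized quotient over the bigger Noetherian ring. -/
theorem flat_localized_step [IsNoetherianRing R₁] [IsNoetherianRing P] [Module.Finite P F]
    [Module.Flat R₁ F]
    (p₀ : Ideal R₀) [p₀.IsMaximal] (q : Ideal P) [q.IsPrime]
    (hq : (p₀.map (algebraMap R₀ R₁)).map (algebraMap R₁ P) ≤ q)
    (N₀ : Submodule R₀ F₀) (j : F₀ →ₗ[R₀] F) (hj : IsBaseChange R₁ j) (N : Submodule P F)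
    (hN : N.restrictScalars R₁ = Submodule.span R₁ (j '' N₀))
    (hkill : ∀ w ∈ N₀, w ∈ p₀ • (⊤ : Submodule R₀ F₀) → ∃ s ∈ q.primeCompl,
      s • j w ∈ p₀.map (algebraMap R₀ R₁) • N.restrictScalars R₁) :
    Module.Flat R₁ (LocalizedModule q.primeCompl (F ⧸ N)) := by
  classical
  let J := p₀.map (algebraMap R₀ R₁)
  let Sq := Localization q.primeCompl
  let L := LocalizedModule q.primeCompl (F ⧸ N)
  let ℓ : (F ⧸ N) →ₗ[P] L := LocalizedModule.mkLinearMap q.primeCompl (F ⧸ N)
  haveI : Module.Finite Sq L := Module.Finite.of_isLocalizedModule q.primeCompl ℓ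
  haveI : IsNoetherianRing Sq := IsLocalization.isNoetherianRing q.primeCompl Sq inferInstance
  have hI : J.map (algebraMap R₁ Sq) ≤ Ideal.jacobson ⊥ := by
    refine le_trans ?_ (IsLocalRing.maximalIdeal_le_jacobson _)
    rw [IsScalarTower.algebraMap_eq R₁ P Sq, ← Ideal.map_map]
    refine (Ideal.map_mono hq).trans ?_
    rw [Localization.AtPrime.map_eq_maximalIdeal]
  refine Criteria.local_criterion (S := Sq) J hI ?_ ?_
  · rw [← LinearMap.lTensor_inj_iff_rTensor_inj]
    refine lTensor_localized_injective q.primeCompl ℓ J.subtype fun ξ hξ => ?_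
    let mk : F →ₗ[P] F ⧸ N := N.mkQ
    obtain ⟨η, rfl⟩ := LinearMap.rTensor_surjective J
      (g := mk.restrictScalars R₁) (Submodule.mkQ_surjective N) ξ
    let x : F := TensorProduct.rid R₁ F (J.subtype.lTensor F η)
    have hxN : x ∈ N := by
      rw [← Submodule.Quotient.mk_eq_zero]
      have : ∀ η', mk (TensorProduct.rid R₁ F (J.subtype.lTensor F η')) =
          TensorProduct.rid R₁ (F ⧸ N)
            (J.subtype.lTensor (F ⧸ N) ((mk.restrictScalars R₁).rTensor J η')) := fun η' => by
        induction η' using TensorProduct.induction_on with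
        | zero => simp
        | add a b ha hb => simp only [map_add, ha, hb]
        | tmul a r => simp [mk]
      exact (this η).trans (by rw [hξ, map_zero])
    have hxJ : x ∈ J • (⊤ : Submodule R₁ F) := by
      show TensorProduct.rid R₁ F (J.subtype.lTensor F η) ∈ _
      clear hxN hξ x
      induction η using TensorProduct.induction_on with
      | zero => simp
      | add a b ha hb => rw [map_add, map_add]; exact add_mem ha hb
      | tmul a r => simpa using Submodule.smul_mem_smul r.2 (Submodule.mem_top (x := a))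
    obtain ⟨t, ht, htx⟩ := exists_smul_mem p₀ q N₀ j hj N hN hkill hxN hxJ
    obtain ⟨ζ, hζ⟩ := smul_top_le_range J N _ htx
    have htη : (N.subtype.restrictScalars R₁).rTensor J ζ = t • η := by
      refine Module.Flat.lTensor_preserves_injective_linearMap (M := F) J.subtype
        (Submodule.injective_subtype J) ((TensorProduct.rid R₁ F).injective ?_)
      rw [hζ]
      show t • x = _
      clear hζ htx hxN hxJ hξ
      show t • TensorProduct.rid R₁ F (J.subtype.lTensor F η) = _
      induction η using TensorProduct.induction_on with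
      | zero => simp
      | add a b ha hb => simp only [map_add, smul_add, ha, hb]
      | tmul a r =>
        simp only [TensorProduct.smul_tmul', LinearMap.lTensor_tmul, TensorProduct.rid_tmul]
        exact smul_comm _ _ _
    refine ⟨t, ht, ?_⟩
    show t • TensorProduct.AlgebraTensorModule.rTensor R₁ J mk η = 0
    rw [← map_smul, ← htη]
    show (mk.restrictScalars R₁).rTensor J ((N.subtype.restrictScalars R₁).rTensor J ζ) = 0
    rw [← LinearMap.rTensor_comp_apply,
      show mk.restrictScalars R₁ ∘ₗ N.subtype.restrictScalars R₁ = 0 from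
        LinearMap.ext fun n => (Submodule.Quotient.mk_eq_zero N).mpr n.2]
    simp
  · have hflat : Module.Flat (R₁ ⧸ J) ((R₁ ⧸ J) ⊗[R₁] (F ⧸ N)) := by
      -- the quotient is the base change of `F₀ ⧸ N₀`
      let Φ : F →ₗ[R₁] R₁ ⊗[R₀] (F₀ ⧸ N₀) :=
        N₀.mkQ.baseChange R₁ ∘ₗ hj.equiv.symm.toLinearMap
      have hΦs : Function.Surjective Φ :=
        (LinearMap.lTensor_surjective R₁ (Submodule.mkQ_surjective N₀)).comp
          hj.equiv.symm.surjective
      have hΦk : LinearMap.ker Φ = N.restrictScalars R₁ := by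
        rw [hN]
        refine le_antisymm (fun y hy => ?_) (Submodule.span_le.mpr ?_)
        · obtain ⟨η, hη⟩ := (lTensor_exact R₁ (LinearMap.exact_subtype_mkQ N₀)
            (Submodule.mkQ_surjective N₀) (hj.equiv.symm y)).mp hy
          have hy' : y = hj.equiv (N₀.subtype.lTensor R₁ η) := by
            rw [hη, LinearEquiv.apply_symm_apply]
          rw [hy']
          clear hη hy' hy y
          induction η using TensorProduct.induction_on with
          | zero => simp
          | add a b ha hb => rw [map_add, map_add]; exact add_mem ha hb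
          | tmul a w =>
            rw [LinearMap.lTensor_tmul, IsBaseChange.equiv_tmul]
            exact Submodule.smul_mem _ _ (Submodule.subset_span ⟨w, w.2, rfl⟩)
        · rintro _ ⟨w, hw, rfl⟩
          simp [Φ, IsBaseChange.equiv_symm_apply, (Submodule.Quotient.mk_eq_zero N₀).mpr hw]
      let e : (F ⧸ N) ≃ₗ[R₁] R₁ ⊗[R₀] (F₀ ⧸ N₀) :=
        (Submodule.quotEquivOfEq _ _ hΦk.symm).trans (Φ.quotKerEquivOfSurjective hΦs)
      letI : Field (R₀ ⧸ p₀) := Ideal.Quotient.field p₀
      letI : Algebra (R₀ ⧸ p₀) (R₁ ⧸ J) :=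
        (Ideal.quotientMap J (algebraMap R₀ R₁) Ideal.le_comap_map).toAlgebra
      haveI : IsScalarTower R₀ (R₀ ⧸ p₀) (R₁ ⧸ J) := IsScalarTower.of_algebraMap_eq fun _ => rfl
      exact Module.Flat.of_linearEquiv
        (((TensorProduct.AlgebraTensorModule.congr (LinearEquiv.refl (R₁ ⧸ J) (R₁ ⧸ J)) e).trans
          (TensorProduct.AlgebraTensorModule.cancelBaseChange R₀ R₁ (R₁ ⧸ J) (R₁ ⧸ J)
            (F₀ ⧸ N₀))).trans
          (TensorProduct.AlgebraTensorModule.cancelBaseChange R₀ (R₀ ⧸ p₀) (R₁ ⧸ J) (R₁ ⧸ J)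
            (F₀ ⧸ N₀)).symm)
    refine flat_baseChange_of_injective fun a => ?_
    refine lTensor_localized_injective q.primeCompl ℓ _ fun z hz => ⟨1, q.primeCompl.one_mem, ?_⟩
    rw [one_smul]
    refine LocalCriterion.lTensor_restrictScalars_injective hflat a.subtype
      (Submodule.injective_subtype a) ?_
    rw [map_zero]
    exact hz

end step

/-- extracting relations from flatness of the localization -/
theorem exists_smul_mem_of_flat {R P F : Type u} [CommRing R] [CommRing P] [Algebra R P]
    [AddCommGroup F] [Module P F] [Module R F] [IsScalarTower R P F] (N : Submodule P F)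
    (q : Ideal P) [q.IsPrime] [Module.Flat R (LocalizedModule q.primeCompl (F ⧸ N))]
    (J : Ideal R) {x : F} (hx : x ∈ N) (hxJ : x ∈ J • (⊤ : Submodule R F)) :
    ∃ t ∈ q.primeCompl, t • x ∈ J • N.restrictScalars R := by
  obtain ⟨η, rfl⟩ : ∃ η : F ⊗[R] J, TensorProduct.rid R F (J.subtype.lTensor F η) = x := by
    refine Submodule.smul_induction_on hxJ (fun r hr a _ => ⟨a ⊗ₜ ⟨r, hr⟩, by simp⟩)
      (fun a b ha hb => ?_)
    obtain ⟨η, rfl⟩ := ha
    obtain ⟨η', rfl⟩ := hb
    exact ⟨η + η', by simp⟩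
  let mk : F →ₗ[P] F ⧸ N := N.mkQ
  have hcomm : ∀ η' : F ⊗[R] J, mk (TensorProduct.rid R F (J.subtype.lTensor F η')) =
      TensorProduct.rid R (F ⧸ N)
        (J.subtype.lTensor (F ⧸ N) ((mk.restrictScalars R).rTensor J η')) := fun η' => by
    induction η' using TensorProduct.induction_on with
    | zero => simp
    | add a b ha hb => simp only [map_add, ha, hb]
    | tmul a r => simp [mk]
  have h0 : J.subtype.lTensor (F ⧸ N) ((mk.restrictScalars R).rTensor J η) = 0 := by
    refine (TensorProduct.rid R (F ⧸ N)).injective ?_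
    rw [← hcomm, map_zero]
    exact (Submodule.Quotient.mk_eq_zero N).mpr hx
  obtain ⟨t, ht, ht0⟩ := exists_smul_eq_zero_of_injective q.primeCompl
    (LocalizedModule.mkLinearMap q.primeCompl (F ⧸ N)) J.subtype
    (Module.Flat.lTensor_preserves_injective_linearMap _ (Submodule.injective_subtype J)) h0
  refine ⟨t, ht, ?_⟩
  have h1 : (mk.restrictScalars R).rTensor J (t • η) = 0 := by
    show TensorProduct.AlgebraTensorModule.rTensor R J mk (t • η) = 0
    rw [map_smul]
    exact ht0
  obtain ⟨ζ, hζ⟩ := (rTensor_exact J (f := N.subtype.restrictScalars R) (g := mk.restrictScalars R)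
    (LinearMap.exact_subtype_mkQ N) (Submodule.mkQ_surjective N) (t • η)).mp h1
  have h2 : t • TensorProduct.rid R F (J.subtype.lTensor F η) =
      TensorProduct.rid R F (J.subtype.lTensor F (t • η)) := by
    clear hζ h1 ht0 h0 hx hxJ
    induction η using TensorProduct.induction_on with
    | zero => simp
    | add a b ha hb => simp only [map_add, smul_add, ha, hb]
    | tmul a r =>
      simp only [TensorProduct.smul_tmul', LinearMap.lTensor_tmul, TensorProduct.rid_tmul]
      exact smul_comm _ _ _
  rw [h2, ← hζ]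
  clear h2 hζ h1 ht0 h0 hx hxJ
  induction ζ using TensorProduct.induction_on with
  | zero => simp
  | add a b ha hb => simp only [map_add]; exact add_mem ha hb
  | tmul n r =>
    simp only [LinearMap.rTensor_tmul, LinearMap.lTensor_tmul, TensorProduct.rid_tmul]
    exact Submodule.smul_mem_smul (I := J) (N := N.restrictScalars R) r.2
      (show (n : F) ∈ N.restrictScalars R from n.2)

section descent

variable {R : Type u} [CommRing R]

/-- elements of a finitely generated subring that are units in `R` -/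
abbrev locM (T : Finset R) : Submonoid (Algebra.adjoin ℤ (T : Set R)) :=
  (IsUnit.submonoid R).comap (Algebra.adjoin ℤ (T : Set R)).val.toRingHom

theorem locM_units (T : Finset R) (y : locM T) :
    IsUnit ((Algebra.adjoin ℤ (T : Set R)).val.toRingHom y) := y.2

theorem mem_range_lift {T : Finset R} {a : R} :
    a ∈ (IsLocalization.lift (M := locM T) (S := Localization (locM T)) (locM_units T)).range ↔ ∃ x ∈ Algebra.adjoin ℤ (T : Set R), ∃ y ∈ Algebra.adjoin ℤ (T : Set R),
      IsUnit y ∧ a * y = x := by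
  constructor
  · rintro ⟨z, rfl⟩
    obtain ⟨⟨x, y⟩, h⟩ := IsLocalization.surj (locM T) z
    refine ⟨x, x.2, y.1, y.1.2, y.2, ?_⟩
    have := congrArg (IsLocalization.lift (locM_units T)) h
    rw [map_mul, IsLocalization.lift_eq, IsLocalization.lift_eq] at this
    exact this
  · rintro ⟨x, hx, y, hy, hu, h⟩
    refine ⟨IsLocalization.mk' _ (⟨x, hx⟩ : Algebra.adjoin ℤ (T : Set R))
      (⟨⟨y, hy⟩, hu⟩ : locM T), ?_⟩
    rw [IsLocalization.lift_mk'_spec]
    show x = y * a
    rw [mul_comm, h]

/-- finitely generated subring, localized at the units of `R` -/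
def loc (T : Finset R) : Subring R :=
  (IsLocalization.lift (M := locM T) (S := Localization (locM T)) (locM_units T)).range.copy
    {a | ∃ x ∈ Algebra.adjoin ℤ (T : Set R), ∃ y ∈ Algebra.adjoin ℤ (T : Set R),
      IsUnit y ∧ a * y = x}
    (Set.ext fun _ => mem_range_lift.symm)

theorem mem_loc {T : Finset R} {a : R} :
    a ∈ loc T ↔ ∃ x ∈ Algebra.adjoin ℤ (T : Set R), ∃ y ∈ Algebra.adjoin ℤ (T : Set R),
      IsUnit y ∧ a * y = x := Iff.rfl

theorem subset_loc (T : Finset R) {a : R} (ha : a ∈ T) : a ∈ loc T :=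
  mem_loc.mpr ⟨a, Algebra.subset_adjoin ha, 1, one_mem _, isUnit_one, mul_one a⟩

theorem loc_mono {T T' : Finset R} (h : T ⊆ T') : loc T ≤ loc T' := fun a ha => by
  obtain ⟨x, hx, y, hy, hu, he⟩ := mem_loc.mp ha
  have hle := Algebra.adjoin_mono (R := ℤ) (Finset.coe_subset.mpr h)
  exact mem_loc.mpr ⟨x, hle hx, y, hle hy, hu, he⟩

instance isNoetherianRing_loc (T : Finset R) : IsNoetherianRing (loc T) := by
  haveI : Algebra.FiniteType ℤ (Algebra.adjoin ℤ (T : Set R)) :=
    (Algebra.adjoin ℤ (T : Set R)).fg_iff_finiteType.mp (Subalgebra.fg_adjoin_finset T)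
  haveI : IsNoetherianRing (Algebra.adjoin ℤ (T : Set R)) :=
    Algebra.FiniteType.isNoetherianRing ℤ _
  haveI := IsLocalization.isNoetherianRing (locM T) (Localization (locM T)) inferInstance
  rw [show loc T = (IsLocalization.lift (M := locM T) (S := Localization (locM T))
    (locM_units T)).range from SetLike.ext fun _ => mem_range_lift.symm]
  exact isNoetherianRing_range _

theorem isUnit_loc {T : Finset R} {a : loc T} (h : IsUnit (a : R)) : IsUnit a := by
  obtain ⟨x, hx, y, hy, hu, he⟩ := mem_loc.mp a.2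
  have hxu : IsUnit x := he ▸ h.mul hu
  have hinv : (↑h.unit⁻¹ : R) ∈ loc T := mem_loc.mpr ⟨y, hy, x, hx, hxu, by
    rw [← he, ← mul_assoc, IsUnit.val_inv_mul, one_mul]⟩
  exact IsUnit.of_mul_eq_one ⟨_, hinv⟩ (Subtype.ext h.mul_val_inv)

instance isMaximal_comap_loc [IsLocalRing R] (T : Finset R) :
    ((IsLocalRing.maximalIdeal R).comap (loc T).subtype).IsMaximal := by
  rw [Ideal.isMaximal_iff]
  refine ⟨fun h => (IsLocalRing.maximalIdeal.isMaximal R).ne_top
    ((Ideal.eq_top_iff_one _).mpr h), fun J a _ ha hJ => ?_⟩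
  have hu : IsUnit a := isUnit_loc (IsLocalRing.notMem_maximalIdeal.mp ha)
  exact (Ideal.eq_top_iff_one J).mp (J.eq_top_of_isUnit_mem hJ hu)

variable {σ : Type} {ι : Type}

/-- coefficientwise map of vectors -/
def vmap {A B : Type u} [CommRing A] [CommRing B] (φ : A →+* B)
    (v : ι → MvPolynomial σ A) : ι → MvPolynomial σ B := fun i => MvPolynomial.map φ (v i)

theorem vmap_injective {A B : Type u} [CommRing A] [CommRing B] {φ : A →+* B}
    (h : Function.Injective φ) : Function.Injective (vmap (σ := σ) (ι := ι) φ) :=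
  fun _ _ e => funext fun i => MvPolynomial.map_injective φ h (congrFun e i)

theorem vmap_vmap {A B C : Type u} [CommRing A] [CommRing B] [CommRing C] (φ : A →+* B)
    (ψ : B →+* C) (v : ι → MvPolynomial σ A) : vmap ψ (vmap φ v) = vmap (ψ.comp φ) v :=
  funext fun i => MvPolynomial.map_map φ ψ (v i)

theorem vmap_add {A B : Type u} [CommRing A] [CommRing B] (φ : A →+* B)
    (v w : ι → MvPolynomial σ A) : vmap φ (v + w) = vmap φ v + vmap φ w :=
  funext fun _ => map_add _ _ _

theorem vmap_smul {A B : Type u} [CommRing A] [CommRing B] (φ : A →+* B) (c : MvPolynomial σ A)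
    (v : ι → MvPolynomial σ A) : vmap φ (c • v) = MvPolynomial.map φ c • vmap φ v :=
  funext fun _ => map_mul _ _ _

theorem vmap_smul_sum {A B : Type u} [CommRing A] [CommRing B] (φ : A →+* B) {k : ℕ} (a : A)
    (c : Fin k → MvPolynomial σ A) (v : Fin k → ι → MvPolynomial σ A) :
    vmap φ (a • ∑ l, c l • v l) = φ a • ∑ l, MvPolynomial.map φ (c l) • vmap φ (v l) := by
  funext i
  simp only [vmap, Pi.smul_apply, Finset.sum_apply, smul_eq_mul, MvPolynomial.smul_eq_C_mul,
    map_mul, map_sum, MvPolynomial.map_C]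

theorem subtype_comp_inclusion {s t : Subring R} (h : s ≤ t) :
    t.subtype.comp (Subring.inclusion h) = s.subtype := rfl

theorem exists_finset_poly (p : MvPolynomial σ R) :
    ∃ T : Finset R, ∀ T', T ⊆ T' → ∃ p' : MvPolynomial σ (loc T'),
      MvPolynomial.map (loc T').subtype p' = p := by
  classical
  induction p using MvPolynomial.induction_on with
  | C r =>
    exact ⟨{r}, fun T' hT => ⟨MvPolynomial.C ⟨r, subset_loc T' (hT (Finset.mem_singleton_self r))⟩,
      MvPolynomial.map_C _ _⟩⟩
  | add a b ha hb =>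
    obtain ⟨T, hT⟩ := ha
    obtain ⟨S, hS⟩ := hb
    refine ⟨T ∪ S, fun T' h => ?_⟩
    obtain ⟨a', rfl⟩ := hT T' ((Finset.subset_union_left).trans h)
    obtain ⟨b', rfl⟩ := hS T' ((Finset.subset_union_right).trans h)
    exact ⟨a' + b', map_add _ _ _⟩
  | mul_X a i ha =>
    obtain ⟨T, hT⟩ := ha
    refine ⟨T, fun T' h => ?_⟩
    obtain ⟨a', rfl⟩ := hT T' h
    exact ⟨a' * MvPolynomial.X i, by rw [map_mul, MvPolynomial.map_X]⟩

theorem exists_finset_vec [Finite ι] (v : ι → MvPolynomial σ R) :
    ∃ T : Finset R, ∀ T', T ⊆ T' → ∃ v' : ι → MvPolynomial σ (loc T'),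
      vmap (loc T').subtype v' = v := by
  classical
  haveI := Fintype.ofFinite ι
  choose T hT using fun i => exists_finset_poly (v i)
  refine ⟨Finset.univ.biUnion T, fun T' h => ?_⟩
  choose v' hv' using fun i => hT i T'
    ((Finset.subset_biUnion_of_mem T (Finset.mem_univ i)).trans h)
  exact ⟨v', funext hv'⟩

theorem exists_finset_mem [Finite ι] {T₀ : Finset R} {k : ℕ}
    (g : Fin k → ι → MvPolynomial σ R) (p₀ : Ideal (loc T₀)) {x : ι → MvPolynomial σ R}
    (hx : x ∈ p₀.map (loc T₀).subtype •
      (Submodule.span (MvPolynomial σ R) (Set.range g)).restrictScalars R) :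
    ∃ T : Finset R, ∀ T' (hT : T₀ ⊆ T'),
      T ⊆ T' → ∀ g' : Fin k → ι → MvPolynomial σ (loc T'),
        (∀ l, vmap (loc T').subtype (g' l) = g l) →
        ∃ x', vmap (loc T').subtype x' = x ∧
          x' ∈ p₀.map (Subring.inclusion (loc_mono hT)) •
            (Submodule.span (MvPolynomial σ (loc T')) (Set.range g')).restrictScalars (loc T') := by
  classical
  let Good : (ι → MvPolynomial σ R) → Prop := fun x => ∃ T : Finset R, ∀ T' (hT : T₀ ⊆ T'),
    T ⊆ T' → ∀ g' : Fin k → ι → MvPolynomial σ (loc T'),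
      (∀ l, vmap (loc T').subtype (g' l) = g l) →
      ∃ x', vmap (loc T').subtype x' = x ∧
        x' ∈ p₀.map (Subring.inclusion (loc_mono hT)) •
          (Submodule.span (MvPolynomial σ (loc T')) (Set.range g')).restrictScalars (loc T')
  show Good x
  have hadd : ∀ a b, Good a → Good b → Good (a + b) := by
    rintro a b ⟨T, hT⟩ ⟨S, hS⟩
    refine ⟨T ∪ S, fun T' h0 h g' hg' => ?_⟩
    obtain ⟨a', rfl, ha⟩ := hT T' h0 (Finset.subset_union_left.trans h) g' hg'
    obtain ⟨b', rfl, hb⟩ := hS T' h0 (Finset.subset_union_right.trans h) g' hg'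
    exact ⟨a' + b', vmap_add _ _ _, add_mem ha hb⟩
  have h0 : Good 0 := ⟨∅, fun T' _ _ g' _ => ⟨0, funext fun i => map_zero _, zero_mem _⟩⟩
  refine Submodule.smul_induction_on hx (fun r hr n hn => ?_) hadd
  change n ∈ Submodule.span (MvPolynomial σ R) (Set.range g) at hn
  clear hx
  induction hr using Submodule.span_induction generalizing n with
  | mem r hr =>
    obtain ⟨a, ha, rfl⟩ := hr
    obtain ⟨c, hc⟩ := (Submodule.mem_span_range_iff_exists_fun _).mp hn
    choose Tc hTc using fun l => exists_finset_poly (c l)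
    refine ⟨Finset.univ.biUnion Tc, fun T' h0' h g' hg' => ?_⟩
    choose c' hc' using fun l => hTc l T'
      ((Finset.subset_biUnion_of_mem Tc (Finset.mem_univ l)).trans h)
    refine ⟨Subring.inclusion (loc_mono h0') a • ∑ l, c' l • g' l, ?_,
      Submodule.smul_mem_smul (Ideal.mem_map_of_mem _ ha)
        (show ∑ l, c' l • g' l ∈ (Submodule.span (MvPolynomial σ (loc T')) (Set.range g')).restrictScalars
          (loc T') from Submodule.sum_mem (Submodule.span _ (Set.range g')) fun l _ =>
            Submodule.smul_mem _ _ (Submodule.subset_span (Set.mem_range_self l)))⟩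
    have e : (loc T').subtype (Subring.inclusion (loc_mono h0') a) = (loc T₀).subtype a :=
      RingHom.congr_fun (subtype_comp_inclusion (loc_mono h0')) a
    rw [vmap_smul_sum, e, ← hc]
    simp only [hc', hg']
  | zero => rw [zero_smul]; exact h0
  | add a b _ _ ha hb => rw [add_smul]; exact hadd _ _ (ha n hn) (hb n hn)
  | smul d a _ ha =>
    rw [smul_eq_mul, mul_comm, mul_smul]
    exact ha (d • n) (Submodule.smul_mem
      ((Submodule.span (MvPolynomial σ R) (Set.range g)).restrictScalars R) d hn)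

theorem vmap_mem_smul_top {A B : Type u} [CommRing A] [CommRing B] (φ : A →+* B) (p₀ : Ideal A)
    {v : ι → MvPolynomial σ A}
    (hv : v ∈ p₀.map (MvPolynomial.C : A →+* MvPolynomial σ A) •
      (⊤ : Submodule (MvPolynomial σ A) (ι → MvPolynomial σ A))) :
    vmap φ v ∈ p₀.map φ • (⊤ : Submodule B (ι → MvPolynomial σ B)) := by
  refine Submodule.smul_induction_on hv (fun c hc u _ => ?_) (fun a b ha hb => ?_)
  · rw [vmap_smul]
    induction hc using Submodule.span_induction generalizing u with
    | mem c hc =>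
      obtain ⟨a, ha, rfl⟩ := hc
      rw [MvPolynomial.map_C, ← MvPolynomial.algebraMap_eq, algebraMap_smul]
      exact Submodule.smul_mem_smul (Ideal.mem_map_of_mem _ ha) trivial
    | zero => rw [map_zero, zero_smul]; exact zero_mem _
    | add a b _ _ ha hb => rw [map_add, add_smul]; exact add_mem (ha u trivial) (hb u trivial)
    | smul d a _ ha =>
      rw [smul_eq_mul, map_mul, mul_comm, mul_smul, ← vmap_smul]
      exact ha (d • u) trivial
  · rw [vmap_add]; exact add_mem ha hb

theorem vmap_mem_span {A B : Type u} [CommRing A] [CommRing B] (φ : A →+* B) {k : ℕ}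
    (g₀ : Fin k → ι → MvPolynomial σ A) (g : Fin k → ι → MvPolynomial σ B)
    (hg : ∀ l, vmap φ (g₀ l) = g l) {v : ι → MvPolynomial σ A}
    (hv : v ∈ Submodule.span (MvPolynomial σ A) (Set.range g₀)) :
    vmap φ v ∈ Submodule.span (MvPolynomial σ B) (Set.range g) := by
  induction hv using Submodule.span_induction with
  | mem v hv => obtain ⟨l, rfl⟩ := hv; rw [hg]; exact Submodule.subset_span ⟨l, rfl⟩
  | zero =>
    rw [show vmap φ (0 : ι → MvPolynomial σ A) = 0 from funext fun i => map_zero _]
    exact zero_mem _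
  | add a b _ _ ha hb => rw [vmap_add]; exact add_mem ha hb
  | smul c a _ ha => rw [vmap_smul]; exact Submodule.smul_mem _ _ ha

/-- `vmap` along an algebra map, as a linear map -/
def vecMap (A B : Type u) [CommRing A] [CommRing B] [Algebra A B] :
    (ι → MvPolynomial σ A) →ₗ[A] (ι → MvPolynomial σ B) :=
  (MvPolynomial.mapAlgHom (Algebra.ofId A B)).toLinearMap.compLeft ι

theorem vecMap_apply {A B : Type u} [CommRing A] [CommRing B] [Algebra A B]
    (v : ι → MvPolynomial σ A) : vecMap A B v = vmap (algebraMap A B) v := rfl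

theorem isBaseChange_vecMap [Finite ι] (A B : Type u) [CommRing A] [CommRing B] [Algebra A B] :
    IsBaseChange B (vecMap (σ := σ) (ι := ι) A B) :=
  IsBaseChange.finitePow ι (IsBaseChange.of_equiv
    (MvPolynomial.algebraTensorAlgEquiv A B).toLinearEquiv fun x => by simp)

theorem span_restrictScalars_eq {A B : Type u} [CommRing A] [CommRing B] [Algebra A B] {k : ℕ}
    (g₀ : Fin k → ι → MvPolynomial σ A) (g : Fin k → ι → MvPolynomial σ B)
    (hg : ∀ l, vmap (algebraMap A B) (g₀ l) = g l) :
    (Submodule.span (MvPolynomial σ B) (Set.range g)).restrictScalars B =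
      Submodule.span B (vecMap A B '' (((Submodule.span (MvPolynomial σ A) (Set.range g₀)
        ).restrictScalars A : Submodule A _) : Set (ι → MvPolynomial σ A))) := by
  refine le_antisymm ?_ (Submodule.span_le.mpr ?_)
  · let X := Submodule.span B (vecMap A B '' (((Submodule.span (MvPolynomial σ A) (Set.range g₀)
      ).restrictScalars A : Submodule A _) : Set (ι → MvPolynomial σ A)))
    have hX : ∀ (c : MvPolynomial σ B) (v : ι → MvPolynomial σ B), v ∈ X → c • v ∈ X := fun c => by
      induction c using MvPolynomial.induction_on with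
      | C r =>
        intro v hv
        rw [← MvPolynomial.algebraMap_eq, algebraMap_smul]
        exact X.smul_mem r hv
      | add a b ha hb => intro v hv; rw [add_smul]; exact X.add_mem (ha v hv) (hb v hv)
      | mul_X a i ha =>
        intro v hv
        rw [mul_smul]
        refine ha _ ?_
        induction hv using Submodule.span_induction with
        | mem v hv =>
          obtain ⟨u, hu, rfl⟩ := hv
          refine Submodule.subset_span ⟨(MvPolynomial.X i : MvPolynomial σ A) • u,
            (Submodule.span (MvPolynomial σ A) (Set.range g₀)).smul_mem _ hu, ?_⟩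
          rw [vecMap_apply, vecMap_apply, vmap_smul, MvPolynomial.map_X]
        | zero => rw [smul_zero]; exact X.zero_mem
        | add a b _ _ ha hb => rw [smul_add]; exact X.add_mem ha hb
        | smul r a _ ha => rw [smul_comm]; exact X.smul_mem r ha
    intro v hv
    change v ∈ Submodule.span (MvPolynomial σ B) (Set.range g) at hv
    induction hv using Submodule.span_induction with
    | mem v hv =>
      obtain ⟨l, rfl⟩ := hv
      exact Submodule.subset_span ⟨g₀ l, Submodule.subset_span (Set.mem_range_self l), hg l⟩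
    | zero => exact X.zero_mem
    | add a b _ _ ha hb => exact X.add_mem ha hb
    | smul c a _ ha => exact hX c a ha
  · rintro _ ⟨v, hv, rfl⟩
    exact vmap_mem_span _ g₀ g hg hv

/-- the step, in terms of generators -/
theorem flat_of_relations {A B : Type u} [CommRing A] [CommRing B] [Algebra A B]
    [IsNoetherianRing B] [Finite σ] [Finite ι] {k m : ℕ} (p₀ : Ideal A) [p₀.IsMaximal]
    (q : Ideal (MvPolynomial σ B)) [q.IsPrime]
    (hq : (p₀.map (algebraMap A B)).map (algebraMap B (MvPolynomial σ B)) ≤ q)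
    (g₀ : Fin k → ι → MvPolynomial σ A) (g : Fin k → ι → MvPolynomial σ B)
    (hg : ∀ l, vmap (algebraMap A B) (g₀ l) = g l) (w : Fin m → ι → MvPolynomial σ A)
    (hw : Submodule.span (MvPolynomial σ A) (Set.range w) =
      Submodule.span (MvPolynomial σ A) (Set.range g₀) ⊓
        (p₀.map (MvPolynomial.C : A →+* MvPolynomial σ A) • ⊤))
    (s : Fin m → MvPolynomial σ B) (hs : ∀ l, s l ∉ q)
    (hsw : ∀ l, s l • vmap (algebraMap A B) (w l) ∈ p₀.map (algebraMap A B) •
      (Submodule.span (MvPolynomial σ B) (Set.range g)).restrictScalars B) :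
    Module.Flat B (LocalizedModule q.primeCompl
      ((ι → MvPolynomial σ B) ⧸ Submodule.span (MvPolynomial σ B) (Set.range g))) := by
  classical
  refine flat_localized_step p₀ q hq
    ((Submodule.span (MvPolynomial σ A) (Set.range g₀)).restrictScalars A) (vecMap A B)
    (isBaseChange_vecMap A B) _ (span_restrictScalars_eq g₀ g hg) fun v hvN hvp => ?_
  refine ⟨∏ l, s l, Submonoid.prod_mem _ fun l _ => hs l, ?_⟩
  have hvW : v ∈ Submodule.span (MvPolynomial σ A) (Set.range w) := by
    rw [hw]
    refine ⟨hvN, Submodule.smul_induction_on hvp (fun a ha u _ => ?_)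
      (fun a b ha hb => add_mem ha hb)⟩
    rw [← algebraMap_smul (MvPolynomial σ A) a u, MvPolynomial.algebraMap_eq]
    exact Submodule.smul_mem_smul (Ideal.mem_map_of_mem _ ha) trivial
  clear hvN hvp
  let Z := p₀.map (algebraMap A B) •
    (Submodule.span (MvPolynomial σ B) (Set.range g)).restrictScalars B
  have hZ : ∀ (c : MvPolynomial σ B) (y : ι → MvPolynomial σ B), y ∈ Z → c • y ∈ Z := by
    intro c y hy
    refine Submodule.smul_induction_on hy (fun r hr n hn => ?_) (fun a b ha hb => ?_)
    · rw [smul_comm]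
      exact Submodule.smul_mem_smul hr
        ((Submodule.span (MvPolynomial σ B) (Set.range g)).smul_mem c hn)
    · rw [smul_add]; exact Z.add_mem ha hb
  show (∏ l, s l) • vecMap A B v ∈ Z
  induction hvW using Submodule.span_induction with
  | mem v hv =>
    obtain ⟨l, rfl⟩ := hv
    obtain ⟨d, hd⟩ := Finset.dvd_prod_of_mem s (Finset.mem_univ l)
    rw [hd, mul_comm, mul_smul]
    exact hZ _ _ (hsw l)
  | zero => rw [map_zero, smul_zero]; exact Z.zero_mem
  | add a b _ _ ha hb => rw [map_add, smul_add]; exact Z.add_mem ha hb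
  | smul c a _ ha =>
    rw [vecMap_apply, vmap_smul, smul_comm, ← vecMap_apply]
    exact hZ _ _ ha

/-- Descent of flatness to a Noetherian subring. -/
theorem exists_flat_descent [IsLocalRing R] [Finite σ] [Finite ι] {k : ℕ}
    (g : Fin k → ι → MvPolynomial σ R) (q : Ideal (MvPolynomial σ R)) [q.IsPrime]
    (hq : (IsLocalRing.maximalIdeal R).map MvPolynomial.C ≤ q)
    (hflat : Module.Flat R (LocalizedModule q.primeCompl
      ((ι → MvPolynomial σ R) ⧸ Submodule.span (MvPolynomial σ R) (Set.range g)))) :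
    ∃ T : Finset R, ∀ T', T ⊆ T' → ∀ g' : Fin k → ι → MvPolynomial σ (loc T'),
      (∀ l, vmap (loc T').subtype (g' l) = g l) →
      haveI : (q.comap (MvPolynomial.map (loc T').subtype)).IsPrime := Ideal.IsPrime.comap _
      Module.Flat (loc T')
        (LocalizedModule (q.comap (MvPolynomial.map (loc T').subtype)).primeCompl
          ((ι → MvPolynomial σ (loc T')) ⧸
            Submodule.span (MvPolynomial σ (loc T')) (Set.range g'))) := by
  classical
  choose Tg hTg using fun l => exists_finset_vec (g l)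
  obtain ⟨T₀, hT₀⟩ : ∃ T₀ : Finset R, ∀ l, Tg l ⊆ T₀ :=
    ⟨Finset.univ.biUnion Tg, fun l => Finset.subset_biUnion_of_mem Tg (Finset.mem_univ l)⟩
  choose g₀ hg₀ using fun l => hTg l T₀ (hT₀ l)
  let p₀ := (IsLocalRing.maximalIdeal R).comap (loc T₀).subtype
  obtain ⟨m, w, hw⟩ := Submodule.fg_iff_exists_fin_generating_family.mp
    (IsNoetherian.noetherian (Submodule.span (MvPolynomial σ (loc T₀)) (Set.range g₀) ⊓
      (p₀.map (MvPolynomial.C : _ →+* MvPolynomial σ (loc T₀)) • ⊤)))
  have hwW : ∀ l, w l ∈ Submodule.span (MvPolynomial σ (loc T₀)) (Set.range g₀) ⊓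
      (p₀.map (MvPolynomial.C : _ →+* MvPolynomial σ (loc T₀)) • ⊤) :=
    fun l => hw ▸ Submodule.subset_span (Set.mem_range_self l)
  haveI := hflat
  choose s hs hsmem using fun l => exists_smul_mem_of_flat
    (Submodule.span (MvPolynomial σ R) (Set.range g)) q (p₀.map (loc T₀).subtype)
    (vmap_mem_span _ g₀ g hg₀ (hwW l).1) (vmap_mem_smul_top _ p₀ (hwW l).2)
  choose Ts hTs using fun l => exists_finset_poly (s l)
  choose Tl hTl using fun l => exists_finset_mem g p₀ (hsmem l)
  refine ⟨T₀ ∪ (Finset.univ.biUnion Ts ∪ Finset.univ.biUnion Tl), fun T' hT g' hg' => ?_⟩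
  rw [Finset.union_subset_iff, Finset.union_subset_iff, Finset.biUnion_subset,
    Finset.biUnion_subset] at hT
  obtain ⟨hT0, hTs', hTl'⟩ := hT
  choose s' hs' using fun l => hTs l T' (hTs' l (Finset.mem_univ l))
  letI : Algebra (loc T₀) (loc T') := (Subring.inclusion (loc_mono hT0)).toAlgebra
  haveI : (q.comap (MvPolynomial.map (loc T').subtype)).IsPrime := Ideal.IsPrime.comap _
  have hcomp : (loc T').subtype.comp (algebraMap (loc T₀) (loc T')) = (loc T₀).subtype :=
    subtype_comp_inclusion (loc_mono hT0)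
  haveI : p₀.IsMaximal := isMaximal_comap_loc T₀
  refine flat_of_relations p₀ _ ?_ g₀ g'
    (fun l => vmap_injective (loc T').subtype_injective (by rw [vmap_vmap, hcomp, hg₀, hg']))
    w hw s' (fun l => ?_) (fun l => ?_)
  · rw [Ideal.map_le_iff_le_comap, Ideal.map_le_iff_le_comap]
    intro a ha
    show MvPolynomial.map (loc T').subtype
      (MvPolynomial.C (algebraMap (loc T₀) (loc T') a)) ∈ q
    rw [MvPolynomial.map_C, show (loc T').subtype (algebraMap (loc T₀) (loc T') a) =
      (loc T₀).subtype a from RingHom.congr_fun hcomp a]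
    exact hq (Ideal.mem_map_of_mem _ ha)
  · show MvPolynomial.map (loc T').subtype (s' l) ∉ q
    rw [hs']; exact hs l
  · obtain ⟨x', hx', hxmem⟩ := hTl l T' hT0 (hTl' l (Finset.mem_univ l)) g' hg'
    have he : s' l • vmap (algebraMap (loc T₀) (loc T')) (w l) = x' :=
      vmap_injective (loc T').subtype_injective (by
        rw [vmap_smul, vmap_vmap, hcomp, hs', hx'])
    rw [he]
    exact hxmem

end descent

end Groth.Agent.Flat.Descent
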