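import Mathlib.RingTheory.Flat.Stability
import Mathlib.RingTheory.LocalRing.Module
import Mathlib.LinearAlgebra.TensorProduct.Quotient
import Mathlib.RingTheory.Ideal.Quotient.Operations
import Mathlib.LinearAlgebra.DirectSum.Finsupp
import Mathlib.RingTheory.Jacobson.Semiprimary

/-!
Lifting free modules along nilpotent ideals, and the ideal of their relations.
-/

set_option autoImplicit false

noncomputable section

namespace Groth.Agent.Flat.FreeLift

universe u

open scoped TensorProduct

variable {A : Type u} [CommRing A]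

theorem mem_smul_top_of_tmul_eq_zero {P : Type u} [AddCommGroup P] [Module A P] (J : Ideal A)
    {p : P} (h : (1 : A ⧸ J) ⊗ₜ[A] p = 0) : p ∈ J • (⊤ : Submodule A P) := by
  have e := TensorProduct.quotTensorEquivQuotSMul_mk_tmul J (1 : A) p
  rw [one_smul, map_one, h, map_zero, eq_comm, Submodule.Quotient.mk_eq_zero] at e
  exact e

theorem tmul_eq_zero_of_mem {P : Type u} [AddCommGroup P] [Module A P] (J : Ideal A)
    {p : P} (h : p ∈ J • (⊤ : Submodule A P)) : (1 : A ⧸ J) ⊗ₜ[A] p = 0 := by
  refine (TensorProduct.quotTensorEquivQuotSMul P J).injective ?_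
  have e := TensorProduct.quotTensorEquivQuotSMul_mk_tmul J (1 : A) p
  rw [one_smul, map_one, (Submodule.Quotient.mk_eq_zero _).mpr h] at e
  rw [e, map_zero]

theorem ker_eq_bot_of_flat {F N : Type u} [AddCommGroup F] [Module A F] [Module.Flat A F]
    [AddCommGroup N] [Module A N] [Module.Flat A N] (u : F →ₗ[A] N) (hu : Function.Surjective u)
    (J : Ideal A) (hJ : IsNilpotent J) (h : LinearMap.ker u ≤ J • (⊤ : Submodule A F)) :
    LinearMap.ker u = ⊥ := by
  let L := LinearMap.ker u
  have hinj : Function.Injective (L.subtype.lTensor (A ⧸ J)) :=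
    lTensor_injective_of_exact_of_exact_of_rTensor_injective (M₂ := A)
      (f₁ := J.subtype) (f₂ := J.mkQ) (g₁ := L.subtype) (g₂ := u)
      (LinearMap.exact_subtype_mkQ J) (Submodule.mkQ_surjective J)
      (LinearMap.exact_subtype_ker_map u) hu
      (Module.Flat.rTensor_preserves_injective_linearMap _ (Submodule.injective_subtype _))
      (Module.Flat.lTensor_preserves_injective_linearMap _ (Submodule.injective_subtype _))
  have step : L ≤ J • L := by
    intro l hl
    have h0 : (1 : A ⧸ J) ⊗ₜ[A] (⟨l, hl⟩ : L) = 0 := by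
      refine hinj ?_
      rw [LinearMap.lTensor_tmul, map_zero]
      exact tmul_eq_zero_of_mem J (h hl)
    have h1 := Submodule.mem_map_of_mem (f := L.subtype) (mem_smul_top_of_tmul_eq_zero J h0)
    rwa [Submodule.map_smul'', Submodule.map_subtype_top] at h1
  obtain ⟨n, hn⟩ := hJ
  have hpow : ∀ k, L ≤ J ^ k • L := by
    intro k
    induction k with
    | zero => simp
    | succ k ih =>
      rw [pow_succ, ← smul_eq_mul, Submodule.smul_assoc]
      exact ih.trans (Submodule.smul_mono le_rfl step)
  refine le_bot_iff.mp ((hpow n).trans ?_)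
  rw [hn, Ideal.zero_eq_bot, Submodule.bot_smul]

theorem eq_top_of_sup_smul {P : Type u} [AddCommGroup P] [Module A P] (J : Ideal A)
    (hJ : IsNilpotent J) {N : Submodule A P} (h : ⊤ ≤ N ⊔ J • (⊤ : Submodule A P)) : N = ⊤ := by
  obtain ⟨n, hn⟩ := hJ
  have hpow : ∀ k, (⊤ : Submodule A P) ≤ N ⊔ J ^ k • (⊤ : Submodule A P) := by
    intro k
    induction k with
    | zero => simp
    | succ k ih =>
      refine ih.trans (sup_le le_sup_left ?_)
      refine (Submodule.smul_mono le_rfl h).trans ?_
      rw [Submodule.smul_sup, ← Submodule.smul_assoc, smul_eq_mul, ← pow_succ]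
      exact sup_le_sup Submodule.smul_le_right le_rfl
  have := hpow n
  rw [hn, Ideal.zero_eq_bot, Submodule.bot_smul, sup_bot_eq] at this
  exact top_le_iff.mp this

set_option maxHeartbeats 1000000 in
theorem exists_relation_ideal (M : Type u) [AddCommGroup M] [Module A M] (J : Ideal A)
    (hJ : IsNilpotent J) (hfree : Module.Free (A ⧸ J) ((A ⧸ J) ⊗[A] M)) :
    ∃ R₀ : Ideal A, ∀ (A' : Type u) [CommRing A'] [Algebra A A'],
      (Ideal.map (algebraMap A A') R₀ = ⊥ → Module.Free A' (A' ⊗[A] M)) ∧
      (Module.Flat A' (A' ⊗[A] M) → Ideal.map (algebraMap A A') R₀ = ⊥) := by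
  let ι := Module.Free.ChooseBasisIndex (A ⧸ J) ((A ⧸ J) ⊗[A] M)
  let b := Module.Free.chooseBasis (A ⧸ J) ((A ⧸ J) ⊗[A] M)
  choose v hv using fun i =>
    TensorProduct.mk_surjective A M (A ⧸ J) Ideal.Quotient.mk_surjective (b i)
  let u : (ι →₀ A) →ₗ[A] M := Finsupp.linearCombination A v
  have hu1 : ∀ c : ι →₀ A, (1 : A ⧸ J) ⊗ₜ[A] u c =
      Finsupp.linearCombination (A ⧸ J) b
        (Finsupp.mapRange (Ideal.Quotient.mk J) (map_zero _) c) := by
    intro c
    induction c using Finsupp.induction_linear with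
    | zero => simp
    | add p q hp hq =>
      rw [map_add, TensorProduct.tmul_add, hp, hq, Finsupp.mapRange_add (by simp), map_add]
    | single i s =>
      show (1 : A ⧸ J) ⊗ₜ[A] Finsupp.linearCombination A v (Finsupp.single i s) = _
      rw [Finsupp.mapRange_single, Finsupp.linearCombination_single,
        Finsupp.linearCombination_single, ← hv i, TensorProduct.mk_apply, TensorProduct.tmul_smul,
        TensorProduct.smul_tmul', TensorProduct.smul_tmul', smul_eq_mul, mul_one,
        Algebra.smul_def, mul_one, Ideal.Quotient.algebraMap_eq]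
  have hsurj : Function.Surjective u := by
    rw [← LinearMap.range_eq_top]
    refine eq_top_of_sup_smul J hJ fun x _ => ?_
    obtain ⟨c, hc⟩ := Finsupp.mapRange_surjective (Ideal.Quotient.mk J) (map_zero _)
      Ideal.Quotient.mk_surjective (b.repr ((1 : A ⧸ J) ⊗ₜ[A] x))
    have h0 : (1 : A ⧸ J) ⊗ₜ[A] (x - u c) = 0 := by
      rw [TensorProduct.tmul_sub, hu1, hc, b.linearCombination_repr, sub_self]
    have hxe : x = u c + (x - u c) := by abel
    rw [hxe]
    exact add_mem (Submodule.mem_sup_left ⟨c, rfl⟩)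
      (Submodule.mem_sup_right (mem_smul_top_of_tmul_eq_zero J h0))
  have hker : ∀ c ∈ LinearMap.ker u, ∀ i, c i ∈ J := by
    intro c hc i
    have h0 : (1 : A ⧸ J) ⊗ₜ[A] u c = 0 := by
      rw [LinearMap.mem_ker.mp hc, TensorProduct.tmul_zero]
    rw [hu1] at h0
    have := DFunLike.congr_fun (linearIndependent_iff.mp b.linearIndependent _ h0) i
    exact Ideal.Quotient.eq_zero_iff_mem.mp (by simpa using this)
  refine ⟨Ideal.span {a | ∃ c ∈ LinearMap.ker u, ∃ i, c i = a}, fun A' _ _ => ?_⟩
  let u' := u.baseChange A'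
  have hu' : Function.Surjective u' := LinearMap.lTensor_surjective A' hsurj
  have hK : Function.Exact (LinearMap.ker u).subtype u := LinearMap.exact_subtype_ker_map u
  have hex : Function.Exact ((LinearMap.ker u).subtype.lTensor A') u' :=
    lTensor_exact (M := ↥(LinearMap.ker u)) (N := ι →₀ A) (P := M) A' hK hsurj
  have expand : ∀ (a : A') (c : ι →₀ A), a ⊗ₜ[A] c =
      c.sum fun i r => (algebraMap A A' r) • (a ⊗ₜ[A] (Finsupp.single i (1 : A))) := by
    intro a c
    conv_lhs => rw [← Finsupp.sum_single c, Finsupp.sum, TensorProduct.tmul_sum]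
    refine Finset.sum_congr rfl fun i _ => ?_
    show a ⊗ₜ[A] Finsupp.single i (c i) =
      (algebraMap A A' (c i)) • (a ⊗ₜ[A] (Finsupp.single i (1 : A)))
    rw [TensorProduct.smul_tmul', smul_eq_mul, ← Algebra.smul_def, TensorProduct.smul_tmul,
      Finsupp.smul_single, smul_eq_mul, mul_one]
  constructor
  · intro h
    have hz : ∀ c ∈ LinearMap.ker u, ∀ i, algebraMap A A' (c i) = 0 := fun c hc i => by
      rw [← Ideal.mem_bot, ← h]
      exact Ideal.mem_map_of_mem _ (Ideal.subset_span ⟨c, hc, i, rfl⟩)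
    have hinj : Function.Injective u' := by
      rw [injective_iff_map_eq_zero]
      intro x hx
      obtain ⟨y, rfl⟩ := (hex x).mp hx
      clear hx
      induction y using TensorProduct.induction_on with
      | zero => simp
      | add p q hp hq => rw [map_add, hp, hq, add_zero]
      | tmul a c =>
        rw [LinearMap.lTensor_tmul, expand, Finsupp.sum]
        refine Finset.sum_eq_zero fun i _ => ?_
        rw [show algebraMap A A' (((LinearMap.ker u).subtype c) i) = 0 from hz _ c.2 i, zero_smul]
    exact Module.Free.of_equiv (LinearEquiv.ofBijective u' ⟨hinj, hu'⟩)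
  · intro h
    have hJ' : IsNilpotent (J.map (algebraMap A A')) := by
      obtain ⟨n, hn⟩ := hJ
      exact ⟨n, by rw [← Ideal.map_pow, hn, Ideal.zero_eq_bot, Ideal.map_bot]; rfl⟩
    have hle : LinearMap.ker u' ≤ J.map (algebraMap A A') • ⊤ := by
      intro x hx
      obtain ⟨y, rfl⟩ := (hex x).mp hx
      clear hx
      induction y using TensorProduct.induction_on with
      | zero => simp
      | add p q hp hq => rw [map_add]; exact add_mem hp hq
      | tmul a c =>
        rw [LinearMap.lTensor_tmul, expand]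
        exact Submodule.sum_mem _ fun i _ =>
          Submodule.smul_mem_smul (Ideal.mem_map_of_mem _ (hker _ c.2 i)) trivial
    have h0 := ker_eq_bot_of_flat u' hu' _ hJ' hle
    rw [Ideal.map_eq_bot_iff_le_ker, Ideal.span_le]
    rintro _ ⟨c, hc, i, rfl⟩
    have hc0 : (1 : A') ⊗ₜ[A] c = 0 := by
      rw [← Submodule.mem_bot A', ← h0, LinearMap.mem_ker, LinearMap.baseChange_tmul,
        LinearMap.mem_ker.mp hc, TensorProduct.tmul_zero]
    classical
    have := congrArg (fun t => TensorProduct.finsuppScalarRight A A A' ι t i) hc0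
    simpa [Algebra.smul_def] using this

theorem free_of_forall_free {ι : Type u} (B : ι → Type u) [∀ i, CommRing (B i)]
    [∀ i, Algebra A (B i)] (hB : ∀ a : A, (∀ i, algebraMap A (B i) a = 0) → a = 0)
    (M : Type u) [AddCommGroup M] [Module A M] (J : Ideal A) (hJ : IsNilpotent J)
    (hfree : Module.Free (A ⧸ J) ((A ⧸ J) ⊗[A] M))
    (hflat : ∀ i, Module.Flat (B i) (B i ⊗[A] M)) : Module.Free A M := by
  obtain ⟨R₀, hR⟩ := exists_relation_ideal M J hJ hfree
  have h0 : R₀ = ⊥ := by
    rw [Submodule.eq_bot_iff]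
    intro a ha
    refine hB a fun i => ?_
    rw [← Ideal.mem_bot, ← (hR (B i)).2 (hflat i)]
    exact Ideal.mem_map_of_mem _ ha
  haveI := (hR A).1 (by rw [h0, Ideal.map_bot])
  exact Module.Free.of_equiv (TensorProduct.lid A M)

theorem flat_of_family [Finite (MaximalSpectrum A)] (hnil : IsNilpotent (Ring.jacobson A))
    {ι : Type u} (B : ι → Type u) [∀ i, CommRing (B i)] [∀ i, Algebra A (B i)]
    (hB : ∀ a : A, (∀ i, algebraMap A (B i) a = 0) → a = 0)
    (M : Type u) [AddCommGroup M] [Module A M]
    (hflat : ∀ i, Module.Flat (B i) (B i ⊗[A] M)) : Module.Flat A M := by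
  classical
  haveI := Fintype.ofFinite (MaximalSpectrum A)
  obtain ⟨n, hn⟩ := hnil
  let P : MaximalSpectrum A → Ideal A := fun m => m.asIdeal ^ n
  have hco : Pairwise (Function.onFun IsCoprime P) := fun m m' hne =>
    (Ideal.isCoprime_of_isMaximal fun e => hne (MaximalSpectrum.ext e)).pow
  have hbot : ∀ a : A, (∀ m, a ∈ P m) → a = 0 := by
    intro a ha
    have hmem : a ∈ ∏ m, P m := by
      rw [Ideal.prod_eq_iInf_of_pairwise_isCoprime fun m _ m' _ hne => hco hne]
      simp [Submodule.mem_iInf, ha]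
    rw [show ∏ m, P m = (∏ m : MaximalSpectrum A, m.asIdeal) ^ n from Finset.prod_pow _ n _] at hmem
    have hle : (∏ m : MaximalSpectrum A, m.asIdeal) ≤ Ring.jacobson A := by
      rw [Ring.jacobson_eq_sInf_isMaximal]
      refine le_sInf fun K hK => ?_
      exact Ideal.prod_le_inf.trans
        (Finset.inf_le (f := fun m : MaximalSpectrum A => m.asIdeal)
          (Finset.mem_univ (⟨K, hK⟩ : MaximalSpectrum A)))
    have h1 := Ideal.pow_right_mono hle n hmem
    rwa [hn] at h1
  choose e he using fun m : MaximalSpectrum A =>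
    Ideal.quotientInfToPiQuotient_surj hco (Pi.single m 1)
  choose e' he' using fun m => Ideal.Quotient.mk_surjective (e m)
  have hmk : ∀ m m', Ideal.Quotient.mk (P m') (e' m) =
      (Pi.single m 1 : ∀ j, A ⧸ P j) m' := fun m m' => by
    rw [← he m, ← he' m, Ideal.quotientInfToPiQuotient_mk']
  have hkill : ∀ m, ∀ x ∈ P m, e' m * x = 0 := by
    intro m x hx
    refine hbot _ fun m' => ?_
    by_cases h : m' = m
    · subst h; exact Ideal.mul_mem_left _ _ hx
    · refine Ideal.mul_mem_right _ _ (Ideal.Quotient.eq_zero_iff_mem.mp ?_)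
      rw [hmk, Pi.single_eq_of_ne h]
  have hsum : ∑ m, e' m = 1 := by
    rw [← sub_eq_zero]
    refine hbot _ fun m' => Ideal.Quotient.eq_zero_iff_mem.mp ?_
    rw [map_sub, map_sum, map_one, Finset.sum_eq_single m'
      (fun m _ h => by rw [hmk, Pi.single_eq_of_ne (Ne.symm h)]) (by simp), hmk,
      Pi.single_eq_same, sub_self]
  let j : ∀ m, A ⧸ P m →ₗ[A] A := fun m =>
    (P m).liftQ (LinearMap.mulLeft A (e' m)) fun x hx => hkill m x hx
  have hAflat : ∀ m, Module.Flat A (A ⧸ P m) := fun m =>
    Module.Flat.of_retract (j m) (P m).mkQ (by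
      refine LinearMap.ext fun x => ?_
      obtain ⟨x, rfl⟩ := Ideal.Quotient.mk_surjective x
      show Ideal.Quotient.mk (P m) (e' m * x) = Ideal.Quotient.mk (P m) x
      rw [map_mul, hmk, Pi.single_eq_same, one_mul])
  have hMflat : ∀ m, Module.Flat (A ⧸ P m) ((A ⧸ P m) ⊗[A] M) := by
    intro m
    let J : Ideal (A ⧸ P m) := m.asIdeal.map (Ideal.Quotient.mk (P m))
    have hJ : IsNilpotent J := ⟨n, by rw [← Ideal.map_pow, Ideal.map_quotient_self]; rfl⟩
    rcases eq_or_ne J ⊤ with htop | htop
    · haveI : Subsingleton (A ⧸ P m) := by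
        obtain ⟨k, hk⟩ := hJ
        rw [htop, Ideal.top_pow] at hk
        exact subsingleton_iff_zero_eq_one.mp
          (Ideal.mem_bot.mp (hk.le (Submodule.mem_top (x := (1 : A ⧸ P m))))).symm
      haveI := Module.subsingleton (A ⧸ P m) ((A ⧸ P m) ⊗[A] M)
      infer_instance
    haveI : J.IsMaximal :=
      (Ideal.map_eq_top_or_isMaximal_of_surjective _ Ideal.Quotient.mk_surjective
        m.isMaximal).resolve_left htop
    have hfree : Module.Free ((A ⧸ P m) ⧸ J) (((A ⧸ P m) ⧸ J) ⊗[A ⧸ P m] ((A ⧸ P m) ⊗[A] M)) := by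
      letI := Ideal.Quotient.field J
      exact Module.Free.of_divisionRing _ _
    have hF : Module.Free (A ⧸ P m) ((A ⧸ P m) ⊗[A] M) := by
      refine free_of_forall_free (fun i => B i ⧸ (P m).map (algebraMap A (B i))) ?_ _ J hJ hfree ?_
      · intro a ha
        obtain ⟨a, rfl⟩ := Ideal.Quotient.mk_surjective a
        rw [Ideal.Quotient.eq_zero_iff_mem]
        have h0 : e' m * a = 0 := by
          refine hB _ fun i => ?_
          have hi : algebraMap A (B i) a ∈ (P m).map (algebraMap A (B i)) :=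
            Ideal.Quotient.eq_zero_iff_mem.mp (ha i)
          rw [map_mul]
          refine Submodule.span_induction ?_ ?_ ?_ ?_ hi (p := fun x _ => algebraMap A (B i) (e' m) * x = 0)
          · rintro _ ⟨x, hx, rfl⟩
            rw [← map_mul, hkill m x hx, map_zero]
          · rw [mul_zero]
          · intro x y _ _ hx hy; rw [mul_add, hx, hy, add_zero]
          · intro c x _ hx; rw [smul_eq_mul, mul_left_comm, hx, mul_zero]
        rw [← Ideal.Quotient.eq_zero_iff_mem]
        have := congrArg (Ideal.Quotient.mk (P m)) h0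
        rwa [map_mul, hmk, Pi.single_eq_same, one_mul, map_zero] at this
      · intro i
        let B' := B i ⧸ (P m).map (algebraMap A (B i))
        haveI := hflat i
        have h1 : Module.Flat B' (B' ⊗[A] M) :=
          Module.Flat.of_linearEquiv
            (TensorProduct.AlgebraTensorModule.cancelBaseChange A (B i) B' B' M).symm
        exact Module.Flat.of_linearEquiv
          (TensorProduct.AlgebraTensorModule.cancelBaseChange A (A ⧸ P m) B' B' M)
    infer_instance
  have hTflat : ∀ m, Module.Flat A ((A ⧸ P m) ⊗[A] M) := fun m =>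
    haveI := hAflat m
    haveI := hMflat m
    Module.Flat.trans A (A ⧸ P m) _
  haveI : Module.Flat A (DirectSum (MaximalSpectrum A) fun m => (A ⧸ P m) ⊗[A] M) :=
    Module.Flat.directSum_iff.mpr hTflat
  let r : (DirectSum (MaximalSpectrum A) fun m => (A ⧸ P m) ⊗[A] M) →ₗ[A] M :=
    DirectSum.toModule A _ M fun m =>
      (TensorProduct.lid A M).toLinearMap ∘ₗ (j m).rTensor M
  let s : M →ₗ[A] (DirectSum (MaximalSpectrum A) fun m => (A ⧸ P m) ⊗[A] M) :=
    ∑ m, (DirectSum.lof A _ _ m) ∘ₗ TensorProduct.mk A (A ⧸ P m) M 1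
  refine Module.Flat.of_retract s r (LinearMap.ext fun x => ?_)
  show r (s x) = x
  simp only [s, LinearMap.sum_apply, map_sum, LinearMap.comp_apply, r, DirectSum.toModule_lof]
  have : ∀ m, (TensorProduct.lid A M).toLinearMap ((j m).rTensor M ((1 : A ⧸ P m) ⊗ₜ[A] x)) =
      e' m • x := fun m => by
    rw [LinearMap.rTensor_tmul, LinearEquiv.coe_coe, TensorProduct.lid_tmul]
    congr 1
    show e' m * 1 = e' m
    rw [mul_one]
  simp only [TensorProduct.mk_apply, this, ← Finset.sum_smul, hsum, one_smul]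

end Groth.Agent.Flat.FreeLift
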