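import Groth.Agent.Flat.GlobalModel
import Groth.Agent.Flat.FreeLift
import Mathlib.RingTheory.Ideal.MinimalPrime.Noetherian
import Mathlib.RingTheory.Finiteness.Ideal

/-!
Flat finitely presented modules are free along a stratification by principal opens.
-/

set_option autoImplicit false

noncomputable section

namespace Groth.Agent.Flat.FreeStrata

universe u

open scoped TensorProduct
open FlatAt OpenLocus GlobalModel

/-- freeness mod a nilpotent ideal, with universal quantification over coefficient rings -/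
theorem free_of_nilpotent {R L M : Type u} [CommRing R] [CommRing L] [Algebra R L] [AddCommGroup M]
    [Module R M] [Module.Flat L (L ⊗[R] M)] (J : Ideal L) (hJ : IsNilpotent J)
    (hfree : Module.Free (L ⧸ J) ((L ⧸ J) ⊗[R] M)) : Module.Free L (L ⊗[R] M) := by
  refine FreeLift.free_of_forall_free (fun _ : PUnit.{u+1} => L) (fun a ha => ha PUnit.unit)
    (L ⊗[R] M) J hJ ?_ fun _ => ?_
  · exact Module.Free.of_equiv
      (TensorProduct.AlgebraTensorModule.cancelBaseChange R L (L ⧸ J) (L ⧸ J) M).symm
  · exact Module.Flat.of_linearEquiv (TensorProduct.lid L (L ⊗[R] M))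

/-- strata over a Noetherian ring -/
theorem exists_free_strata_noetherian {A S M : Type u} [CommRing A] [IsNoetherianRing A]
    [CommRing S] [Algebra A S] [Algebra.FiniteType A S] [AddCommGroup M] [Module A M] [Module S M]
    [IsScalarTower A S M] [Module.Finite S M] [Module.Flat A M] (I : Ideal A) :
    ∃ l : List A, I ⊔ Ideal.span {a | a ∈ l} = ⊤ ∧
      ∀ (i : ℕ) (hi : i < l.length) (L : Type u) [CommRing L] [Algebra A L],
        IsUnit (algebraMap A L l[i]) →
        (I ⊔ Ideal.span {a | a ∈ l.take i}).map (algebraMap A L) = ⊥ →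
        Module.Free L (L ⊗[A] M) := by
  classical
  induction I using WellFoundedGT.induction with
  | _ I ih =>
  by_cases hI : I = ⊤
  · exact ⟨[], by simp [hI], fun i hi => absurd hi (by simp)⟩
  obtain ⟨p, hp⟩ := Ideal.nonempty_minimalPrimes hI
  haveI := hp.1.1
  -- generic freeness over `A / p`
  let Ip := p.map (algebraMap A S)
  letI : Module (A ⧸ p) (M ⧸ (Ip • ⊤ : Submodule S M)) :=
    Module.compHom _ (Ideal.quotientMap Ip (algebraMap A S) Ideal.le_comap_map)
  haveI : IsScalarTower (A ⧸ p) (S ⧸ Ip) (M ⧸ (Ip • ⊤ : Submodule S M)) :=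
    IsScalarTower.of_algebraMap_smul fun c z => by
      obtain ⟨c, rfl⟩ := Ideal.Quotient.mk_surjective c
      rfl
  haveI : IsScalarTower A (A ⧸ p) (M ⧸ (Ip • ⊤ : Submodule S M)) :=
    IsScalarTower.of_algebraMap_smul fun c z => by
      show (Ideal.Quotient.mk Ip (algebraMap A S c)) • z = c • z
      rw [← algebraMap_smul S c z]
      rfl
  haveI : Module.Finite (S ⧸ Ip) (M ⧸ (Ip • ⊤ : Submodule S M)) :=
    Module.Finite.of_restrictScalars_finite S _ _
  haveI : Algebra.FiniteType (A ⧸ p) (S ⧸ Ip) :=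
    Algebra.FiniteType.of_restrictScalars_finiteType A _ _
  obtain ⟨f₁, hf₁, hfree⟩ := GenericFree.freeAway_of_finite (R := A ⧸ p) (S ⧸ Ip)
    (M ⧸ (Ip • ⊤ : Submodule S M))
  obtain ⟨f₁, rfl⟩ := Ideal.Quotient.mk_surjective f₁
  let e1 : ((A ⧸ p) ⊗[A] M) ≃ₗ[A ⧸ p] (M ⧸ (Ip • ⊤ : Submodule S M)) :=
    LinearEquiv.extendScalarsOfSurjective Ideal.Quotient.mk_surjective
      ((TensorProduct.quotTensorEquivQuotSMul M p).trans
        (((Submodule.quotEquivOfEq _ _ (show p • (⊤ : Submodule A M) = ((p.map (algebraMap A S)) • (⊤ : Submodule S M)).restrictScalars A by rw [Ideal.smul_restrictScalars, Submodule.restrictScalars_top])).trans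
          (Submodule.Quotient.restrictScalarsEquiv A _))))
  -- separate `p` from the other minimal primes
  have hsep : ∀ P : Ideal A, ∃ x : A, x ∉ p ∧ (P ∈ I.minimalPrimes → P ≠ p → x ∈ P) := by
    intro P
    by_cases h : P ∈ I.minimalPrimes ∧ P ≠ p
    · obtain ⟨x, hxP, hxp⟩ := SetLike.not_le_iff_exists.mp
        (fun hle => h.2 (le_antisymm hle (hp.2 ⟨h.1.1.1, h.1.1.2⟩ hle)))
      exact ⟨x, hxp, fun _ _ => hxP⟩
    · exact ⟨1, fun h1 => hp.1.1.ne_top ((Ideal.eq_top_iff_one p).mpr h1),
        fun h1 h2 => absurd ⟨h1, h2⟩ h⟩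
  choose x hx hxP using hsep
  let fs := (I.finite_minimalPrimes_of_isNoetherianRing A).toFinset
  let f := f₁ * ∏ P ∈ fs, x P
  have hfp : f ∉ p := fun h => (hp.1.1.mem_or_mem h).elim
    (fun h => hf₁ (Ideal.Quotient.eq_zero_iff_mem.mpr h))
    fun h => by
      obtain ⟨P, _, hP⟩ := Ideal.IsPrime.prod_mem_iff.mp h
      exact hx P hP
  have hrad : Ideal.span {f} * p ≤ I.radical := by
    rw [← Ideal.sInf_minimalPrimes]
    refine le_sInf fun P hP => ?_
    by_cases hPp : P = p
    · exact hPp ▸ Ideal.mul_le_right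
    · refine Ideal.mul_le_left.trans ((Ideal.span_singleton_le_iff_mem _).mpr ?_)
      exact Ideal.mul_mem_left _ _ (Ideal.mem_of_dvd _
        (Finset.dvd_prod_of_mem x ((Set.Finite.mem_toFinset _).mpr hP)) (hxP P hP hPp))
  obtain ⟨N, hN⟩ := Ideal.exists_pow_le_of_le_radical_of_fg hrad (IsNoetherian.noetherian _)
  have hlt : I < I ⊔ Ideal.span {f} :=
    left_lt_sup.mpr fun h => hfp (hp.1.2 (h (Ideal.mem_span_singleton_self f)))
  obtain ⟨l, hl, hlfree⟩ := ih _ hlt
  have hset : ∀ t : List A, {a | a ∈ f :: t} = insert f {a | a ∈ t} := fun t => by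
    ext a; simp
  refine ⟨f :: l, by rw [hset, Ideal.span_insert, ← sup_assoc, hl], fun i hi L _ _ hu hbot => ?_⟩
  rcases i with _ | i
  · simp only [List.take_zero, List.not_mem_nil, Set.setOf_false, Ideal.span_empty, sup_bot_eq]
      at hbot
    simp only [List.getElem_cons_zero] at hu
    let J := p.map (algebraMap A L)
    have hJ : IsNilpotent J := by
      refine ⟨N, ?_⟩
      have h1 : (Ideal.span {algebraMap A L f} * J) ^ N ≤ ⊥ := by
        rw [← hbot, show Ideal.span {algebraMap A L f} = (Ideal.span {f}).map (algebraMap A L) by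
          rw [Ideal.map_span, Set.image_singleton], ← Ideal.map_mul, ← Ideal.map_pow]
        exact Ideal.map_mono hN
      rw [Ideal.span_singleton_eq_top.mpr hu, Ideal.top_mul] at h1
      exact le_bot_iff.mp h1
    haveI : Module.Flat L (L ⊗[A] M) := inferInstance
    refine free_of_nilpotent J hJ ?_
    letI : Algebra (A ⧸ p) (L ⧸ J) :=
      (Ideal.quotientMap J (algebraMap A L) Ideal.le_comap_map).toAlgebra
    haveI : IsScalarTower A (A ⧸ p) (L ⧸ J) := IsScalarTower.of_algebraMap_eq fun a => rfl
    have hu' : IsUnit (algebraMap (A ⧸ p) (L ⧸ J) (Ideal.Quotient.mk p f₁)) :=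
      (isUnit_of_dvd_unit (map_dvd _ (dvd_mul_right f₁ _)) hu).map (Ideal.Quotient.mk J)
    haveI := hfree (L ⧸ J) hu'
    exact Module.Free.of_equiv (((TensorProduct.AlgebraTensorModule.congr
      (LinearEquiv.refl (L ⧸ J) (L ⧸ J)) e1).symm.trans
        (TensorProduct.AlgebraTensorModule.cancelBaseChange A (A ⧸ p) (L ⧸ J) (L ⧸ J) M)))
  · refine hlfree i (by simpa using hi) L (by simpa using hu) ?_
    rw [List.take_succ_cons, hset, Ideal.span_insert, ← sup_assoc] at hbot
    exact hbot

/-- a list over a subring gives a list over the ring -/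
theorem exists_free_strata_of_model {A₀ A M₀ M S : Type u} [CommRing A₀] [IsNoetherianRing A₀]
    [CommRing A] [Algebra A₀ A] [CommRing S] [Algebra A₀ S] [Algebra.FiniteType A₀ S]
    [AddCommGroup M₀] [Module A₀ M₀] [Module S M₀] [IsScalarTower A₀ S M₀] [Module.Finite S M₀]
    [Module.Flat A₀ M₀] [AddCommGroup M] [Module A M] [Module A₀ M] [IsScalarTower A₀ A M]
    (j : M₀ →ₗ[A₀] M) (hj : IsBaseChange A j) :
    ∃ l : List A, Ideal.span {a | a ∈ l} = ⊤ ∧
      ∀ (i : ℕ) (hi : i < l.length) (L : Type u) [CommRing L] [Algebra A L],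
        IsUnit (algebraMap A L l[i]) →
        (Ideal.span {a | a ∈ l.take i}).map (algebraMap A L) = ⊥ →
        Module.Free L (L ⊗[A] M) := by
  obtain ⟨l, hl, hfree⟩ := exists_free_strata_noetherian (S := S) (M := M₀) (⊥ : Ideal A₀)
  rw [bot_sup_eq] at hl
  have himg : ∀ t : List A₀, {a | a ∈ t.map (algebraMap A₀ A)} =
      algebraMap A₀ A '' {a | a ∈ t} := fun t => by
    ext a; simp [List.mem_map]
  refine ⟨l.map (algebraMap A₀ A), ?_, fun i hi L _ _ hu hbot => ?_⟩
  · rw [himg, ← Ideal.map_span, hl, Ideal.map_top]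
  · letI : Algebra A₀ L := ((algebraMap A L).comp (algebraMap A₀ A)).toAlgebra
    haveI : IsScalarTower A₀ A L := IsScalarTower.of_algebraMap_eq fun _ => rfl
    haveI : Module.Free L (L ⊗[A₀] M₀) := hfree i (by simpa using hi) L
      (by simpa [IsScalarTower.algebraMap_apply A₀ A L] using hu) (by
        rw [bot_sup_eq, IsScalarTower.algebraMap_eq A₀ A L, ← Ideal.map_map, Ideal.map_span,
          ← himg, List.map_take]
        exact hbot)
    exact Module.Free.of_equiv
      ((TensorProduct.AlgebraTensorModule.cancelBaseChange A₀ A L L M₀).symm.trans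
        (TensorProduct.AlgebraTensorModule.congr (LinearEquiv.refl L L) hj.equiv))

/-- flat finitely presented modules are free along principal strata -/
theorem exists_free_strata (A B M : Type u) [CommRing A] [CommRing B] [Algebra A B]
    [Algebra.FinitePresentation A B] [AddCommGroup M] [Module A M] [Module B M]
    [IsScalarTower A B M] [Module.FinitePresentation B M] [Module.Flat A M] :
    ∃ l : List A, Ideal.span {a | a ∈ l} = ⊤ ∧
      ∀ (i : ℕ) (hi : i < l.length) (L : Type u) [CommRing L] [Algebra A L],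
        IsUnit (algebraMap A L l[i]) →
        (Ideal.span {a | a ∈ l.take i}).map (algebraMap A L) = ⊥ →
        Module.Free L (L ⊗[A] M) := by
  obtain ⟨n, π, hπ, hker⟩ := (inferInstance : Algebra.FinitePresentation A B).out
  let P := MvPolynomial (Fin n) A
  letI : Algebra P B := π.toRingHom.toAlgebra
  letI : Module P M := Module.compHom M π.toRingHom
  haveI : IsScalarTower P B M := IsScalarTower.of_algebraMap_smul fun _ _ => rfl
  haveI : IsScalarTower A P M := IsScalarTower.of_algebraMap_smul fun r z => by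
    show π (algebraMap A _ r) • z = _
    rw [π.commutes, algebraMap_smul]
  haveI : Module.FinitePresentation P B :=
    Module.finitePresentation_of_surjective (Algebra.linearMap P B) hπ hker
  haveI : Module.FinitePresentation P M := Module.FinitePresentation.trans (R := P) (M := M) B
  obtain ⟨m, K, e, hK⟩ := Module.FinitePresentation.exists_fin P M
  obtain ⟨k, g, rfl⟩ := Submodule.fg_iff_exists_fin_generating_family.mp hK
  obtain ⟨T, hT⟩ := exists_flat_model g (Module.Flat.of_linearEquiv (e.restrictScalars A).symm)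
  obtain ⟨g', hg', hflat⟩ := hT T subset_rfl
  haveI := adj_isNoetherianRing T
  exact exists_free_strata_of_model (S := MvPolynomial (Fin n) (adj T)) (M₀ := Coker g')
    ((e.symm.toLinearMap.restrictScalars (adj T)) ∘ₗ cokerMap g' g hg')
    (IsBaseChange.of_equiv (((isBaseChange_cokerMap g' g hg').equiv).trans
      (e.symm.restrictScalars A)) fun x => by
        simp only [LinearEquiv.trans_apply, IsBaseChange.equiv_tmul, one_smul]
        rfl)

end Groth.Agent.Flat.FreeStrata
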