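import Groth.Agent.Flat.AlgebraModel
import Mathlib.Algebra.Module.FinitePresentation
import Mathlib.Algebra.Module.Torsion.Basic

/-!
The model of an algebra and a module over it given by lifted equations.
-/

set_option autoImplicit false

noncomputable section

namespace Groth.Agent.Flat.ModuleModel

universe u

open scoped TensorProduct
open Groth.Agent.Flat.Descent Groth.Agent.Flat.OpenLocus

set_option maxHeartbeats 1000000 in
theorem exists_model {R₀ R S M : Type u} [CommRing R₀] [CommRing R] [CommRing S] [Algebra R₀ R]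
    [Algebra R S] [Algebra R₀ S] [IsScalarTower R₀ R S] [AddCommGroup M] [Module S M] [Module R M]
    [IsScalarTower R S M] [Module R₀ M] [IsScalarTower R₀ R M] {n b k r : ℕ}
    [Module (MvPolynomial (Fin n) R) M] [IsScalarTower R (MvPolynomial (Fin n) R) M]
    (π : MvPolynomial (Fin n) R →ₐ[R] S) (hπ : Function.Surjective π)
    (hπM : ∀ (p : MvPolynomial (Fin n) R) (m : M), p • m = π p • m)
    (h : Fin r → MvPolynomial (Fin n) R)
    (hh : Submodule.span (MvPolynomial (Fin n) R) (Set.range h) = RingHom.ker π.toRingHom)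
    (h' : Fin r → MvPolynomial (Fin n) R₀)
    (hh' : ∀ l, MvPolynomial.map (algebraMap R₀ R) (h' l) = h l)
    (g : Fin k → Fin b → MvPolynomial (Fin n) R)
    (e : Coker g ≃ₗ[MvPolynomial (Fin n) R] M)
    (g' : Fin k → Fin b → MvPolynomial (Fin n) R₀)
    (hg' : ∀ l, vmap (algebraMap R₀ R) (g' l) = g l)
    (hflat : Module.Flat R₀ (Coker g'))
    (hkill' : ∀ l i, h' l • (Pi.single i 1 : Fin b → MvPolynomial (Fin n) R₀) ∈
      Submodule.span (MvPolynomial (Fin n) R₀) (Set.range g')) :
    ∃ (S₀ : Type u) (_ : CommRing S₀) (_ : Algebra R₀ S₀) (_ : Algebra S₀ S)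
      (_ : IsScalarTower R₀ S₀ S) (M₀ : Type u) (_ : AddCommGroup M₀) (_ : Module S₀ M₀)
      (_ : Module R₀ M₀) (_ : IsScalarTower R₀ S₀ M₀) (_ : Module S₀ M) (_ : IsScalarTower S₀ S M)
      (f : M₀ →ₗ[S₀] M),
      Algebra.FiniteType R₀ S₀ ∧ Module.Finite S₀ M₀ ∧ Module.Flat R₀ M₀ ∧
        Algebra.IsPushout R₀ R S₀ S ∧ IsBaseChange S f := by
  classical
  have hhπ : ∀ l, π (h l) = 0 := fun l =>
    (RingHom.mem_ker (f := π.toRingHom)).mp (hh.le (Submodule.subset_span ⟨l, rfl⟩))
  let P₀ := MvPolynomial (Fin n) R₀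
  let S₀ := P₀ ⧸ Ideal.span (Set.range h')
  let π₀ : P₀ →ₐ[R₀] S₀ := Ideal.Quotient.mkₐ R₀ _
  let ψ : P₀ →ₐ[R₀] S :=
    (π.restrictScalars R₀).comp (MvPolynomial.mapAlgHom (Algebra.ofId R₀ R))
  have hψ : ∀ z, ψ z = π (MvPolynomial.map (algebraMap R₀ R) z) := fun z => rfl
  let j : S₀ →ₐ[R₀] S := Ideal.Quotient.liftₐ _ ψ fun z hz => by
    refine (show Ideal.span (Set.range h') ≤ RingHom.ker ψ.toRingHom from ?_) hz
    rw [Ideal.span_le]
    rintro _ ⟨l, rfl⟩
    show ψ (h' l) = 0
    rw [hψ]
    exact (congrArg π (hh' l)).trans (hhπ l)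
  let hv : Fin r → Unit → MvPolynomial (Fin n) R := fun l _ => h l
  let hv' : Fin r → Unit → P₀ := fun l _ => h' l
  have hhv : ∀ l, vmap (algebraMap R₀ R) (hv' l) = hv l :=
    fun l => funext fun _ => hh' l
  have hk₀ : RingHom.ker π₀.toRingHom = Ideal.span (Set.range h') := Ideal.mk_ker
  have hs₀ : Function.Surjective π₀ := Ideal.Quotient.mk_surjective
  obtain ⟨e₀, he₀⟩ := Groth.Agent.Flat.AlgebraModel.exists_cokerEquiv π₀ hs₀ h' hk₀
  obtain ⟨e₁, he₁⟩ := Groth.Agent.Flat.AlgebraModel.exists_cokerEquiv π hπ h hh.symm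
  have hbcS : IsBaseChange R j.toLinearMap := by
    refine IsBaseChange.of_equiv ((TensorProduct.AlgebraTensorModule.congr (LinearEquiv.refl R R)
      e₀.symm).trans (((isBaseChange_cokerMap hv' hv hhv).equiv).trans
        e₁)) fun x => ?_
    obtain ⟨x, rfl⟩ := e₀.surjective x
    obtain ⟨v, rfl⟩ := Submodule.mkQ_surjective _ x
    simp only [LinearEquiv.trans_apply, TensorProduct.AlgebraTensorModule.congr_tmul,
      LinearEquiv.refl_apply, LinearEquiv.symm_apply_apply, IsBaseChange.equiv_tmul, one_smul,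
      Submodule.mkQ_apply, cokerMap_mk, he₀]
    exact (congrArg (fun t => e₁ (cokerMap hv' hv hhv t))
      (e₀.symm_apply_eq.mpr (he₀ v).symm)).trans (he₁ _)
  letI : Algebra S₀ S := j.toRingHom.toAlgebra
  have : IsScalarTower R₀ S₀ S := IsScalarTower.of_algebraMap_eq fun a => (j.commutes a).symm
  have hpush : Algebra.IsPushout R₀ R S₀ S := ⟨hbcS⟩
  -- the module
  let M₀ := Coker g'
  have htors : Module.IsTorsionBySet P₀ M₀ (Ideal.span (Set.range h') : Ideal P₀) := by
    rintro x ⟨a, ha⟩
    obtain ⟨v, rfl⟩ := Submodule.mkQ_surjective _ x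
    show a • (Submodule.mkQ _ v) = 0
    rw [← map_smul, Submodule.mkQ_apply, Submodule.Quotient.mk_eq_zero]
    refine Submodule.span_induction (p := fun a _ => a • v ∈ Submodule.span P₀ (Set.range g')) ?_
      (by simp) (fun x y _ _ hx hy => by rw [add_smul]; exact add_mem hx hy)
      (fun d x _ hx => by rw [smul_eq_mul, mul_smul]; exact Submodule.smul_mem _ d hx) ha
    rintro _ ⟨l, rfl⟩
    rw [pi_eq_sum_univ' v, Finset.smul_sum]
    refine Submodule.sum_mem _ fun i _ => ?_
    rw [smul_comm]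
    refine Submodule.smul_mem _ _ ?_
    exact hkill' l i
  letI : Module S₀ M₀ := htors.module
  have hsm : ∀ (z : P₀) (x : M₀), π₀ z • x = z • x := fun z x => rfl
  have : IsScalarTower R₀ S₀ M₀ := ⟨fun a t x => by
    obtain ⟨z, rfl⟩ := Ideal.Quotient.mkₐ_surjective R₀ (Ideal.span (Set.range h')) t
    exact smul_assoc a z x⟩
  have : IsScalarTower P₀ S₀ M₀ := ⟨fun a t x => by
    obtain ⟨z, rfl⟩ := Ideal.Quotient.mkₐ_surjective R₀ (Ideal.span (Set.range h')) t
    exact smul_assoc a z x⟩
  letI : Module S₀ M := Module.compHom M j.toRingHom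
  have : IsScalarTower S₀ S M := IsScalarTower.of_algebraMap_smul fun _ _ => rfl
  let cm := cokerMap (B := R) g' g hg'
  let f : M₀ →ₗ[S₀] M :=
    { toFun := fun x => e (cm x)
      map_add' := fun x y => by rw [map_add, map_add]
      map_smul' := fun s x => by
        obtain ⟨z, rfl⟩ := Ideal.Quotient.mkₐ_surjective R₀ (Ideal.span (Set.range h')) s
        show e (cm (z • x)) = ψ z • e (cm x)
        rw [cokerMap_smul, map_smul, hψ]
        exact hπM _ _ }
  have hbcM : Function.Bijective (f.liftBaseChange S) := by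
    have hb := isBaseChange_cokerMap (B := R) g' g hg'
    let E : TensorProduct R₀ R M₀ ≃ₗ[R] M := hb.equiv.trans (e.restrictScalars R)
    let eS := Algebra.IsPushout.cancelBaseChange R₀ R S₀ S M₀
    have hEq : ∀ t, f.liftBaseChange S (eS.symm t) = E t := by
      intro t
      induction t using TensorProduct.induction_on with
      | zero => simp
      | add x y hx hy => simp only [map_add, hx, hy]
      | tmul a x =>
        simp only [eS, Algebra.IsPushout.cancelBaseChange_symm_tmul, LinearMap.liftBaseChange_tmul]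
        show algebraMap R S a • e (cm x) = e (hb.equiv (TensorProduct.tmul R₀ a x))
        rw [IsBaseChange.equiv_tmul, algebraMap_smul]
        exact ((e.restrictScalars R).map_smul a _).symm
    have : ⇑(f.liftBaseChange S) = ⇑E ∘ ⇑eS := by
      funext t
      rw [Function.comp_apply, ← hEq, LinearEquiv.symm_apply_apply]
    rw [this]
    exact E.bijective.comp eS.bijective
  refine ⟨S₀, inferInstance, inferInstance, inferInstance, inferInstance, M₀, inferInstance,
    inferInstance, inferInstance, inferInstance, inferInstance, inferInstance, f, inferInstance,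
    ?_, hflat, hpush, IsBaseChange.of_equiv (LinearEquiv.ofBijective _ hbcM) fun x => by simp⟩
  exact Module.Finite.of_restrictScalars_finite P₀ S₀ M₀

end Groth.Agent.Flat.ModuleModel
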