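import Mathlib.RingTheory.Flat.Tensor
import Mathlib.LinearAlgebra.TensorProduct.RightExactness
import Mathlib.LinearAlgebra.TensorProduct.Tower
import Mathlib.RingTheory.Ideal.Quotient.Operations
import Mathlib.Algebra.Module.Torsion.Basic

/-!
Flatness criterion for a square-zero ideal, and tensoring of modules killed by an ideal.
-/

open scoped TensorProduct

namespace Groth.Agent.Flat.SqZero

universe u

/-- If `I` kills `L` and `L'` and `(R ⧸ I) ⊗ M` is flat over `R ⧸ I`, tensoring with `M` keeps
an injection `L → L'` injective. -/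
theorem rTensor_injective_of_annihilated {R : Type*} [CommRing R] (I : Ideal R) (M : Type*)
    [AddCommGroup M] [Module R M] [Module.Flat (R ⧸ I) ((R ⧸ I) ⊗[R] M)]
    {L L' : Type*} [AddCommGroup L] [Module R L] [AddCommGroup L'] [Module R L']
    (hL : ∀ a ∈ I, ∀ x : L, a • x = 0) (hL' : ∀ a ∈ I, ∀ x : L', a • x = 0)
    (f : L →ₗ[R] L') (hf : Function.Injective f) : Function.Injective (f.rTensor M) := by
  have h1 : Module.IsTorsionBySet R L (I : Set R) := fun x a => hL a a.2 x
  have h2 : Module.IsTorsionBySet R L' (I : Set R) := fun x a => hL' a a.2 x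
  let _ : Module (R ⧸ I) L := h1.module
  let _ : Module (R ⧸ I) L' := h2.module
  have : IsScalarTower R (R ⧸ I) L := h1.isScalarTower
  have : IsScalarTower R (R ⧸ I) L' := h2.isScalarTower
  let g : L →ₗ[R ⧸ I] L' :=
    { toFun := f, map_add' := map_add f
      map_smul' := fun c x => by
        obtain ⟨c, rfl⟩ := Ideal.Quotient.mk_surjective c
        exact map_smul f c x }
  let e := TensorProduct.AlgebraTensorModule.cancelBaseChange R (R ⧸ I) (R ⧸ I) L M
  let e' := TensorProduct.AlgebraTensorModule.cancelBaseChange R (R ⧸ I) (R ⧸ I) L' M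
  have key : ∀ z, f.rTensor M (e z) = e' (g.rTensor ((R ⧸ I) ⊗[R] M) z) := by
    intro z
    induction z using TensorProduct.induction_on with
    | zero => simp
    | add a b ha hb => simp only [map_add, ha, hb]
    | tmul x w =>
      induction w using TensorProduct.induction_on with
      | zero => simp
      | add a b ha hb => simp only [TensorProduct.tmul_add, map_add, ha, hb]
      | tmul c m =>
        simp only [e, e', LinearMap.rTensor_tmul, TensorProduct.AlgebraTensorModule.cancelBaseChange_tmul]
        exact congrArg (fun t => t ⊗ₜ[R] m) (map_smul g c x)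
  intro a b hab
  rw [← e.apply_symm_apply a, ← e.apply_symm_apply b, key, key] at hab
  exact e.symm.injective
    (Module.Flat.rTensor_preserves_injective_linearMap g hf (e'.injective hab))

/-- Flatness criterion for a square-zero ideal. -/
theorem flat_of_sq_zero {R : Type*} [CommRing R] (I : Ideal R) (hI : I ^ 2 = ⊥) (M : Type*)
    [AddCommGroup M] [Module R M] [Module.Flat (R ⧸ I) ((R ⧸ I) ⊗[R] M)]
    (hinj : Function.Injective (I.subtype.rTensor M)) : Module.Flat R M := by
  rw [Module.Flat.iff_rTensor_injective']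
  intro K
  rw [injective_iff_map_eq_zero]
  intro x hx
  let q : K →ₗ[R] R ⧸ I := (Ideal.Quotient.mkₐ R I).toLinearMap ∘ₗ K.subtype
  have hq : ∀ a ∈ I, ∀ c : R ⧸ I, a • c = 0 := fun a ha c => by
    obtain ⟨c, rfl⟩ := Ideal.Quotient.mk_surjective c
    exact Ideal.Quotient.eq_zero_iff_mem.2 (I.mul_mem_right _ ha)
  have h1 : q.rangeRestrict.rTensor M x = 0 := by
    refine rTensor_injective_of_annihilated I M
      (fun a ha c => Subtype.ext (hq a ha c)) hq q.range.subtype Subtype.val_injective ?_
    rw [map_zero, ← LinearMap.comp_apply, ← LinearMap.rTensor_comp]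
    show ((Ideal.Quotient.mkₐ R I).toLinearMap ∘ₗ K.subtype).rTensor M x = 0
    rw [LinearMap.rTensor_comp, LinearMap.comp_apply, hx, map_zero]
  have hex := rTensor_exact M (f := q.rangeRestrict.ker.subtype) (g := q.rangeRestrict)
    q.rangeRestrict.exact_subtype_ker_map q.surjective_rangeRestrict
  obtain ⟨y, rfl⟩ := (hex x).1 h1
  have hk : ∀ z : q.rangeRestrict.ker, ((z : K) : R) ∈ I := fun z => by
    have h2 : q.rangeRestrict (z : K) = 0 := z.2
    exact Ideal.Quotient.eq_zero_iff_mem.1 (congrArg Subtype.val h2)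
  let ι : q.rangeRestrict.ker →ₗ[R] I :=
    (K.subtype ∘ₗ q.rangeRestrict.ker.subtype).codRestrict I hk
  have hII : ∀ a ∈ I, ∀ b ∈ I, a * b = 0 := fun a ha b hb => by
    rw [← Ideal.mem_bot, ← hI, pow_two]; exact Ideal.mul_mem_mul ha hb
  have hy : y = 0 := by
    refine rTensor_injective_of_annihilated I M
      (fun a ha z => Subtype.ext (Subtype.ext (hII a ha _ (hk z))))
      (fun a ha z => Subtype.ext (hII a ha _ z.2)) ι
      (fun u v huv => Subtype.ext (Subtype.ext (congrArg Subtype.val huv : _))) ?_
    rw [map_zero]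
    refine hinj ?_
    rw [map_zero, ← LinearMap.comp_apply, ← LinearMap.rTensor_comp]
    show (K.subtype ∘ₗ q.rangeRestrict.ker.subtype).rTensor M y = 0
    rw [LinearMap.rTensor_comp, LinearMap.comp_apply, hx]
  rw [hy, map_zero]

end Groth.Agent.Flat.SqZero
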