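import Mathlib
import Groth.Agent.Flat.SqZero

/-! Flatness criterion along a nilpotent ideal, without finiteness. -/

open scoped TensorProduct

set_option backward.isDefEq.respectTransparency false

namespace Groth.Agent.Flat.NilpFibre

universe u

theorem injective_of_killed_quotient {R : Type u} [CommRing R] (I : Ideal R) (M : Type u)
    [AddCommGroup M] [Module R M] [Module.Flat (R ⧸ I) ((R ⧸ I) ⊗[R] M)] {X F G : Type u}
    [AddCommGroup X] [Module R X] [AddCommGroup F] [Module R F] [AddCommGroup G] [Module R G]
    (K : Submodule R F) (g : X →ₗ[R] F) (hgK : ∀ x, g x ∈ K)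
    (hg : Function.Injective (g.rTensor M)) (c : F →ₗ[R] G) (hkill : ∀ a ∈ I, ∀ y : G, a • y = 0)
    (hc : ∀ v ∈ K, c v = 0 → ∃ y, g y = v) (hcg : ∀ y, c (g y) = 0) :
    Function.Injective (K.subtype.rTensor M) := by
  rw [injective_iff_map_eq_zero]
  intro z hz
  let q : K →ₗ[R] G := c ∘ₗ K.subtype
  have h1 : q.rangeRestrict.rTensor M z = 0 := by
    refine SqZero.rTensor_injective_of_annihilated I M
      (fun a ha v => Subtype.ext (hkill a ha v)) hkill q.range.subtype Subtype.val_injective ?_
    rw [map_zero, ← LinearMap.comp_apply, ← LinearMap.rTensor_comp]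
    show (c ∘ₗ K.subtype).rTensor M z = 0
    rw [LinearMap.rTensor_comp, LinearMap.comp_apply, hz, map_zero]
  have hex : Function.Exact (g.codRestrict K hgK) q.rangeRestrict := by
    intro v
    constructor
    · intro hv
      obtain ⟨y, hy⟩ := hc v v.2 (congrArg Subtype.val hv)
      exact ⟨y, Subtype.ext hy⟩
    · rintro ⟨y, rfl⟩
      exact Subtype.ext (hcg y)
  obtain ⟨y, rfl⟩ := (rTensor_exact M hex q.surjective_rangeRestrict z).1 h1
  rw [← LinearMap.comp_apply, ← LinearMap.rTensor_comp] at hz
  rw [show y = 0 from hg (hz.trans (map_zero _).symm), map_zero]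

theorem injective_of_comap {R : Type u} [CommRing R] (M : Type u) [AddCommGroup M] [Module R M]
    {F L : Type u} [AddCommGroup F] [Module R F] [AddCommGroup L] [Module R L] (π : F →ₗ[R] L)
    (hπ : Function.Surjective π) (N : Submodule R L)
    (hK : Function.Injective ((N.comap π).subtype.rTensor M)) :
    Function.Injective (N.subtype.rTensor M) := by
  let K : Submodule R F := N.comap π
  rw [injective_iff_map_eq_zero]
  intro x hx
  let πK : K →ₗ[R] N := (π ∘ₗ K.subtype).codRestrict N fun v => v.2
  have hπK : Function.Surjective πK := fun n => by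
    obtain ⟨v, hv⟩ := hπ n
    exact ⟨⟨v, show π v ∈ N from hv ▸ n.2⟩, Subtype.ext hv⟩
  obtain ⟨z, rfl⟩ := LinearMap.rTensor_surjective M hπK x
  have h0 : π.rTensor M (K.subtype.rTensor M z) = 0 := by
    rw [← LinearMap.comp_apply, ← LinearMap.rTensor_comp, ← hx, ← LinearMap.comp_apply,
      ← LinearMap.rTensor_comp]
    rfl
  have hex : Function.Exact (LinearMap.ker π).subtype π := fun v =>
    ⟨fun h => ⟨⟨v, h⟩, rfl⟩, fun ⟨u, hu⟩ => hu ▸ u.2⟩
  obtain ⟨w, hw⟩ := (rTensor_exact M hex hπ (K.subtype.rTensor M z)).1 h0
  have hle : LinearMap.ker π ≤ K := fun v hv => by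
    show π v ∈ N
    rw [show π v = 0 from hv]; exact zero_mem _
  have hz : z = (Submodule.inclusion hle).rTensor M w := by
    apply hK
    rw [← hw, ← LinearMap.comp_apply (f := K.subtype.rTensor M), ← LinearMap.rTensor_comp]
    rfl
  rw [hz, ← LinearMap.comp_apply, ← LinearMap.rTensor_comp]
  have : πK ∘ₗ Submodule.inclusion hle = 0 := by
    ext v; exact v.2
  rw [this, LinearMap.rTensor_zero, LinearMap.zero_apply]

variable {R : Type u} [CommRing R] (I : Ideal R) (M : Type u) [AddCommGroup M] [Module R M]

theorem rTensor_injective_of_le_one [Module.Flat (R ⧸ I) ((R ⧸ I) ⊗[R] M)]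
    (hinj : Function.Injective (I.subtype.rTensor M)) {L : Type u} [AddCommGroup L] [Module R L]
    (N : Submodule R L) (hN : I • (⊤ : Submodule R L) ≤ N) :
    Function.Injective (N.subtype.rTensor M) := by
  classical
  let π : (L →₀ R) →ₗ[R] L := Finsupp.linearCombination R id
  have hπ : Function.Surjective π := fun x => ⟨Finsupp.single x 1, by simp [π]⟩
  let K : Submodule R (L →₀ R) := N.comap π
  let g : (L →₀ I) →ₗ[R] (L →₀ R) := Finsupp.mapRange.linearMap I.subtype
  let c : (L →₀ R) →ₗ[R] (L →₀ R ⧸ I) := Finsupp.mapRange.linearMap (Submodule.mkQ I)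
  have hc : ∀ x, c x = 0 → ∃ y, g y = x := by
    intro x hx
    refine ⟨Finsupp.onFinset x.support (fun l => ⟨x l, ?_⟩) ?_, ?_⟩
    · have := DFunLike.congr_fun hx l
      simpa [c, Ideal.Quotient.eq_zero_iff_mem] using this
    · intro l hl
      rw [Finsupp.mem_support_iff]
      exact fun h => hl (Subtype.ext h)
    · ext l; simp [g]
  have hgK : ∀ y, g y ∈ K := by
    intro y
    induction y using Finsupp.induction_linear with
    | zero => simp
    | add a b ha hb => rw [map_add]; exact add_mem ha hb
    | single l a =>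
      show π (g (Finsupp.single l a)) ∈ N
      simp only [g, π, Finsupp.mapRange.linearMap_apply, Finsupp.mapRange_single,
        Finsupp.linearCombination_single]
      exact hN (Submodule.smul_mem_smul a.2 trivial)
  have hg : Function.Injective (g.rTensor M) := by
    have hkey : ∀ z, TensorProduct.finsuppLeft R R R M L (g.rTensor M z) =
        Finsupp.mapRange.linearMap (I.subtype.rTensor M)
          (TensorProduct.finsuppLeft R R I M L z) := by
      intro z
      induction z using TensorProduct.induction_on with
      | zero => simp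
      | add a b ha hb => simp only [map_add, ha, hb]
      | tmul p m =>
        ext l
        simp [g, TensorProduct.finsuppLeft_apply_tmul_apply]
    intro a b hab
    have h1 := congrArg (TensorProduct.finsuppLeft R R R M L) hab
    rw [hkey, hkey] at h1
    exact (TensorProduct.finsuppLeft R R I M L).injective
      (Finsupp.mapRange_injective _ (map_zero _) hinj h1)
  have hkill : ∀ a ∈ I, ∀ y : L →₀ R ⧸ I, a • y = 0 := fun a ha y => by
    ext l
    obtain ⟨r, hr⟩ := Ideal.Quotient.mk_surjective (y l)
    rw [Finsupp.smul_apply, ← hr, Finsupp.zero_apply]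
    exact Ideal.Quotient.eq_zero_iff_mem.2 (I.mul_mem_right _ ha)
  have hK : Function.Injective (K.subtype.rTensor M) := by
    refine injective_of_killed_quotient I M (G := L →₀ R ⧸ I) K g hgK hg c hkill (fun v _ => hc v) ?_
    intro y
    ext l
    simp only [c, g, Finsupp.mapRange.linearMap_apply, Finsupp.mapRange_apply,
      Finsupp.zero_apply, Submodule.mkQ_apply]
    exact (Submodule.Quotient.mk_eq_zero _).2 (y l).2
  exact injective_of_comap M π hπ N hK

theorem rTensor_injective_of_le [Module.Flat (R ⧸ I) ((R ⧸ I) ⊗[R] M)]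
    (hinj : Function.Injective (I.subtype.rTensor M)) (k : ℕ) :
    ∀ {L : Type u} [AddCommGroup L] [Module R L] (N : Submodule R L),
      I ^ k • (⊤ : Submodule R L) ≤ N → Function.Injective (N.subtype.rTensor M) := by
  induction k with
  | zero =>
    intro L _ _ N hN
    have hN' : N = ⊤ := by
      rw [eq_top_iff]
      simpa [Submodule.one_smul] using hN
    subst hN'
    exact (Submodule.topEquiv.rTensor M).injective
  | succ k ih =>
    intro L _ _ N hN
    let N₂ : Submodule R L := N ⊔ I ^ k • ⊤
    have h2 := ih N₂ le_sup_right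
    have h1 : Function.Injective ((N.comap N₂.subtype).subtype.rTensor M) := by
      refine rTensor_injective_of_le_one I M hinj _ ?_
      rw [Submodule.smul_le]
      intro a ha v _
      show a • (v : L) ∈ N
      obtain ⟨n, hn, w, hw, hv⟩ := Submodule.mem_sup.1 v.2
      rw [← hv, smul_add]
      refine add_mem (N.smul_mem a hn) (hN ?_)
      rw [pow_succ', ← smul_eq_mul, Submodule.smul_assoc]
      exact Submodule.smul_mem_smul ha hw
    let e := Submodule.comapSubtypeEquivOfLe (p := N) (q := N₂) le_sup_left
    have hc : N.subtype = N₂.subtype ∘ₗ (N.comap N₂.subtype).subtype ∘ₗ e.symm.toLinearMap := by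
      ext v; rfl
    rw [hc, LinearMap.rTensor_comp, LinearMap.rTensor_comp]
    exact h2.comp (h1.comp (e.symm.rTensor M).injective)

/-- Flatness criterion along a nilpotent ideal. -/
theorem flat_of_nilpotent (hI : IsNilpotent I) [Module.Flat (R ⧸ I) ((R ⧸ I) ⊗[R] M)]
    (hinj : Function.Injective (I.subtype.rTensor M)) : Module.Flat R M := by
  rw [Module.Flat.iff_rTensor_injective']
  intro K
  obtain ⟨n, hn⟩ := hI
  exact rTensor_injective_of_le I M hinj n K (by rw [hn, Submodule.zero_eq_bot, Submodule.bot_smul]; exact bot_le)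

end Groth.Agent.Flat.NilpFibre

namespace Groth.Agent.Flat.NilpFibre

open scoped TensorProduct

universe u

variable {A B : Type u} [CommRing A] [CommRing B] [Algebra A B] (M : Type u) [AddCommGroup M]
  [Module B M] [Module A M] [IsScalarTower A B M]

/-- Fibrewise criterion of flatness along a nilpotent ideal of the base. -/
theorem flat_of_quotient (J : Ideal A) (hJ : IsNilpotent J) [Module.Flat A M]
    [Module.Flat (B ⧸ J.map (algebraMap A B)) ((B ⧸ J.map (algebraMap A B)) ⊗[B] M)] :
    Module.Flat B M := by
  have hJB : IsNilpotent (J.map (algebraMap A B)) := by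
    obtain ⟨n, hn⟩ := hJ
    exact ⟨n, by rw [← Ideal.map_pow, hn, Submodule.zero_eq_bot, Ideal.map_bot, Submodule.zero_eq_bot]⟩
  refine flat_of_nilpotent (J.map (algebraMap A B)) M hJB ?_
  set I := J.map (algebraMap A B)
  let φ : J →ₗ[A] I :=
    { toFun := fun j => ⟨algebraMap A B j, Ideal.mem_map_of_mem _ j.2⟩
      map_add' := fun a b => Subtype.ext (map_add _ _ _)
      map_smul' := fun a b => Subtype.ext (by simp [Algebra.smul_def]) }
  let Φ : J ⊗[A] M →ₗ[A] I ⊗[B] M :=
    TensorProduct.lift (((TensorProduct.mk B I M).restrictScalars₁₂ A A).comp φ)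
  have hΦ : ∀ j m, Φ (j ⊗ₜ m) = φ j ⊗ₜ[B] m := fun j m => rfl
  have hgen : ∀ x : B, x ∈ I → ∀ (hx : x ∈ I) (m : M), (⟨x, hx⟩ : I) ⊗ₜ[B] m ∈ LinearMap.range Φ := by
    intro x hx'
    induction hx' using Submodule.span_induction with
    | mem y hy =>
      obtain ⟨j, hj, rfl⟩ := hy
      exact fun _ m => ⟨(⟨j, hj⟩ : J) ⊗ₜ m, rfl⟩
    | zero =>
      intro _ m
      exact ⟨0, by rw [map_zero, show (⟨0, _⟩ : I) = 0 from rfl, TensorProduct.zero_tmul]⟩
    | add y z hy hz iy iz =>
      intro _ m
      rw [show (⟨y + z, _⟩ : I) = ⟨y, hy⟩ + ⟨z, hz⟩ from rfl, TensorProduct.add_tmul]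
      exact add_mem (iy hy m) (iz hz m)
    | smul b y hy iy =>
      intro _ m
      rw [show (⟨b • y, _⟩ : I) = b • ⟨y, hy⟩ from rfl, TensorProduct.smul_tmul]
      exact iy hy _
  have hsurj : ∀ z, z ∈ LinearMap.range Φ := by
    intro z
    induction z using TensorProduct.induction_on with
    | zero => exact zero_mem _
    | add a b ha hb => exact add_mem ha hb
    | tmul x m => exact hgen x x.2 x.2 m
  have hkey : ∀ w, TensorProduct.lid B M (I.subtype.rTensor M (Φ w)) =
      TensorProduct.lid A M (J.subtype.rTensor M w) := by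
    intro w
    induction w using TensorProduct.induction_on with
    | zero => simp
    | add a b ha hb => simp only [map_add, ha, hb]
    | tmul j m =>
      simp only [hΦ, LinearMap.rTensor_tmul, TensorProduct.lid_tmul, Submodule.subtype_apply]
      exact algebraMap_smul B (j : A) m
  rw [injective_iff_map_eq_zero]
  intro z hz
  obtain ⟨w, rfl⟩ := hsurj z
  have h0 := hkey w
  rw [hz, map_zero, eq_comm, LinearEquiv.map_eq_zero_iff] at h0
  rw [show w = 0 from Module.Flat.rTensor_preserves_injective_linearMap (M := M) J.subtype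
    Subtype.val_injective (h0.trans (map_zero _).symm), map_zero]

/-- Flatness descends from a module which is faithfully flat over the algebra. -/
theorem flat_of_faithfullyFlat_module [Module.FaithfullyFlat B M] [Module.Flat A M] :
    Module.Flat A B := by
  rw [Module.Flat.iff_lTensor_injective']
  intro K
  let g : B ⊗[A] K →ₗ[B] B ⊗[A] A := (K.subtype).baseChange B
  show Function.Injective g
  rw [← Module.FaithfullyFlat.lTensor_injective_iff_injective B M g]
  let e₁ := TensorProduct.AlgebraTensorModule.cancelBaseChange A B B M K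
  let e₂ := TensorProduct.AlgebraTensorModule.cancelBaseChange A B B M A
  have hkey : ∀ z, e₂ (g.lTensor M z) = K.subtype.lTensor M (e₁ z) := by
    intro z
    induction z using TensorProduct.induction_on with
    | zero => simp
    | add a b ha hb => simp only [map_add, ha, hb]
    | tmul m w =>
      induction w using TensorProduct.induction_on with
      | zero => simp
      | add a b ha hb => simp only [TensorProduct.tmul_add, map_add, ha, hb]
      | tmul b k => simp [g, e₁, e₂]
  intro a b hab
  have h := congrArg e₂ hab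
  rw [hkey, hkey] at h
  exact e₁.injective (Module.Flat.lTensor_preserves_injective_linearMap (M := M) K.subtype
    Subtype.val_injective h)

end Groth.Agent.Flat.NilpFibre
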