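import Groth.Agent.RegularLocal.Basic
import Groth.Agent.Flat.FibreRegular
import Groth.Agent.Flat.OpenLocus
import Mathlib.RingTheory.NoetherNormalization
import Mathlib.RingTheory.Spectrum.Prime.FreeLocus
import Mathlib.RingTheory.Spectrum.Prime.Jacobson
import Mathlib.RingTheory.RegularLocalRing.Polynomial
import Mathlib.RingTheory.Ideal.GoingUp
import Mathlib.RingTheory.ZariskisMainTheorem
import Mathlib.RingTheory.Spectrum.Prime.Chevalley
import Mathlib.RingTheory.Finiteness.FinitePresentationLocal
import Mathlib.RingTheory.Spectrum.Prime.RingHom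
import Mathlib.RingTheory.Flat.FaithfullyFlat.Algebra

/-!
Quasi-finite flat slices of flat finitely presented algebras.
-/

set_option autoImplicit false

open TensorProduct
open Groth.Agent.Flat Groth.Agent.Flat.FlatAt

namespace Groth.Agent.Flat.QuasiFiniteDominate

universe u

theorem colon_of_free {R M : Type u} [CommRing R] [AddCommGroup M] [Module R M] [Module.Free R M]
    (J : Ideal R) (a : R) (h : ∀ r, a * r ∈ J → r ∈ J) (x : M)
    (hx : a • x ∈ J • (⊤ : Submodule R M)) : x ∈ J • (⊤ : Submodule R M) := by
  classical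
  let b := Module.Free.chooseBasis R M
  have hc : ∀ y ∈ J • (⊤ : Submodule R M), ∀ i, b.repr y i ∈ J := by
    intro y hy
    refine Submodule.smul_induction_on hy (fun r hr z _ i => ?_) fun y z hy hz i => ?_
    · rw [map_smul, Finsupp.smul_apply, smul_eq_mul]
      exact J.mul_mem_right _ hr
    · rw [map_add, Finsupp.add_apply]
      exact add_mem (hy i) (hz i)
  rw [← b.linearCombination_repr x, Finsupp.linearCombination_apply]
  refine sum_mem fun i _ => Submodule.smul_mem_smul (h _ ?_) trivial
  have := hc _ hx i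
  rwa [map_smul, Finsupp.smul_apply, smul_eq_mul] at this

theorem exists_point (k F : Type u) [Field k] [CommRing F] [Nontrivial F] [Algebra k F]
    [Algebra.FiniteType k F] (σ : Set F) (hσ : ∀ z, ∃ u : k, u ≠ 0 ∧ u • z ∈ σ) :
    ∃ (q : Ideal F) (_ : q.IsMaximal) (g : List F), (∀ b ∈ g, b ∈ σ ∧ b ∈ q) ∧
      (∀ i (hi : i < g.length), ∀ y, g[i] * y ∈ Ideal.ofList (g.take i) →
        ∃ s, s ∉ q ∧ s * y ∈ Ideal.ofList (g.take i)) ∧
      ∀ P : Ideal F, P.IsPrime → P ≤ q → Ideal.ofList g ≤ P → P = q := by
  classical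
  obtain ⟨n, φ, hinj, hfin⟩ := exists_finite_inj_algHom_of_fg k F
  let B := MvPolynomial (Fin n) k
  let : Algebra B F := φ.toRingHom.toAlgebra
  have : IsScalarTower k B F := IsScalarTower.of_algebraMap_eq fun x => (φ.commutes x).symm
  have : Module.Finite B F := hfin
  have : Module.FinitePresentation B F := Module.finitePresentation_of_finite B F
  -- a closed point of the free locus
  obtain ⟨x, hxU, hxc⟩ := nonempty_inter_closedPoints (X := PrimeSpectrum B)
    (Z := Module.freeLocus B F) ⟨⟨⊥, Ideal.isPrime_bot⟩, by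
      have := Ideal.isPrime_bot (α := B)
      rw [Module.mem_freeLocus]
      have : IsFractionRing B (Localization.AtPrime (⊥ : Ideal B)) := by
        show IsLocalization (nonZeroDivisors B) _
        have : (nonZeroDivisors B) = (⊥ : Ideal B).primeCompl := by ext y; simp
        rw [this]; infer_instance
      let := IsFractionRing.toField B (K := Localization.AtPrime (⊥ : Ideal B))
      infer_instance⟩ Module.isOpen_freeLocus.isLocallyClosed
  let m := x.asIdeal
  have hm : m.IsMaximal := (PrimeSpectrum.isClosed_singleton_iff_isMaximal x).mp hxc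
  have : Module.Free (Localization.AtPrime m) (LocalizedModule m.primeCompl F) := hxU
  obtain ⟨q, hq, hqm⟩ := Ideal.exists_ideal_over_maximal_of_isIntegral m (by
    intro z hz
    rw [(hinj (a₁ := z) (a₂ := 0) (by rw [map_zero]; exact hz) : z = 0)]
    exact zero_mem _ : RingHom.ker (algebraMap B F) ≤ m) (S := F)
  -- generators of the maximal ideal of the regular local ring
  let R₀ := Localization.AtPrime m
  have : IsRegularLocalRing R₀ := IsRegularRing.isRegularLocalRing_localization m
  obtain ⟨l, hl, hspan⟩ := RegularLocal.Basic.exists_list_of_fg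
    (IsLocalRing.maximalIdeal R₀).fg_of_isNoetherianRing
  have hrep : ∀ y : R₀, ∃ a : B, φ a ∈ σ ∧ Associated (algebraMap B R₀ a) y := by
    intro y
    obtain ⟨⟨a, t⟩, hat⟩ := IsLocalization.surj m.primeCompl y
    obtain ⟨u, hu, hua⟩ := hσ (φ a)
    refine ⟨u • a, by rwa [map_smul], ?_⟩
    obtain ⟨w, hw⟩ := IsLocalization.map_units R₀ t
    have hu' : IsUnit (algebraMap B R₀ (algebraMap k B u)) :=
      ((Ne.isUnit hu).map (algebraMap k B)).map _
    refine (Associated.symm ⟨w * hu'.unit, ?_⟩)
    rw [Algebra.smul_def, map_mul, ← hat, Units.val_mul, hw, IsUnit.unit_spec]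
    ring
  choose c hcσ hc using hrep
  let a : List B := l.map c
  have hgen : Ideal.ofList (a.map (algebraMap B R₀)) = IsLocalRing.maximalIdeal R₀ := by
    rw [← hspan]
    refine le_antisymm (Ideal.span_le.mpr ?_) (Ideal.span_le.mpr ?_)
    · intro z hz
      simp only [a, List.map_map, Set.mem_setOf_eq, List.mem_map] at hz
      obtain ⟨y, hy, rfl⟩ := hz
      exact Ideal.mem_of_dvd _ (hc y).symm.dvd (Ideal.subset_span hy)
    · intro y hy
      exact Ideal.mem_of_dvd _ (hc y).dvd (Ideal.subset_span (by
        simp only [a, List.map_map, Set.mem_setOf_eq, List.mem_map]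
        exact ⟨y, hy, rfl⟩))
  have hreg : RingTheory.Sequence.IsRegular R₀ (a.map (algebraMap B R₀)) :=
    RegularLocal.Basic.isRegular_of_generators _ hgen (by simp [a, hl])
  have ham : ∀ b ∈ a, b ∈ m := fun b hb => (IsLocalization.AtPrime.to_map_mem_maximal_iff R₀ m b).mp
    (hgen ▸ Ideal.subset_span (List.mem_map_of_mem hb))
  have hmap : ∀ i, (Ideal.ofList (a.take i)).map (algebraMap B F) =
      Ideal.ofList ((a.map φ).take i) := fun i => by
    rw [Ideal.map_ofList, List.map_take]; rfl
  refine ⟨q, hq, a.map φ, ?_, ?_, ?_⟩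
  · intro b hb
    obtain ⟨z, hz, rfl⟩ := List.mem_map.mp hb
    refine ⟨?_, ?_⟩
    · obtain ⟨y, -, rfl⟩ := List.mem_map.mp hz
      exact hcσ y
    · have := ham z hz
      rw [← hqm] at this
      exact this
  · intro i hi y hy
    rw [List.getElem_map] at hy
    have hi' : i < a.length := by simpa using hi
    have hy' : a[i] • y ∈ Ideal.ofList (a.take i) • (⊤ : Submodule B F) := by
      rw [Ideal.smul_top_eq_map, Submodule.restrictScalars_mem, hmap, Algebra.smul_def]
      exact hy
    let ℓ := LocalizedModule.mkLinearMap m.primeCompl F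
    let J := Ideal.ofList (a.take i)
    have hJ : ∀ z : LocalizedModule m.primeCompl F,
        z ∈ J • (⊤ : Submodule B (LocalizedModule m.primeCompl F)) ↔
          z ∈ J.map (algebraMap B R₀) • (⊤ : Submodule R₀ (LocalizedModule m.primeCompl F)) := by
      intro z
      rw [← Submodule.restrictScalars_mem B
        (J.map (algebraMap B R₀) • (⊤ : Submodule R₀ (LocalizedModule m.primeCompl F))),
        Ideal.smul_restrictScalars, Submodule.restrictScalars_top]
    have h1 : algebraMap B R₀ a[i] • ℓ y ∈
        J.map (algebraMap B R₀) • (⊤ : Submodule R₀ (LocalizedModule m.primeCompl F)) := by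
      rw [← hJ, algebraMap_smul, ← map_smul]
      exact (FibreRegular.mem_smul_top_localized_iff m ℓ J _).mpr
        ⟨1, fun h => hm.ne_top ((Ideal.eq_top_iff_one m).mpr h), by rwa [one_smul]⟩
    have h2 : ∀ r, algebraMap B R₀ a[i] * r ∈ J.map (algebraMap B R₀) →
        r ∈ J.map (algebraMap B R₀) := by
      intro r hr
      have h3 := hreg.toIsWeaklyRegular.regular_mod_prev i (by simpa using hi')
      rw [isSMulRegular_iff_right_eq_zero_of_smul] at h3
      have h4 := h3 (Submodule.Quotient.mk r) (by
        rw [← Submodule.Quotient.mk_smul, Submodule.Quotient.mk_eq_zero, List.getElem_map,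
          smul_eq_mul, ← List.map_take, ← Ideal.map_ofList, smul_eq_mul, Ideal.mul_top]
        exact hr)
      rwa [Submodule.Quotient.mk_eq_zero, ← List.map_take, ← Ideal.map_ofList, smul_eq_mul,
        Ideal.mul_top] at h4
    obtain ⟨t, ht, hty⟩ := (FibreRegular.mem_smul_top_localized_iff m ℓ J y).mp
      ((hJ _).mpr (colon_of_free _ _ h2 _ h1))
    refine ⟨algebraMap B F t, fun h => ht (hqm ▸ h), ?_⟩
    rw [← hmap, ← Algebra.smul_def]
    rwa [Ideal.smul_top_eq_map, Submodule.restrictScalars_mem] at hty
  · intro P hP hPq hgP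
    have hle : P.comap (algebraMap B F) ≤ m := hqm ▸ Ideal.comap_mono hPq
    have hge : m ≤ P.comap (algebraMap B F) := by
      intro z hz
      have h1 : algebraMap B R₀ z ∈ (Ideal.ofList a).map (algebraMap B R₀) := by
        rw [Ideal.map_ofList, hgen]
        exact (IsLocalization.AtPrime.to_map_mem_maximal_iff R₀ m z).mpr hz
      obtain ⟨t, ht, htz⟩ :=
        (IsLocalization.algebraMap_mem_map_algebraMap_iff m.primeCompl R₀ _ z).mp h1
      have h2 : Ideal.ofList a ≤ P.comap (algebraMap B F) := by
        rw [← Ideal.map_le_iff_le_comap, Ideal.map_ofList]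
        exact hgP
      exact ((Ideal.IsPrime.comap (algebraMap B F) (K := P)).mem_or_mem (h2 htz)).resolve_left
        fun h => ht (hle h)
    have : P.IsMaximal := Ideal.isMaximal_of_isIntegral_of_isMaximal_comap P
      (le_antisymm hle hge ▸ hm)
    exact this.eq_of_le hq.ne_top hPq

theorem exists_slice (R S : Type u) [CommRing R] [CommRing S] [Algebra R S]
    [Algebra.FiniteType R S] (p : Ideal R) [p.IsPrime]
    [Nontrivial (S ⊗[R] p.ResidueField)] :
    ∃ (Q : Ideal S) (_ : Q.IsPrime) (c : List S), Q.comap (algebraMap R S) = p ∧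
      (∀ b ∈ c, b ∈ Q) ∧
      (∀ i (hi : i < c.length), ∀ y : S ⊗[R] p.ResidueField,
        c[i] • y ∈ Ideal.ofList (c.take i) • (⊤ : Submodule S (S ⊗[R] p.ResidueField)) →
        ∃ s, s ∉ Q ∧ s • y ∈ Ideal.ofList (c.take i) •
          (⊤ : Submodule S (S ⊗[R] p.ResidueField))) ∧
      ∀ P : Ideal S, P.IsPrime → P.comap (algebraMap R S) = p → Ideal.ofList c ≤ P →
        (P ≤ Q ∨ Q ≤ P) → P = Q := by
  classical
  let F := S ⊗[R] p.ResidueField
  let : Algebra p.ResidueField F := Algebra.TensorProduct.rightAlgebra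
  have : Algebra.FiniteType p.ResidueField F :=
    Algebra.FiniteType.equiv (inferInstance : Algebra.FiniteType p.ResidueField
      (p.ResidueField ⊗[R] S))
      { (Algebra.TensorProduct.comm R p.ResidueField S).toRingEquiv with
        commutes' := fun r => by
          simp [Algebra.TensorProduct.algebraMap_apply]
          rfl }
  have hclear : ∀ z : F, ∃ (t : R) (s : S), t ∉ p ∧ t • z = algebraMap S F s := by
    intro z
    induction z using TensorProduct.induction_on with
    | zero => exact ⟨1, 0, fun h => (inferInstance : p.IsPrime).ne_top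
        ((Ideal.eq_top_iff_one p).mpr h), by simp⟩
    | add a b ha hb =>
      obtain ⟨t, H, ht, h⟩ := ha
      obtain ⟨t', H', ht', h'⟩ := hb
      refine ⟨t * t', t' • H + t • H', fun hh => ((inferInstance : p.IsPrime).mem_or_mem hh).elim
        ht ht', ?_⟩
      rw [map_add, Algebra.smul_def t' H, Algebra.smul_def t H', map_mul, map_mul,
        ← IsScalarTower.algebraMap_apply, ← IsScalarTower.algebraMap_apply, ← Algebra.smul_def,
        ← Algebra.smul_def, ← h, ← h', smul_add, smul_smul, smul_smul, mul_comm t' t]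
    | tmul f k =>
      obtain ⟨a, t, ht, h⟩ := FibreRegular.exists_smul_eq_algebraMap p k
      refine ⟨t, a • f, ht, ?_⟩
      rw [← TensorProduct.tmul_smul, Algebra.smul_def t k, h, Algebra.algebraMap_eq_smul_one,
        ← TensorProduct.smul_tmul, Algebra.TensorProduct.algebraMap_apply]
      simp
  obtain ⟨q, hq, g, hg, hreg, hmin⟩ := exists_point p.ResidueField F (Set.range (algebraMap S F))
    fun z => by
      obtain ⟨t, s, ht, hts⟩ := hclear z
      refine ⟨algebraMap R _ t, fun h => ht (Ideal.algebraMap_residueField_eq_zero.mp h), s, ?_⟩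
      rw [← hts, algebraMap_smul]
  obtain ⟨c, rfl⟩ : ∃ c : List S, c.map (algebraMap S F) = g := by
    clear hreg hmin
    induction g with
    | nil => exact ⟨[], rfl⟩
    | cons b g ih =>
      obtain ⟨s, rfl⟩ := (hg b (by simp)).1
      obtain ⟨c, rfl⟩ := ih fun b hb => hg b (by simp [hb])
      exact ⟨s :: c, rfl⟩
  have hmem : ∀ (i : ℕ) (y : F), y ∈ Ideal.ofList (c.take i) • (⊤ : Submodule S F) ↔
      y ∈ Ideal.ofList ((c.map (algebraMap S F)).take i) := fun i y => by
    rw [Ideal.smul_top_eq_map, Submodule.restrictScalars_mem, Ideal.map_ofList, List.map_take]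
  have hQp : (q.comap (algebraMap S F)).comap (algebraMap R S) = p := by
    rw [Ideal.comap_comap, ← IsScalarTower.algebraMap_eq]
    ext r
    rw [Ideal.mem_comap, IsScalarTower.algebraMap_apply R p.ResidueField F]
    refine ⟨fun h => ?_, fun h => by simp [Ideal.algebraMap_residueField_eq_zero.mpr h]⟩
    by_contra hr
    exact hq.ne_top (Ideal.eq_top_of_isUnit_mem _ h ((Ne.isUnit fun h0 =>
      hr (Ideal.algebraMap_residueField_eq_zero.mp h0)).map _))
  refine ⟨q.comap (algebraMap S F), Ideal.IsPrime.comap _, c, hQp,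
    fun b hb => (hg _ (List.mem_map_of_mem hb)).2, ?_, ?_⟩
  · intro i hi y hy
    rw [hmem, Algebra.smul_def] at hy
    obtain ⟨s, hs, hsy⟩ := hreg i (by simpa using hi) y (by rwa [List.getElem_map])
    obtain ⟨t, s', ht, hts⟩ := hclear s
    have hu : IsUnit (algebraMap R F t) := by
      rw [IsScalarTower.algebraMap_apply R p.ResidueField F]
      exact (Ne.isUnit fun h0 => ht (Ideal.algebraMap_residueField_eq_zero.mp h0)).map _
    refine ⟨s', fun h => hs ((Ideal.unit_mul_mem_iff_mem q hu).mp ?_), ?_⟩
    · rw [← Algebra.smul_def, hts]; exact h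
    · rw [hmem, Algebra.smul_def, ← hts, smul_mul_assoc, Algebra.smul_def]
      exact Ideal.mul_mem_left _ _ hsy
  · intro P hP hPp hcP hcmp
    let π : F →+* P.ResidueField := (Algebra.TensorProduct.lift (R := R) (S := R)
      (IsScalarTower.toAlgHom R S P.ResidueField)
      (Ideal.ResidueField.mapₐ p P (Algebra.ofId R S) hPp.symm)
      (fun _ _ => Commute.all _ _)).toRingHom
    have hπ : (RingHom.ker π).comap (algebraMap S F) = P := by
      ext s
      show π (algebraMap S F s) = 0 ↔ s ∈ P
      rw [show π (algebraMap S F s) = algebraMap S P.ResidueField s from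
        (Algebra.TensorProduct.lift_tmul _ _ _ s 1).trans (by simp),
        Ideal.algebraMap_residueField_eq_zero]
    have hback : ∀ (A : Ideal F) (z : F), A ≠ ⊤ → ∀ (B : Ideal F),
        A.comap (algebraMap S F) ≤ B.comap (algebraMap S F) → z ∈ A → z ∈ B := by
      intro A z hA B hAB hz
      obtain ⟨t, s, ht, hts⟩ := hclear z
      have hu : IsUnit (algebraMap R F t) := by
        rw [IsScalarTower.algebraMap_apply R p.ResidueField F]
        exact (Ne.isUnit fun h0 => ht (Ideal.algebraMap_residueField_eq_zero.mp h0)).map _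
      refine (Ideal.unit_mul_mem_iff_mem B hu).mp ?_
      rw [← Algebra.smul_def, hts]
      refine hAB (show algebraMap S F s ∈ A from ?_)
      rw [← hts, Algebra.smul_def]
      exact A.mul_mem_left _ hz
    have hk : (RingHom.ker π).IsPrime := RingHom.ker_isPrime _
    rcases hcmp with h | h
    · have h1 : RingHom.ker π ≤ q := fun z hz => hback _ z hk.ne_top q (hπ.symm ▸ h) hz
      have h2 := hmin _ hk h1 (by
        rw [← Ideal.map_ofList, Ideal.map_le_iff_le_comap, hπ]; exact hcP)
      rw [← hπ, h2]
    · have h1 : q ≤ RingHom.ker π := fun z hz => hback _ z hq.ne_top _ (hπ.symm ▸ h) hz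
      rw [← hπ, ← hq.eq_of_le hk.ne_top h1]

theorem exists_nhd (R S : Type u) [CommRing R] [CommRing S] [Algebra R S]
    [Algebra.FinitePresentation R S] [Module.FaithfullyFlat R S] (p : PrimeSpectrum R) :
    ∃ (T : Type u) (_ : CommRing T) (_ : Algebra R T), Algebra.QuasiFinite R T ∧
      Module.Flat R T ∧ Algebra.FinitePresentation R T ∧ Nonempty (S →ₐ[R] T) ∧
      p ∈ Set.range (PrimeSpectrum.comap (algebraMap R T)) := by
  classical
  obtain ⟨Q, hQ, c, hQp, hcQ, hreg, hmin⟩ := exists_slice R S p.asIdeal
  obtain ⟨p, hp⟩ := p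
  subst hQp
  have hflat := (FibreRegular.flatAt_quotient_take (R := R) (M := S) Q c hcQ
    (FlatAt.of_flat Q hQ.ne_top) hreg).2 c.length le_rfl
  rw [List.take_length] at hflat
  let I := Ideal.ofList c
  let T := S ⧸ I
  have hIQ : I ≤ Q := Ideal.span_le.mpr hcQ
  have hflatT : FlatAt R T Q := hflat.of_linearEquiv
    (Submodule.quotEquivOfEq _ _ (by rw [smul_eq_mul, Ideal.mul_top]))
  have hIfg : I.FG := Submodule.fg_span (List.finite_toSet _)
  have : Algebra.FinitePresentation R T := Algebra.FinitePresentation.quotient hIfg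
  let q : PrimeSpectrum T := ⟨Q.map (Ideal.Quotient.mk I),
    Ideal.map_isPrime_of_surjective Ideal.Quotient.mk_surjective
      (by rw [Ideal.mk_ker]; exact hIQ)⟩
  have hqQ : q.asIdeal.comap (Ideal.Quotient.mkₐ S I) = Q := by
    show (Q.map (Ideal.Quotient.mk I)).comap (Ideal.Quotient.mk I) = Q
    rw [Ideal.comap_map_of_surjective _ Ideal.Quotient.mk_surjective, ← RingHom.ker_eq_comap_bot,
      Ideal.mk_ker, sup_eq_left.mpr hIQ]
  have : q.asIdeal.IsPrime := q.2
  have hflatq : FlatAt R T q.asIdeal :=
    (flatAt_comap_iff (Ideal.Quotient.mkₐ S I).toRingHom Ideal.Quotient.mk_surjective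
      (fun s t => (Algebra.smul_def s t).symm) q.asIdeal).mp (by convert hflatT; exact hqQ)
  have hqf : Algebra.QuasiFiniteAt R q.asIdeal := by
    refine Algebra.QuasiFiniteAt.of_isOpen_singleton_fiber q ?_
    let e := PrimeSpectrum.preimageHomeomorphFiber R T (q.comap (algebraMap R T))
    rw [← e.isOpen_image, Set.image_singleton]
    have : IsNoetherianRing ((q.comap (algebraMap R T)).asIdeal.Fiber T) :=
      Algebra.FiniteType.isNoetherianRing (q.comap (algebraMap R T)).asIdeal.ResidueField _
    have : IsJacobsonRing ((q.comap (algebraMap R T)).asIdeal.Fiber T) :=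
      isJacobsonRing_of_finiteType (A := (q.comap (algebraMap R T)).asIdeal.ResidueField)
    refine ((PrimeSpectrum.isOpen_singleton_tfae_of_isNoetherian_of_isJacobsonRing _).out 2 0).mp ?_
    have hcomp : ∀ y : PrimeSpectrum T,
        PrimeSpectrum.comap (algebraMap R T) y = PrimeSpectrum.comap (algebraMap R T) q →
        (y ≤ q ∨ q ≤ y) → y = q := by
      intro y hy hle
      have hcm : ∀ y : PrimeSpectrum T, (y.asIdeal.comap (Ideal.Quotient.mkₐ S I)).comap
          (algebraMap R S) = y.asIdeal.comap (algebraMap R T) := fun y => rfl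
      have h1 := hmin (y.asIdeal.comap (Ideal.Quotient.mkₐ S I)) (Ideal.IsPrime.comap _) (by
          refine (hcm y).trans ((congrArg PrimeSpectrum.asIdeal hy).trans ((hcm q).symm.trans ?_))
          exact congrArg (Ideal.comap (algebraMap R S)) hqQ)
        (fun z hz => by
          show Ideal.Quotient.mk I z ∈ y.asIdeal
          rw [Ideal.Quotient.eq_zero_iff_mem.mpr hz]; exact zero_mem _)
        (hle.imp (fun h => hqQ ▸ Ideal.comap_mono h) fun h => hqQ ▸ Ideal.comap_mono h)
      rw [← hqQ] at h1
      exact PrimeSpectrum.ext (Ideal.comap_injective_of_surjective _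
        Ideal.Quotient.mk_surjective h1)
    refine ⟨?_, ?_⟩
    · rw [← Set.image_singleton, e.isClosed_image]
      refine isClosed_of_closure_subset fun z hz => ?_
      rw [← specializes_iff_mem_closure, subtype_specializes_iff, ← PrimeSpectrum.le_iff_specializes]
        at hz
      exact Subtype.ext (hcomp z.1 z.2 (Or.inr hz))
    · intro y z hzy hy
      rw [Set.mem_singleton_iff] at hy
      subst hy
      have h := hzy.map e.symm.continuous
      rw [e.symm_apply_apply, subtype_specializes_iff, ← PrimeSpectrum.le_iff_specializes] at h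
      rw [Set.mem_singleton_iff, ← e.apply_symm_apply z]
      exact congrArg e (Subtype.ext (hcomp _ (e.symm z).2 (Or.inl h)))
  obtain ⟨S', hS', r, hrq, hbij⟩ :=
    Algebra.QuasiFiniteAt.exists_fg_and_exists_notMem_and_awayMap_bijective (R := R) q.asIdeal
  have : Module.Finite R S' := ⟨(Submodule.fg_top _).mpr hS'⟩
  have : Algebra.QuasiFinite R (Localization.Away r) := .trans _ S' _
  have : Algebra.QuasiFinite R (Localization.Away r.1) :=
    .of_surjective_algHom (Localization.awayMapₐ S'.val r) hbij.2
  obtain ⟨_, ⟨g, rfl⟩, hgq, hgU⟩ :=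
    PrimeSpectrum.isTopologicalBasis_basic_opens.exists_subset_of_mem_open
      (show q ∈ {x : PrimeSpectrum T | FlatAt R T x.asIdeal} from hflatq)
      OpenLocus.isOpen_flatLocus
  let h : T := g * r.1
  have hhq : q ∈ PrimeSpectrum.basicOpen h := fun hmem =>
    (q.2.mem_or_mem hmem).elim hgq hrq
  have hhU : (PrimeSpectrum.basicOpen h : Set (PrimeSpectrum T)) ⊆
      {x : PrimeSpectrum T | FlatAt R T x.asIdeal} :=
    fun x hx => hgU fun hmem => hx (Ideal.mul_mem_right _ _ hmem)
  let U := Localization.Away (algebraMap T (Localization.Away r.1) g)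
  have : IsLocalization.Away h U := IsLocalization.Away.mul (Localization.Away r.1) U r.1 g
  refine ⟨U, inferInstance, inferInstance, ?_, ?_, ?_,
    ⟨(IsScalarTower.toAlgHom R T U).comp (Ideal.Quotient.mkₐ R I)⟩, ?_⟩
  · infer_instance
  · refine Module.flat_of_isLocalized_maximal U U
      (fun P => Localization.AtPrime P) (fun P => Algebra.linearMap U (Localization.AtPrime P))
      fun P hP => ?_
    have hP' := (hhU (show PrimeSpectrum.comap (algebraMap T U) ⟨P, hP.isPrime⟩ ∈
      (PrimeSpectrum.basicOpen h : Set _) from by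
        rw [← PrimeSpectrum.localization_away_comap_range U h]; exact ⟨_, rfl⟩))
    have : IsLocalization.AtPrime (Localization.AtPrime P) (P.comap (algebraMap T U)) :=
      IsLocalization.isLocalization_isLocalization_atPrime_isLocalization (.powers h) _ P
    have : IsLocalizedModule (P.comap (algebraMap T U)).primeCompl
        (IsScalarTower.toAlgHom T T (Localization.AtPrime P)).toLinearMap :=
      isLocalizedModule_iff_isLocalization.mpr inferInstance
    let ℓ : T →ₗ[T] Localization.AtPrime P :=
      (IsScalarTower.toAlgHom T T (Localization.AtPrime P)).toLinearMap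
    have hL := (flatAt_iff_localizedModule _).mp hP'
    exact (Module.Flat.equiv_iff
      ((IsLocalizedModule.iso (P.comap (algebraMap T U)).primeCompl ℓ).restrictScalars R)).mp hL
  · have : Algebra.FinitePresentation T U := IsLocalization.Away.finitePresentation h
    exact Algebra.FinitePresentation.trans R T U
  · have hqU : q ∈ Set.range (PrimeSpectrum.comap (algebraMap T U)) := by
      rw [PrimeSpectrum.localization_away_comap_range U h]; exact hhq
    obtain ⟨z, hz⟩ := hqU
    refine ⟨z, ?_⟩
    rw [IsScalarTower.algebraMap_eq R T U, PrimeSpectrum.comap_comp_apply, hz]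
    refine PrimeSpectrum.ext ?_
    show q.asIdeal.comap (algebraMap R T) = Q.comap (algebraMap R S)
    exact congrArg (Ideal.comap (algebraMap R S)) hqQ

theorem exists_dominating (R S : Type u) [CommRing R] [CommRing S] [Algebra R S]
    [Algebra.FinitePresentation R S] [Module.FaithfullyFlat R S] :
    ∃ (T : Type u) (_ : CommRing T) (_ : Algebra R T), Algebra.QuasiFinite R T ∧
      Module.FaithfullyFlat R T ∧ Algebra.FinitePresentation R T ∧ Nonempty (S →ₐ[R] T) := by
  classical
  choose T _ _ hqf hfl hfp hmap hp using fun p : PrimeSpectrum R => exists_nhd R S p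
  obtain ⟨s, hs⟩ := isCompact_univ.elim_finite_subcover
    (fun p => Set.range (PrimeSpectrum.comap (algebraMap R (T p))))
    (fun p => by
      have := hfl p; have := hfp p
      exact (PrimeSpectrum.isOpenMap_comap_of_hasGoingDown_of_finitePresentation).isOpen_range)
    (fun p _ => Set.mem_iUnion.mpr ⟨p, hp p⟩)
  have := fun p => hfl p
  have := fun p => hfp p
  have := fun p => hqf p
  let U := (i : s) → T i.1
  have : Algebra.FiniteType R U := inferInstance
  have : Algebra.QuasiFinite R U := Algebra.QuasiFinite.iff_finite_comap_preimage_singleton.mpr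
    fun x => by
      refine (Set.finite_iUnion fun i : s => ((Algebra.QuasiFinite.iff_finite_comap_preimage_singleton.mp
        (hqf i.1)) x).image (PrimeSpectrum.comap (Pi.evalRingHom (fun i : s => T i.1) i))).subset ?_
      intro z hz
      obtain ⟨i, w, rfl⟩ := PrimeSpectrum.exists_comap_evalRingHom_eq z
      exact Set.mem_iUnion.mpr ⟨i, w, hz, rfl⟩
  have : Module.Flat R U := Module.Flat.of_linearEquiv
    (DirectSum.linearEquivFunOnFintype R s fun i => T i.1).symm
  refine ⟨U, inferInstance, inferInstance, inferInstance, ?_, ?_,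
    ⟨AlgHom.pi fun i => (hmap i.1).some⟩⟩
  · refine Module.FaithfullyFlat.of_comap_surjective fun x => ?_
    obtain ⟨i, hi, z, hz⟩ : ∃ i ∈ s, x ∈ Set.range (PrimeSpectrum.comap (algebraMap R (T i))) := by
      simpa using hs (Set.mem_univ x)
    refine ⟨PrimeSpectrum.comap (Pi.evalRingHom (fun i : s => T i.1) ⟨i, hi⟩) z, ?_⟩
    rw [← hz, ← PrimeSpectrum.comap_comp_apply]
    rfl
  · infer_instance

end Groth.Agent.Flat.QuasiFiniteDominate
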