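import Groth.Agent.Flat.TorDim
import Mathlib.RingTheory.Noetherian.Basic
import Mathlib.RingTheory.LocalRing.ResidueField.Ideal

/-!
# Dévissage of vanishing of Tor in the coefficient module
-/

set_option autoImplicit false

noncomputable section

namespace Groth.Agent.Flat.TorDevissage

universe u

open CategoryTheory Groth.Agent.Flat.LocalCriterion Groth.Agent.Flat.TorOne Groth.Agent.Flat.TorDim
open scoped TensorProduct

variable {R : Type u} [CommRing R] {M K P N : Type u} [AddCommGroup M] [Module R M] [AddCommGroup K] [Module R K]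
  [AddCommGroup P] [Module R P] [Module.Flat R P] [AddCommGroup N] [Module R N]

theorem torZero_iff_rTensor (ι : K →ₗ[R] P) (π : P →ₗ[R] M) (hι : Function.Injective ι) (he : Function.Exact ι π)
    (hπ : Function.Surjective π) : TorZero R M N ↔ Function.Injective (ι.rTensor N) := by
  refine Iff.trans ⟨torZero_symm, torZero_symm⟩ ((torZero_iff_of_cover ι π hι he hπ).trans ?_)
  exact LinearMap.lTensor_inj_iff_rTensor_inj N ι

/-- `Tor_p(M, N) = 0` and `Tor_{p+1}(M, N/N₁) = 0` give `Tor_p(M, N₁) = 0` -/
theorem torZero_left (ι : K →ₗ[R] P) (π : P →ₗ[R] M) (hι : Function.Injective ι) (he : Function.Exact ι π)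
    (hπ : Function.Surjective π) (N₁ : Submodule R N) (h₂ : TorZero R M N) (h₃ : TorZero R K (N ⧸ N₁)) :
    TorZero R M N₁ := by
  rw [torZero_iff_rTensor ι π hι he hπ] at h₂ ⊢
  have hK : Function.Injective (N₁.subtype.lTensor K) :=
    h₃.lTensor_injective N₁.injective_subtype (LinearMap.exact_subtype_mkQ N₁) N₁.mkQ_surjective
  refine (LinearMap.ker_eq_bot (f := ι.rTensor N₁)).mp ((Submodule.eq_bot_iff _).mpr fun x hx => ?_)
  rw [LinearMap.mem_ker] at hx
  refine hK ?_
  rw [map_zero]
  refine h₂ ?_
  rw [map_zero, ← LinearMap.comp_apply, LinearMap.rTensor_comp_lTensor, ← LinearMap.lTensor_comp_rTensor,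
    LinearMap.comp_apply, hx, map_zero]

/-- directed unions -/
theorem torZero_union {ι' : Type u} [Preorder ι'] [IsDirectedOrder ι'] [Nonempty ι'] (S : ι' → Submodule R N)
    (hS : Monotone S) (htop : ∀ x, ∃ k, x ∈ S k) (h : ∀ k, TorZero R M (S k)) : TorZero R M N := by
  rw [TorZero]
  let κ := (LinearMap.ker (pres R M)).subtype
  refine (LinearMap.ker_eq_bot (f := κ.rTensor N)).mp ((Submodule.eq_bot_iff _).mpr fun x hx => ?_)
  rw [LinearMap.mem_ker] at hx
  let K' := LinearMap.ker (pres R M)
  have key : ∀ y : K' ⊗[R] N, ∃ k, y ∈ LinearMap.range ((S k).subtype.lTensor K') := fun y => by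
    induction y using TensorProduct.induction_on with
    | zero => exact ⟨Classical.arbitrary ι', zero_mem _⟩
    | tmul v n =>
      obtain ⟨k, hk⟩ := htop n
      exact ⟨k, v ⊗ₜ (⟨n, hk⟩ : S k), rfl⟩
    | add v w hv hw =>
      obtain ⟨k, hk⟩ := hv
      obtain ⟨l, hl⟩ := hw
      obtain ⟨m, hkm, hlm⟩ := exists_ge_ge k l
      have hle : ∀ k, k ≤ m → LinearMap.range ((S k).subtype.lTensor K') ≤ LinearMap.range ((S m).subtype.lTensor K') :=
        fun k h => by
          rw [show (S k).subtype = (S m).subtype ∘ₗ Submodule.inclusion (hS h) from rfl, LinearMap.lTensor_comp]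
          exact LinearMap.range_comp_le_range _ _
      exact ⟨m, add_mem (hle _ hkm hk) (hle _ hlm hl)⟩
  obtain ⟨k, y, rfl⟩ := key x
  have hy : y = 0 := by
    refine h k (Module.Flat.lTensor_preserves_injective_linearMap (M := Fr R M) (S k).subtype
      Subtype.val_injective ?_)
    rw [map_zero, map_zero, ← LinearMap.comp_apply, LinearMap.lTensor_comp_rTensor,
      ← LinearMap.rTensor_comp_lTensor, LinearMap.comp_apply, hx]
  rw [hy, map_zero]

theorem torZero_congr {N' : Type u} [AddCommGroup N'] [Module R N'] (e : N ≃ₗ[R] N') (h : TorZero R M N) :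
    TorZero R M N' := by
  rw [TorZero] at h ⊢
  let κ := (LinearMap.ker (pres R M)).subtype
  intro x y hxy
  obtain ⟨x, rfl⟩ := (e.lTensor (LinearMap.ker (pres R M))).surjective x
  obtain ⟨y, rfl⟩ := (e.lTensor (LinearMap.ker (pres R M))).surjective y
  have hcomm : ∀ z, κ.rTensor N' (e.lTensor _ z) = e.lTensor _ (κ.rTensor N z) := fun z =>
    LinearMap.congr_fun ((LinearMap.rTensor_comp_lTensor _ κ e.toLinearMap).trans
      (LinearMap.lTensor_comp_rTensor _ κ e.toLinearMap).symm) z
  rw [hcomm, hcomm] at hxy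
  exact congrArg _ (h ((e.lTensor _).injective hxy))

/-- cyclic modules suffice -/
theorem torZero_of_cyclic (Φ : Ideal R → Prop) (hΦ : ∀ I, Φ I → TorZero R M (R ⧸ I))
    (hann : ∀ (N' : Submodule R N) (x : N), Φ (N'.comap (LinearMap.toSpanSingleton R N x))) : TorZero R M N := by
  classical
  refine torZero_union (fun s : Finset N => Submodule.span R (s : Set N)) (fun s t h => Submodule.span_mono h)
    (fun x => ⟨{x}, Submodule.subset_span (by simp)⟩) fun s => ?_
  induction s using Finset.induction_on with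
  | empty =>
    rw [TorZero]
    haveI : Subsingleton (Submodule.span R ((∅ : Finset N) : Set N)) := by
      rw [Finset.coe_empty, Submodule.span_empty]; infer_instance
    intro x y _
    exact Subsingleton.elim x y
  | insert a s _ ih =>
    let W := Submodule.span R ((insert a s : Finset N) : Set N)
    have hle : Submodule.span R (s : Set N) ≤ W := Submodule.span_mono (by simp)
    let W₁ : Submodule R W := (Submodule.span R (s : Set N)).comap W.subtype
    refine TorZero.ext W₁ (torZero_congr (Submodule.comapSubtypeEquivOfLe hle).symm ih) ?_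
    have ha : a ∈ W := Submodule.subset_span (by simp)
    let f : R →ₗ[R] W ⧸ W₁ := W₁.mkQ ∘ₗ LinearMap.toSpanSingleton R W ⟨a, ha⟩
    have hf : Function.Surjective f := fun q => by
      obtain ⟨⟨x, hx⟩, rfl⟩ := W₁.mkQ_surjective q
      have hx' : x ∈ Submodule.span R (insert a (s : Set N)) := by simpa [W] using hx
      obtain ⟨r, z, hz, rfl⟩ := Submodule.mem_span_insert.1 hx'
      exact ⟨r, (Submodule.Quotient.eq W₁).2 (show r • a - (r • a + z) ∈ Submodule.span R (s : Set N) by
        rw [sub_add_cancel_left]; exact neg_mem hz)⟩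
    refine torZero_congr ((Submodule.quotEquivOfEq _ _ ?_).trans (f.quotKerEquivOfSurjective hf))
      (hΦ _ (hann (Submodule.span R (s : Set N)) a))
    ext r
    simp [f, W₁, LinearMap.mem_ker, Submodule.Quotient.mk_eq_zero, LinearMap.toSpanSingleton_apply]

/-- over a Noetherian ring residue fields suffice -/
theorem torZero_quot_of_residueFields [IsNoetherianRing R] {S Q : ℕ → Type u} [∀ i, AddCommGroup (S i)]
    [∀ i, Module R (S i)] [∀ i, AddCommGroup (Q i)] [∀ i, Module R (Q i)] (s : Syz R S Q) (n : ℕ)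
    (h : ∀ (p : Ideal R) [p.IsPrime] (k : ℕ), n ≤ k → TorZero R (S k) p.ResidueField) (J : Ideal R) :
    ∀ k, n ≤ k → TorZero R (S k) (R ⧸ J) := by
  refine IsNoetherian.induction (P := fun J : Ideal R => ∀ k, n ≤ k → TorZero R (S k) (R ⧸ J)) (fun (J : Ideal R) IH => ?_) J
  intro k hk
  by_cases hJ : J = ⊤
  · rw [TorZero]
    subst hJ
    haveI : Subsingleton (R ⧸ (⊤ : Ideal R)) := Submodule.Quotient.subsingleton_iff.2 rfl
    intro x y _
    exact Subsingleton.elim x y
  by_cases hp : J.IsPrime
  · haveI := hp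
    let f : R →ₗ[R] J.ResidueField := Algebra.linearMap R J.ResidueField
    have hker : LinearMap.ker f = J := by
      ext r
      simp [f, Ideal.algebraMap_residueField_eq_zero]
    refine torZero_congr ((Submodule.quotEquivOfEq _ _ hker.symm).trans f.quotKerEquivRange).symm ?_
    haveI := s.flat k
    refine torZero_left (s.ι k) (s.π k) (s.inj k) (s.exact k) (s.surj k) (LinearMap.range f) (h J k hk) ?_
    refine torZero_of_cyclic (fun I => J < I) (fun I hI => IH I hI (k + 1) (by omega))
      fun N' x => ?_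
    refine lt_of_le_of_ne (fun r hr => ?_) fun heq => ?_
    · obtain ⟨y, rfl⟩ := Submodule.mkQ_surjective _ x
      change r • Submodule.mkQ (LinearMap.range f) y ∈ N'
      rw [← map_smul, Algebra.smul_def, (Ideal.algebraMap_residueField_eq_zero (I := J)).2 hr, zero_mul, map_zero]
      exact zero_mem _
    · obtain ⟨y, rfl⟩ := Submodule.mkQ_surjective _ x
      obtain ⟨a, b, hb, rfl⟩ := IsFractionRing.div_surjective (R ⧸ J) y
      obtain ⟨a, rfl⟩ := Ideal.Quotient.mk_surjective a
      obtain ⟨b, rfl⟩ := Ideal.Quotient.mk_surjective b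
      have hb' : b ∉ J := fun h => by
        simp [Ideal.Quotient.eq_zero_iff_mem.2 h] at hb
      have hbne : algebraMap R J.ResidueField b ≠ 0 := fun h => hb' (Ideal.algebraMap_residueField_eq_zero.1 h)
      refine hb' (heq.symm ▸ (show b ∈ N'.comap _ from ?_))
      change b • Submodule.mkQ (LinearMap.range f) (algebraMap R J.ResidueField a / algebraMap R J.ResidueField b) ∈ N'
      rw [← map_smul, Algebra.smul_def, mul_div_cancel₀ _ hbne,
        show Submodule.mkQ (LinearMap.range f) (algebraMap R J.ResidueField a) = 0 from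
          (Submodule.Quotient.mk_eq_zero _).2 ⟨a, rfl⟩]
      exact zero_mem _
  · rw [Ideal.isPrime_iff, not_and_or, not_not] at hp
    obtain hp | hp := hp
    · exact absurd hp hJ
    push Not at hp
    obtain ⟨a, b, hab, ha, hb⟩ := hp
    let I₁ : Submodule R (R ⧸ J) := LinearMap.range (LinearMap.toSpanSingleton R (R ⧸ J) (Ideal.Quotient.mk J a))
    let g := LinearMap.toSpanSingleton R (R ⧸ J) (Ideal.Quotient.mk J a)
    refine TorZero.ext I₁ (torZero_congr g.quotKerEquivRange (IH _ ?_ k hk)) ?_
    · refine lt_of_le_of_ne (fun r hr => ?_) fun heq => hb (heq.symm ▸ (show b ∈ LinearMap.ker g from ?_))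
      · change r • Ideal.Quotient.mk J a = 0
        exact (Ideal.Quotient.eq_zero_iff_mem.2 (J.mul_mem_right a hr) :)
      · change b • Ideal.Quotient.mk J a = 0
        exact (Ideal.Quotient.eq_zero_iff_mem.2 (mul_comm b a ▸ hab) :)
    · let q : R →ₗ[R] (R ⧸ J) ⧸ I₁ := I₁.mkQ ∘ₗ J.mkQ
      have hq : Function.Surjective q := I₁.mkQ_surjective.comp (Submodule.mkQ_surjective _)
      refine torZero_congr (q.quotKerEquivOfSurjective hq) (IH _ ?_ k hk)
      refine lt_of_le_of_ne (fun r hr => ?_) fun heq => ha (heq.symm ▸ (show a ∈ LinearMap.ker q from ?_))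
      · change I₁.mkQ (J.mkQ r) = 0
        rw [show J.mkQ r = 0 from (Submodule.Quotient.mk_eq_zero _).2 hr, map_zero]
      · exact (Submodule.Quotient.mk_eq_zero _).2 ⟨1, one_smul R _⟩

end Groth.Agent.Flat.TorDevissage
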