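import Groth.Agent.Flat.TorOne
import Mathlib.RingTheory.Flat.Tensor
import Mathlib.RingTheory.Flat.Stability
import Mathlib.Algebra.Category.ModuleCat.Monoidal.Basic
import Mathlib.Algebra.Category.ModuleCat.EpiMono

/-!
Tor dimension through flatness of syzygies.
-/

set_option autoImplicit false

noncomputable section

namespace Groth.Agent.Flat.TorDim

universe u

open CategoryTheory Groth.Agent.Flat.LocalCriterion Groth.Agent.Flat.TorOne
open scoped TensorProduct MonoidalCategory

variable {R : Type u} [CommRing R]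

theorem torZero_symm {M N : Type u} [AddCommGroup M] [Module R M] [AddCommGroup N] [Module R N]
    (h : TorZero R M N) : TorZero R N M := by
  have h1 := h.lTensor_injective (Submodule.injective_subtype _)
    (LinearMap.exact_subtype_ker_map (pres R N)) (pres_surjective R N)
  exact (LinearMap.lTensor_inj_iff_rTensor_inj _ _).mp h1

/-- `Tor₁(M, N) = 0` through any flat cover of `N` -/
theorem torZero_iff_of_cover {M N K P : Type u} [AddCommGroup M] [Module R M] [AddCommGroup N]
    [Module R N] [AddCommGroup K] [Module R K] [AddCommGroup P] [Module R P] [Module.Flat R P]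
    (ι : K →ₗ[R] P) (π : P →ₗ[R] N) (hι : Function.Injective ι) (he : Function.Exact ι π)
    (hπ : Function.Surjective π) :
    TorZero R M N ↔ Function.Injective (ι.lTensor M) := by
  refine ⟨fun h => h.lTensor_injective hι he hπ, fun h => torZero_symm ?_⟩
  exact (torZero_iff_lTensor_injective π hπ).mp (by
    let e : K ≃ₗ[R] LinearMap.ker π :=
      (LinearEquiv.ofInjective ι hι).trans (LinearEquiv.ofEq _ _ (LinearMap.exact_iff.mp he).symm)
    have hse : (LinearMap.ker π).subtype = ι.comp e.symm.toLinearMap := by
      ext x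
      obtain ⟨k, rfl⟩ := e.surjective x
      simp only [LinearMap.coe_comp, LinearEquiv.coe_coe, Function.comp_apply,
        LinearEquiv.symm_apply_apply]
      rfl
    rw [hse, LinearMap.lTensor_comp, LinearMap.coe_comp]
    exact h.comp (LinearEquiv.lTensor M e.symm).injective)

/-- dimension shifting -/
theorem torZero_shift {M K P N L Q : Type u} [AddCommGroup M] [Module R M] [AddCommGroup K]
    [Module R K] [AddCommGroup P] [Module R P] [Module.Flat R P] [AddCommGroup N] [Module R N]
    [AddCommGroup L] [Module R L] [AddCommGroup Q] [Module R Q] [Module.Flat R Q]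
    (ι : K →ₗ[R] P) (π : P →ₗ[R] M) (hι : Function.Injective ι) (he : Function.Exact ι π)
    (hπ : Function.Surjective π)
    (κ : L →ₗ[R] Q) (ρ : Q →ₗ[R] N) (hκ : Function.Injective κ) (hf : Function.Exact κ ρ)
    (hρ : Function.Surjective ρ) :
    TorZero R K N ↔ TorZero R M L := by
  rw [torZero_iff_of_cover κ ρ hκ hf hρ]
  have h2 : Function.Injective (ι.rTensor Q) :=
    Module.Flat.rTensor_preserves_injective_linearMap ι hι
  have h3 : Function.Injective (κ.lTensor P) :=
    Module.Flat.lTensor_preserves_injective_linearMap κ hκ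
  have hcomm : (ι.rTensor Q).comp (κ.lTensor K) = (κ.lTensor P).comp (ι.rTensor L) := by
    rw [LinearMap.rTensor_comp_lTensor, LinearMap.lTensor_comp_rTensor]
  constructor
  · intro h
    refine torZero_symm ((torZero_iff_of_cover ι π hι he hπ).mpr ?_)
    rw [LinearMap.lTensor_inj_iff_rTensor_inj]
    have : Function.Injective ((κ.lTensor P).comp (ι.rTensor L)) := by
      rw [← hcomm, LinearMap.coe_comp]; exact h2.comp h
    rw [LinearMap.coe_comp] at this
    exact this.of_comp
  · intro h
    have h1 := (torZero_iff_of_cover ι π hι he hπ).mp (torZero_symm h)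
    rw [LinearMap.lTensor_inj_iff_rTensor_inj] at h1
    have : Function.Injective ((ι.rTensor Q).comp (κ.lTensor K)) := by
      rw [hcomm, LinearMap.coe_comp]; exact h3.comp h1
    rw [LinearMap.coe_comp] at this
    exact this.of_comp

variable (R) in
/-- A sequence of syzygies of a module. -/
structure Syz (S Q : ℕ → Type u) [∀ i, AddCommGroup (S i)] [∀ i, Module R (S i)]
    [∀ i, AddCommGroup (Q i)] [∀ i, Module R (Q i)] where
  flat : ∀ i, Module.Flat R (Q i)
  ι : ∀ i, S (i + 1) →ₗ[R] Q i
  π : ∀ i, Q i →ₗ[R] S i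
  inj : ∀ i, Function.Injective (ι i)
  exact : ∀ i, Function.Exact (ι i) (π i)
  surj : ∀ i, Function.Surjective (π i)

variable {S Q T W : ℕ → Type u}
  [∀ i, AddCommGroup (S i)] [∀ i, Module R (S i)] [∀ i, AddCommGroup (Q i)] [∀ i, Module R (Q i)]
  [∀ i, AddCommGroup (T i)] [∀ i, Module R (T i)] [∀ i, AddCommGroup (W i)] [∀ i, Module R (W i)]

theorem Syz.shift (s : Syz R S Q) (t : Syz R T W) (i j : ℕ) :
    TorZero R (S (i + 1)) (T j) ↔ TorZero R (S i) (T (j + 1)) := by
  haveI := s.flat i
  haveI := t.flat j
  exact torZero_shift (s.ι i) (s.π i) (s.inj i) (s.exact i) (s.surj i)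
    (t.ι j) (t.π j) (t.inj j) (t.exact j) (t.surj j)

theorem Syz.flip (s : Syz R S Q) (t : Syz R T W) (i j : ℕ) :
    TorZero R (S i) (T j) ↔ TorZero R (S 0) (T (i + j)) := by
  induction i generalizing j with
  | zero => rw [Nat.zero_add]
  | succ i ih => rw [s.shift t, ih, show i + (j + 1) = i + 1 + j by omega]

omit [∀ i, AddCommGroup (T i)] [∀ i, Module R (T i)] [∀ i, AddCommGroup (W i)]
  [∀ i, Module R (W i)] in
theorem Syz.flat_of_le (s : Syz R S Q) {d : ℕ} (hd : Module.Flat R (S d)) {i : ℕ} (hi : d ≤ i) :
    Module.Flat R (S i) := by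
  induction i, hi using Nat.le_induction with
  | base => exact hd
  | succ i _ ih =>
    haveI := s.flat i
    rw [Module.Flat.iff_rTensor_preserves_injective_linearMap]
    intro N N' _ _ _ _ f hf
    have h1 : Function.Injective ((s.ι i).lTensor N) := by
      haveI : Module.Flat R (S i) := ih
      refine (torZero_iff_of_cover (s.ι i) (s.π i) (s.inj i) (s.exact i) (s.surj i)).mp
        (torZero_symm ((torZero_iff_of_cover _ (pres R N) (Submodule.injective_subtype _)
          (LinearMap.exact_subtype_ker_map _) (pres_surjective R N)).mpr ?_))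
      exact Module.Flat.lTensor_preserves_injective_linearMap _ (Submodule.injective_subtype _)
    have h2 : Function.Injective (f.rTensor (Q i)) :=
      Module.Flat.rTensor_preserves_injective_linearMap f hf
    have h3 : ((s.ι i).lTensor N').comp (f.rTensor (S (i + 1))) =
        (f.rTensor (Q i)).comp ((s.ι i).lTensor N) := by
      rw [LinearMap.rTensor_comp_lTensor, LinearMap.lTensor_comp_rTensor]
    have : Function.Injective (((s.ι i).lTensor N').comp (f.rTensor (S (i + 1)))) := by
      rw [h3, LinearMap.coe_comp]; exact h2.comp h1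
    rw [LinearMap.coe_comp] at this
    exact this.of_comp

theorem flat_iff_torZero {M : Type u} [AddCommGroup M] [Module R M] :
    Module.Flat R M ↔ ∀ (N : Type u) [AddCommGroup N] [Module R N], TorZero R M N := by
  refine ⟨fun h N _ _ => (torZero_iff_of_cover _ (pres R N) (Submodule.injective_subtype _)
    (LinearMap.exact_subtype_ker_map _) (pres_surjective R N)).mpr
      (Module.Flat.lTensor_preserves_injective_linearMap _ (Submodule.injective_subtype _)),
    fun h => Module.Flat.iff_lTensor_injective'.mpr fun I => ?_⟩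
  exact (h (R ⧸ I)).lTensor_injective (Submodule.injective_subtype _)
    (LinearMap.exact_subtype_mkQ I) (Submodule.mkQ_surjective I)

section resolution

variable (N : Type u) [AddCommGroup N] [Module R N]

/-- syzygies of the chosen projective resolution -/
def syzMod : ℕ → ModuleCat.{u} R
  | 0 => ModuleCat.of R N
  | 1 => ModuleCat.of R (LinearMap.ker ((projectiveResolution (ModuleCat.of R N)).π.f 0).hom)
  | i + 2 => ModuleCat.of R
      (LinearMap.ker ((projectiveResolution (ModuleCat.of R N)).complex.d (i + 1) i).hom)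

theorem exists_syz : ∃ (S Q : ℕ → ModuleCat.{u} R) (_ : Syz R (fun i => S i) (fun i => Q i)),
    S 0 = ModuleCat.of R N ∧ ∀ (M : Type u) [AddCommGroup M] [Module R M] (p : ℕ),
      Limits.IsZero (((CategoryTheory.Tor (ModuleCat.{u} R) (p + 1)).obj (ModuleCat.of R M)).obj
        (ModuleCat.of R N)) ↔ TorZero R (S p) M := by
  let P := projectiveResolution (ModuleCat.of R N)
  have hproj : ∀ i, Module.Flat R (P.complex.X i) := fun i => by
    have := (IsProjective.iff_projective (R := R) (P := P.complex.X i)).2 (P.projective i)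
    exact Module.Flat.of_projective
  have hd : ∀ i, Function.Exact (P.complex.d (i + 2) (i + 1)).hom (P.complex.d (i + 1) i).hom := by
    intro i
    have := P.exact_succ i
    rw [ShortComplex.ShortExact.moduleCat_exact_iff_function_exact] at this
    exact this
  have hs : (ShortComplex.mk (P.complex.d 1 0) (P.π.f 0) P.complex_d_comp_π_f_zero).Exact :=
    ShortComplex.exact_of_g_is_cokernel _ P.isColimitCokernelCofork
  have he : Function.Exact (P.complex.d 1 0).hom (P.π.f 0).hom :=
    (ShortComplex.ShortExact.moduleCat_exact_iff_function_exact _).1 hs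
  have hsurj : Function.Surjective (P.π.f 0).hom :=
    (ModuleCat.epi_iff_surjective (P.π.f 0)).1 inferInstance
  let ι : ∀ i, syzMod (R := R) N (i + 1) →ₗ[R] P.complex.X i := fun i =>
    match i with
    | 0 => (LinearMap.ker (P.π.f 0).hom).subtype
    | i + 1 => (LinearMap.ker (P.complex.d (i + 1) i).hom).subtype
  let π : ∀ i, P.complex.X i →ₗ[R] syzMod (R := R) N i := fun i =>
    match i with
    | 0 => (P.π.f 0).hom
    | 1 => LinearMap.codRestrict _ (P.complex.d 1 0).hom fun x => he.apply_apply_eq_zero x
    | i + 2 => LinearMap.codRestrict _ (P.complex.d (i + 2) (i + 1)).hom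
        fun x => (hd i).apply_apply_eq_zero x
  have hπsurj : ∀ i, Function.Surjective (π i) := by
    intro i
    match i with
    | 0 => exact hsurj
    | 1 =>
      intro ⟨y, hy⟩
      obtain ⟨x, hx⟩ := (he y).1 hy
      exact ⟨x, Subtype.ext hx⟩
    | i + 2 =>
      intro ⟨y, hy⟩
      obtain ⟨x, hx⟩ := (hd i y).1 hy
      exact ⟨x, Subtype.ext hx⟩
  have hιinj : ∀ i, Function.Injective (ι i) := fun i => by
    match i with
    | 0 => exact Subtype.val_injective
    | i + 1 => exact Subtype.val_injective
  have hex : ∀ i, Function.Exact (ι i) (π i) := by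
    intro i
    match i with
    | 0 => exact LinearMap.exact_subtype_ker_map _
    | 1 =>
      intro x
      exact ⟨fun h => ⟨⟨x, congrArg Subtype.val h⟩, rfl⟩,
        fun ⟨⟨y, hy⟩, h⟩ => Subtype.ext (h ▸ hy)⟩
    | i + 2 =>
      intro x
      exact ⟨fun h => ⟨⟨x, congrArg Subtype.val h⟩, rfl⟩,
        fun ⟨⟨y, hy⟩, h⟩ => Subtype.ext (h ▸ hy)⟩
  refine ⟨syzMod N, fun i => P.complex.X i, ⟨hproj, ι, π, hιinj, hex, hπsurj⟩, rfl,
    fun M _ _ p => ?_⟩
  show Limits.IsZero ((((MonoidalCategory.tensoringLeft (ModuleCat.{u} R)).obj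
    (ModuleCat.of R M)).leftDerived (p + 1)).obj (ModuleCat.of R N)) ↔ _
  rw [(P.isoLeftDerivedObj _ (p + 1)).isZero_iff, HomologicalComplex.homologyFunctor_obj,
    ← HomologicalComplex.exactAt_iff_isZero_homology,
    HomologicalComplex.exactAt_iff' _ (p + 2) (p + 1) p (by simp) (by simp),
    ShortComplex.ShortExact.moduleCat_exact_iff_function_exact]
  match p with
  | 0 =>
    haveI := hproj 0
    exact exact_lTensor_iff (N := M) _ _ _ (hd 0) he hsurj
  | i + 1 =>
    haveI := hproj (i + 1)
    refine Iff.trans ?_ (exact_lTensor_iff (N := M) _ _ (π (i + 1)) (hd (i + 1)) ?_ (hπsurj (i + 1)))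
    · rfl
    · intro x
      rw [hex (i + 1) x]
      constructor
      · rintro ⟨⟨y, hy⟩, rfl⟩
        exact (hd i y).1 hy
      · rintro ⟨z, rfl⟩
        exact ⟨⟨_, (hd i).apply_apply_eq_zero z⟩, rfl⟩

end resolution

/-- If all modules over `R` have tor dimension at most `d`, then all `d`-th syzygies are flat. -/
theorem Syz.flat_of_tor (s : Syz R S Q) {d : ℕ}
    (h : ∀ (M : Type u) [AddCommGroup M] [Module R M],
      Limits.IsZero (((CategoryTheory.Tor (ModuleCat.{u} R) (d + 1)).obj (ModuleCat.of R (S 0))).obj
        (ModuleCat.of R M))) : Module.Flat R (S d) := by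
  rw [flat_iff_torZero]
  intro M _ _
  obtain ⟨T, W, t, hT, hTor⟩ := exists_syz (R := R) M
  have h1 := (hTor (S 0) d).mp (h M)
  have h2 := (s.flip t d 0).mpr (torZero_symm h1)
  rw [hT] at h2
  exact h2

end Groth.Agent.Flat.TorDim
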