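import Groth.Agent.Flat.LocalCriterion
import Mathlib.CategoryTheory.Monoidal.Tor
import Mathlib.Algebra.Category.ModuleCat.Monoidal.Basic
import Mathlib.Algebra.Category.ModuleCat.Monoidal.Symmetric
import Mathlib.Algebra.Category.ModuleCat.Abelian
import Mathlib.Algebra.Category.ModuleCat.Projective
import Mathlib.Algebra.Homology.ShortComplex.ModuleCat

/-!
`Tor₁` of the monoidal category of modules versus `TorZero`.
-/

set_option autoImplicit false

noncomputable section

namespace Groth.Agent.Flat.TorOne

universe u

open CategoryTheory Groth.Agent.Flat.LocalCriterion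
open scoped TensorProduct MonoidalCategory

variable {R : Type u} [CommRing R]

theorem torZero_iff_lTensor_injective {M N P₀ : Type u} [AddCommGroup M] [Module R M]
    [AddCommGroup N] [Module R N] [AddCommGroup P₀] [Module R P₀] [Module.Flat R P₀]
    (π : P₀ →ₗ[R] M) (hπ : Function.Surjective π) :
    Function.Injective ((LinearMap.ker π).subtype.lTensor N) ↔ TorZero R M N := by
  constructor
  · intro h
    have h1 : Function.Injective ((LinearMap.ker (pres R N)).subtype.lTensor M) :=
      lTensor_injective_of_exact_of_exact_of_rTensor_injective (LinearMap.exact_subtype_ker_map π)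
        hπ (LinearMap.exact_subtype_ker_map (pres R N)) (pres_surjective R N)
        ((LinearMap.lTensor_inj_iff_rTensor_inj _ _).mp h)
        (Module.Flat.lTensor_preserves_injective_linearMap _ (Submodule.injective_subtype _))
    have h2 : Function.Injective ((LinearMap.ker (pres R M)).subtype.lTensor N) :=
      lTensor_injective_of_exact_of_exact_of_rTensor_injective
        (LinearMap.exact_subtype_ker_map (pres R N)) (pres_surjective R N)
        (LinearMap.exact_subtype_ker_map (pres R M)) (pres_surjective R M)
        ((LinearMap.lTensor_inj_iff_rTensor_inj _ _).mp h1)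
        (Module.Flat.lTensor_preserves_injective_linearMap _ (Submodule.injective_subtype _))
    exact (LinearMap.lTensor_inj_iff_rTensor_inj _ _).mp h2
  · intro h
    have h1 : Function.Injective ((LinearMap.ker (pres R N)).subtype.lTensor M) :=
      h.lTensor_injective (Submodule.injective_subtype _)
        (LinearMap.exact_subtype_ker_map (pres R N)) (pres_surjective R N)
    exact lTensor_injective_of_exact_of_exact_of_rTensor_injective
      (LinearMap.exact_subtype_ker_map (pres R N)) (pres_surjective R N)
      (LinearMap.exact_subtype_ker_map π) hπ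
      ((LinearMap.lTensor_inj_iff_rTensor_inj _ _).mp h1)
      (Module.Flat.lTensor_preserves_injective_linearMap _ (Submodule.injective_subtype _))

/-- exactness in the middle of `N ⊗ P₂ → N ⊗ P₁ → N ⊗ P₀` -/
theorem exact_lTensor_iff {P₂ P₁ P₀ M N : Type u} [AddCommGroup P₂] [Module R P₂] [AddCommGroup P₁]
    [Module R P₁] [AddCommGroup P₀] [Module R P₀] [Module.Flat R P₀] [AddCommGroup M] [Module R M]
    [AddCommGroup N] [Module R N] (d₂ : P₂ →ₗ[R] P₁) (d₁ : P₁ →ₗ[R] P₀) (π : P₀ →ₗ[R] M)
    (h₂ : Function.Exact d₂ d₁) (h₁ : Function.Exact d₁ π) (hπ : Function.Surjective π) :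
    Function.Exact (d₂.lTensor N) (d₁.lTensor N) ↔ TorZero R M N := by
  rw [← torZero_iff_lTensor_injective π hπ]
  let e : P₁ →ₗ[R] LinearMap.ker π := d₁.codRestrict _ fun x => h₁.apply_apply_eq_zero x
  have he : Function.Surjective e := fun ⟨y, hy⟩ => by
    obtain ⟨x, hx⟩ := (h₁ y).1 hy
    exact ⟨x, Subtype.ext hx⟩
  have hde : Function.Exact d₂ e := fun x => by
    rw [← h₂ x]
    exact ⟨fun hx => congrArg Subtype.val hx, fun hx => Subtype.ext hx⟩
  have hex : Function.Exact (d₂.lTensor N) (e.lTensor N) := lTensor_exact N hde he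
  have hcomp : ∀ x, d₁.lTensor N x = (LinearMap.ker π).subtype.lTensor N (e.lTensor N x) :=
    fun x => by rw [← LinearMap.comp_apply, ← LinearMap.lTensor_comp]; rfl
  constructor
  · intro h
    rw [injective_iff_map_eq_zero]
    intro y hy
    obtain ⟨x, rfl⟩ := LinearMap.lTensor_surjective N he y
    obtain ⟨w, rfl⟩ := (h x).1 (by rw [hcomp]; exact hy)
    exact hex.apply_apply_eq_zero w
  · intro h x
    rw [hcomp, ← map_zero ((LinearMap.ker π).subtype.lTensor N), h.eq_iff]
    exact hex x

theorem isZero_Tor_one_iff (M N : Type u) [AddCommGroup M] [Module R M] [AddCommGroup N]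
    [Module R N] :
    Limits.IsZero (((CategoryTheory.Tor (ModuleCat.{u} R) 1).obj (ModuleCat.of R N)).obj
      (ModuleCat.of R M)) ↔ TorZero R M N := by
  let P := projectiveResolution (ModuleCat.of R M)
  have : Module.Flat R (P.complex.X 0) := by
    have := (IsProjective.iff_projective (R := R) (P := P.complex.X 0)).2 (P.projective 0)
    exact Module.Flat.of_projective
  have hd : Function.Exact (P.complex.d 2 1).hom (P.complex.d 1 0).hom := by
    have := P.exact_succ 0
    rw [ShortComplex.ShortExact.moduleCat_exact_iff_function_exact] at this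
    exact this
  have hs : (ShortComplex.mk (P.complex.d 1 0) (P.π.f 0) P.complex_d_comp_π_f_zero).Exact :=
    ShortComplex.exact_of_g_is_cokernel _ P.isColimitCokernelCofork
  have he : Function.Exact (P.complex.d 1 0).hom (P.π.f 0).hom :=
    (ShortComplex.ShortExact.moduleCat_exact_iff_function_exact _).1 hs
  have hsurj : Function.Surjective (P.π.f 0).hom :=
    (ModuleCat.epi_iff_surjective (P.π.f 0)).1 inferInstance
  refine Iff.trans ?_ (exact_lTensor_iff (N := N) _ _ _ hd he hsurj)
  show Limits.IsZero ((((MonoidalCategory.tensoringLeft (ModuleCat.{u} R)).obj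
    (ModuleCat.of R N)).leftDerived 1).obj (ModuleCat.of R M)) ↔ _
  rw [(P.isoLeftDerivedObj _ 1).isZero_iff, HomologicalComplex.homologyFunctor_obj,
    ← HomologicalComplex.exactAt_iff_isZero_homology,
    HomologicalComplex.exactAt_iff' _ 2 1 0 (by simp) (by simp),
    ShortComplex.ShortExact.moduleCat_exact_iff_function_exact]
  rfl

end Groth.Agent.Flat.TorOne
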