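import Groth.Agent.Flat.TorDim
import Groth.Prelude.Def_DRing2
import Mathlib.Data.Matrix.Block
import Mathlib.LinearAlgebra.Matrix.ToLin
import Mathlib.RingTheory.Ideal.Maps

/-!
Infinite tor dimension from a lifted matrix factorization (Eisenbud operators).
-/

set_option autoImplicit false

noncomputable section

namespace Groth.Agent.Flat.TorPeriodic

universe u

open Groth.Agent.Flat.TorDim
open scoped TensorProduct

section factorization

variable {P : Type u} [CommRing P]

/-- The matrix of the Koszul complex folded with a null homotopy. -/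
theorem exists_factorization {m : ℕ} (f r : Fin m → P) :
    ∃ (ι : Type) (_ : Fintype ι) (_ : DecidableEq ι) (e : ι) (M : Matrix ι ι P),
      M * M = (∑ j, r j * f j) • (1 : Matrix ι ι P) ∧
      (∀ i, M e i ∈ Ideal.span (Set.range f)) ∧ ∀ i, M i e ∈ Ideal.span (Set.range r) := by
  classical
  induction m with
  | zero => exact ⟨Unit, inferInstance, inferInstance, (), 0, by simp, by simp, by simp⟩
  | succ m ih =>
    obtain ⟨ι, _, _, e, M, hsq, hrow, hcol⟩ := ih (fun j => f j.succ) (fun j => r j.succ)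
    refine ⟨ι ⊕ ι, inferInstance, inferInstance, Sum.inl e,
      Matrix.fromBlocks M (f 0 • 1) (r 0 • 1) (-M), ?_, ?_, ?_⟩
    · rw [Matrix.fromBlocks_multiply, hsq, Fin.sum_univ_succ, ← Matrix.fromBlocks_one,
        Matrix.fromBlocks_smul]
      simp only [Matrix.smul_mul, Matrix.mul_smul, one_mul, mul_one, neg_mul, mul_neg, neg_neg,
        smul_neg, add_neg_cancel, smul_smul, smul_zero, hsq]
      congr 1
      · rw [← add_smul]; congr 1; ring
      · rw [← add_smul]; congr 1; ring
    · rintro (i | i)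
      · rw [Matrix.fromBlocks_apply₁₁]
        exact Ideal.span_mono (Set.range_comp_subset_range Fin.succ f) (hrow i)
      · rw [Matrix.fromBlocks_apply₁₂, Matrix.smul_apply, smul_eq_mul]
        exact Ideal.mul_mem_right _ _ (Ideal.subset_span ⟨0, rfl⟩)
    · rintro (i | i)
      · rw [Matrix.fromBlocks_apply₁₁]
        exact Ideal.span_mono (Set.range_comp_subset_range Fin.succ r) (hcol i)
      · rw [Matrix.fromBlocks_apply₂₁, Matrix.smul_apply, smul_eq_mul]
        exact Ideal.mul_mem_right _ _ (Ideal.subset_span ⟨0, rfl⟩)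

end factorization

section resolution

variable (P : Type u) [CommRing P] (S : Type u) [AddCommGroup S] [Module P S]

/-- iterated kernels of free covers -/
def Z : ℕ → ModuleCat.{u} P
  | 0 => ModuleCat.of P S
  | n + 1 => ModuleCat.of P (LinearMap.ker (Finsupp.linearCombination P (id : Z n → Z n)))

/-- the free cover of the `n`-th syzygy -/
def cov (n : ℕ) : (Z P S n →₀ P) →ₗ[P] Z P S n := Finsupp.linearCombination P id

/-- the inclusion of a syzygy into the free cover of the previous one -/
def incl (n : ℕ) : Z P S (n + 1) →ₗ[P] (Z P S n →₀ P) := (LinearMap.ker (cov P S n)).subtype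

theorem cov_surjective (n : ℕ) : Function.Surjective (cov P S n) :=
  Finsupp.linearCombination_surjective P Function.surjective_id

theorem incl_injective (n : ℕ) : Function.Injective (incl P S n) := Subtype.val_injective

theorem incl_exact (n : ℕ) : Function.Exact (incl P S n) (cov P S n) :=
  LinearMap.exact_subtype_ker_map (cov P S n)

/-- the differential of the free resolution -/
def dd (n : ℕ) : (Z P S (n + 1) →₀ P) →ₗ[P] (Z P S n →₀ P) := (incl P S n).comp (cov P S (n + 1))

theorem dd_dd (n : ℕ) (x : Z P S (n + 2) →₀ P) : dd P S n (dd P S (n + 1) x) = 0 := by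
  simp only [dd, LinearMap.comp_apply, (incl_exact P S (n + 1)).apply_apply_eq_zero, map_zero]

theorem cov_dd (n : ℕ) (x : Z P S (n + 1) →₀ P) : cov P S n (dd P S n x) = 0 :=
  (incl_exact P S n).apply_apply_eq_zero _

end resolution

section finsupp

variable {P : Type u} [CommRing P] {B : Type u}

theorem mem_smul_top (I : Ideal P) (x : B →₀ P) :
    x ∈ I • (⊤ : Submodule P (B →₀ P)) ↔ ∀ b, x b ∈ I := by
  constructor
  · intro hx
    refine Submodule.smul_induction_on hx ?_ ?_
    · intro c hc y _ b; rw [Finsupp.smul_apply, smul_eq_mul]; exact I.mul_mem_right _ hc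
    · intro y z hy hz b; rw [Finsupp.add_apply]; exact I.add_mem (hy b) (hz b)
  · intro h
    rw [← Finsupp.sum_single x]
    refine sum_mem fun b _ => ?_
    rw [← Finsupp.smul_single_one b (x b)]
    exact Submodule.smul_mem_smul (h b) Submodule.mem_top

end finsupp

section main

variable {R P' P : Type u} [CommRing R] [CommRing P'] [CommRing P] [Algebra R P] [Module.Flat R P]
  [Algebra P' P]

set_option maxHeartbeats 1000000 in
theorem exists_pow_mem (hφ : Function.Surjective (algebraMap P' P)) (c : P')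
    (hker : RingHom.ker (algebraMap P' P) = Ideal.span {c}) (hc : c * c = 0)
    (𝔄 : Ideal P') (h𝔄 : ∀ a, a ∈ 𝔄 ↔ c * a = 0)
    (I : Ideal R) (hI : I.map (algebraMap R P) = 𝔄.map (algebraMap P' P))
    {ι : Type} [Fintype ι] [DecidableEq ι] (e : ι) (M : Matrix ι ι P') (g : P')
    (hM : M * M = (c * g) • (1 : Matrix ι ι P'))
    (J : Ideal P) (hrow : ∀ i, algebraMap P' P (M e i) ∈ J) (hcol : ∀ i, M i e ∈ 𝔄)
    (hfd : DRing.HasFiniteTorDim R (P ⧸ J)) :
    ∃ k : ℕ, algebraMap P' P g ^ k ∈ J ⊔ 𝔄.map (algebraMap P' P) := by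
  classical
  set φ := algebraMap P' P with hφdef
  -- the resolution
  let Sm := P ⧸ J
  letI instZ : ∀ n, Module R (Z P Sm n) := fun n => Module.compHom (Z P Sm n) (algebraMap R P)
  have : ∀ n, IsScalarTower R P (Z P Sm n) :=
    fun n => IsScalarTower.of_algebraMap_smul fun _ _ => rfl
  obtain ⟨d, hd⟩ := hfd
  let s : Syz R (fun n => (Z P Sm n : Type u)) (fun n => (Z P Sm n →₀ P)) :=
    { flat := fun n => Module.Flat.trans R P _
      ι := fun n => (incl P Sm n).restrictScalars R
      π := fun n => (cov P Sm n).restrictScalars R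
      inj := incl_injective P Sm
      exact := incl_exact P Sm
      surj := cov_surjective P Sm }
  have hflatd : Module.Flat R (Z P Sm d) := s.flat_of_tor fun N _ _ => by
    let e0 : (Z P Sm 0) ≃ₗ[R] Sm :=
      { toFun := fun x => x
        invFun := fun x => x
        left_inv := fun _ => rfl
        right_inv := fun _ => rfl
        map_add' := fun _ _ => rfl
        map_smul' := fun a x => (algebraMap_smul P a (show Sm from x)) }
    have := hd N (d + 1) (Nat.lt_succ_self d)
    refine CategoryTheory.Limits.IsZero.of_iso (ModuleCat.isZero_of_subsingleton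
      (ModuleCat.of R (DRing.Tor R (d + 1) Sm N))) ?_
    exact ((CategoryTheory.Tor (ModuleCat.{u} R) (d + 1)).mapIso e0.toModuleIso).app _
  -- exactness modulo `I` in high degrees
  have hexI : ∀ n, d ≤ n → ∀ x : Z P Sm (n + 1) →₀ P,
      dd P Sm n x ∈ 𝔄.map φ • (⊤ : Submodule P (Z P Sm n →₀ P)) →
      x ∈ LinearMap.range (dd P Sm (n + 1)) ⊔
        𝔄.map φ • (⊤ : Submodule P (Z P Sm (n + 1) →₀ P)) := by
    intro n hn x hx
    haveI : Module.Flat R (Z P Sm n) := s.flat_of_le hflatd hn
    let y := cov P Sm (n + 1) x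
    haveI := s.flat n
    have hy : y ∈ I • (⊤ : Submodule R (Z P Sm (n + 1))) := by
      have hinj : Function.Injective ((s.ι n).lTensor (R ⧸ I)) :=
        (torZero_iff_of_cover (s.ι n) (s.π n) (s.inj n) (s.exact n) (s.surj n)).mp
          (torZero_symm ((flat_iff_torZero.mp inferInstance) (R ⧸ I)))
      rw [← hI, ← Submodule.restrictScalars_mem R, Ideal.smul_restrictScalars, Submodule.restrictScalars_top] at hx
      have h0 : Ideal.Quotient.mk I 1 ⊗ₜ[R] (incl P Sm n y) = 0 := by
        apply (TensorProduct.quotTensorEquivQuotSMul (Z P Sm n →₀ P) I).injective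
        rw [map_zero, TensorProduct.quotTensorEquivQuotSMul_mk_tmul, one_smul]
        exact (Submodule.Quotient.mk_eq_zero _).mpr hx
      have h1 : Ideal.Quotient.mk I 1 ⊗ₜ[R] y = 0 := by
        apply hinj
        rw [map_zero]
        exact h0
      have := congrArg (TensorProduct.quotTensorEquivQuotSMul (Z P Sm (n + 1)) I) h1
      rw [map_zero, TensorProduct.quotTensorEquivQuotSMul_mk_tmul, one_smul] at this
      exact (Submodule.Quotient.mk_eq_zero _).mp this
    rw [← Submodule.restrictScalars_top (S := R) (R := P) (M := Z P Sm (n + 1)), ← Ideal.smul_restrictScalars, Submodule.restrictScalars_mem, hI] at hy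
    obtain ⟨w, hw, hwy⟩ : ∃ w ∈ 𝔄.map φ • (⊤ : Submodule P (Z P Sm (n + 1) →₀ P)),
        cov P Sm (n + 1) w = y := by
      have : y ∈ Submodule.map (cov P Sm (n + 1)) (𝔄.map φ • ⊤) := by
        rw [Submodule.map_smul'', Submodule.map_top,
          LinearMap.range_eq_top.mpr (cov_surjective P Sm (n + 1))]
        exact hy
      obtain ⟨w, hw, hwy⟩ := this
      exact ⟨w, hw, hwy⟩
    obtain ⟨z, hz⟩ := (incl_exact P Sm (n + 1) (x - w)).mp (by rw [map_sub, hwy, sub_self])
    obtain ⟨v, rfl⟩ := cov_surjective P Sm (n + 2) z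
    rw [show x = dd P Sm (n + 1) v + w by
      rw [show dd P Sm (n + 1) v = x - w from hz, sub_add_cancel]]
    exact Submodule.add_mem_sup (LinearMap.mem_range_self _ _) hw
  -- the lifted modules
  let pr : ∀ n, (Z P Sm n →₀ P') →ₗ[P'] (Z P Sm n →₀ P) := fun n =>
    Finsupp.mapRange.linearMap (Algebra.linearMap P' P)
  have hprsurj : ∀ n, Function.Surjective (pr n) := fun n =>
    Finsupp.mapRange_surjective _ (map_zero _) hφ
  have hprsmul : ∀ n (a : P') x, pr n (a • x) = φ a • pr n x := fun n a x => by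
    rw [map_smul]; exact (algebraMap_smul P a _).symm
  have hprzero : ∀ n x, pr n x = 0 → ∃ y, c • y = x := by
    intro n x hx
    have : x ∈ Ideal.span {c} • (⊤ : Submodule P' (Z P Sm n →₀ P')) := by
      rw [mem_smul_top]
      intro b
      rw [← hker, RingHom.mem_ker]
      exact DFunLike.congr_fun hx b
    rw [Submodule.ideal_span_singleton_smul, Submodule.mem_smul_pointwise_iff_exists] at this
    obtain ⟨y, -, hy⟩ := this
    exact ⟨y, hy⟩
  have hann : ∀ n (x : Z P Sm n →₀ P'), c • x = 0 →
      x ∈ 𝔄 • (⊤ : Submodule P' (Z P Sm n →₀ P')) := by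
    intro n x hx
    rw [mem_smul_top]
    intro b
    rw [h𝔄]
    exact DFunLike.congr_fun hx b
  have hcA : c ∈ 𝔄 := (h𝔄 c).mpr hc
  have hprA : ∀ n x, x ∈ 𝔄 • (⊤ : Submodule P' (Z P Sm n →₀ P')) →
      pr n x ∈ 𝔄.map φ • (⊤ : Submodule P (Z P Sm n →₀ P)) := by
    intro n x hx
    rw [mem_smul_top] at hx ⊢
    exact fun b => Ideal.mem_map_of_mem φ (hx b)
  have hprA' : ∀ n x, pr n x ∈ 𝔄.map φ • (⊤ : Submodule P (Z P Sm n →₀ P)) →
      x ∈ 𝔄 • (⊤ : Submodule P' (Z P Sm n →₀ P')) := by
    intro n x hx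
    rw [mem_smul_top] at hx ⊢
    intro b
    obtain ⟨a, ha, hab⟩ := (Ideal.mem_map_iff_of_surjective φ hφ).mp (hx b)
    have : x b - a ∈ Ideal.span {c} := by
      rw [← hker, RingHom.mem_ker, map_sub, hab]
      exact sub_self _
    have h2 : x b - a ∈ 𝔄 := Ideal.span_le.mpr (Set.singleton_subset_iff.mpr hcA) this
    simpa using 𝔄.add_mem h2 ha
  have hAmap : ∀ m n (l : (Z P Sm m →₀ P') →ₗ[P'] (Z P Sm n →₀ P')) x,
      x ∈ 𝔄 • (⊤ : Submodule P' (Z P Sm m →₀ P')) →
      l x ∈ 𝔄 • (⊤ : Submodule P' (Z P Sm n →₀ P')) := by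
    intro m n l x hx
    have := Submodule.mem_map_of_mem (f := l) hx
    rw [Submodule.map_smul''] at this
    exact Submodule.smul_mono le_rfl le_top this
  -- the lifted differential and its square
  choose lift hlift using fun n => hprsurj n
  let d' : ∀ n, (Z P Sm (n + 1) →₀ P') →ₗ[P'] (Z P Sm n →₀ P') := fun n =>
    Finsupp.linearCombination P' fun b => lift n (dd P Sm n (Finsupp.single b 1))
  have hd' : ∀ n x, pr n (d' n x) = dd P Sm n (pr (n + 1) x) := by
    intro n x
    induction x using Finsupp.induction_linear with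
    | zero => simp
    | add x y hx hy => simp only [map_add, hx, hy]
    | single b a =>
      have h1 : pr (n + 1) (Finsupp.single b a) = φ a • Finsupp.single b 1 := by
        rw [Finsupp.smul_single_one]
        exact Finsupp.mapRange_single (hf := map_zero _)
      simp only [d', Finsupp.linearCombination_single]
      rw [hprsmul, hlift, h1, map_smul]
  have hdd : ∀ n x, ∃ y, c • y = d' n (d' (n + 1) x) := fun n x =>
    hprzero n _ (by rw [hd', hd', dd_dd])
  choose tb htb using fun n b => hdd n (Finsupp.single b 1)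
  let t : ∀ n, (Z P Sm (n + 2) →₀ P') →ₗ[P'] (Z P Sm n →₀ P') := fun n =>
    Finsupp.linearCombination P' (tb n)
  have ht : ∀ n x, d' n (d' (n + 1) x) = c • t n x := by
    intro n x
    induction x using Finsupp.induction_linear with
    | zero => simp
    | add x y hx hy => simp only [map_add, hx, hy, smul_add]
    | single b a =>
      rw [← Finsupp.smul_single_one b a, map_smul, map_smul, map_smul, ← htb n b]
      simp only [t, Finsupp.linearCombination_single, one_smul]
      exact smul_comm _ _ _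
  -- the comparison map
  let one' : Z P Sm 0 := (Ideal.Quotient.mk J 1 : Sm)
  have hone : ∀ q : P, q • one' = (Ideal.Quotient.mk J q : Sm) := by
    intro q
    show q • (Ideal.Quotient.mk J 1 : Sm) = _
    rw [Algebra.smul_def, map_one, mul_one]
    rfl
  have hMM : ∀ k j, ∑ i, φ (M i k) * φ (M j i) = 0 := by
    intro k j
    have h1 : ∑ i, M j i * M i k = (c * g) * (1 : Matrix ι ι P') j k := by
      rw [← Matrix.mul_apply, hM, Matrix.smul_apply, smul_eq_mul]
    have h2 := congrArg φ h1
    simp only [map_sum, map_mul] at h2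
    have hφc : φ c = 0 := RingHom.mem_ker.mp (by rw [hker]; exact Ideal.mem_span_singleton_self c)
    rw [hφc] at h2
    simp only [zero_mul] at h2
    rw [← h2]
    exact Finset.sum_congr rfl fun i _ => mul_comm _ _
  let Inv : ∀ n, (ι → (Z P Sm n →₀ P)) → Prop := fun n a =>
    ∀ i, cov P Sm n (∑ j, φ (M j i) • a j) = 0
  have base : ∃ a : ι → (Z P Sm 0 →₀ P), Inv 0 a ∧ cov P Sm 0 (a e) = one' := by
    refine ⟨fun j => if j = e then Finsupp.single one' 1 else 0, fun i => ?_, ?_⟩
    · simp only [smul_ite, smul_zero, Finset.sum_ite_eq', Finset.mem_univ, if_true, cov, map_smul,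
        Finsupp.linearCombination_single, id_eq, one_smul]
      rw [hone]
      exact Ideal.Quotient.eq_zero_iff_mem.mpr (hrow i)
    · simp [cov]
  have step : ∀ n a, Inv n a → ∃ b, Inv (n + 1) b ∧
      ∀ i, dd P Sm n (b i) = ∑ j, φ (M j i) • a j := by
    intro n a ha
    have : ∀ i, ∃ b, dd P Sm n b = ∑ j, φ (M j i) • a j := by
      intro i
      obtain ⟨z, hz⟩ := (incl_exact P Sm n _).mp (ha i)
      obtain ⟨b, rfl⟩ := cov_surjective P Sm (n + 1) z
      exact ⟨b, hz⟩
    choose b hb using this
    refine ⟨b, fun k => incl_injective P Sm n ?_, hb⟩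
    rw [map_zero]
    show dd P Sm n (∑ i, φ (M i k) • b i) = 0
    simp only [map_sum, map_smul, hb, Finset.smul_sum, smul_smul]
    rw [Finset.sum_comm]
    refine Finset.sum_eq_zero fun j _ => ?_
    rw [← Finset.sum_smul, hMM k j, zero_smul]
  obtain ⟨a0, ha0, ha0e⟩ := base
  choose nxt hnxt hnxtd using step
  let seq : ∀ n, {a // Inv n a} := fun n =>
    Nat.rec (motive := fun n => {a // Inv n a}) ⟨a0, ha0⟩
      (fun n p => ⟨nxt n p.1 p.2, hnxt n p.1 p.2⟩) n
  have hseq : ∀ n i, dd P Sm n ((seq (n + 1)).1 i) = ∑ j, φ (M j i) • (seq n).1 j := fun n i =>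
    hnxtd n (seq n).1 (seq n).2 i
  let A : ∀ n, ι → (Z P Sm n →₀ P') := fun n i => lift n ((seq n).1 i)
  have hA : ∀ n i, pr n (A n i) = (seq n).1 i := fun n i => hlift n _
  have hβ : ∀ n i, ∃ y, c • y = d' n (A (n + 1) i) - ∑ j, M j i • A n j := by
    intro n i
    refine hprzero n _ ?_
    rw [map_sub, hd', hA, hseq, map_sum, sub_eq_zero]
    exact Finset.sum_congr rfl fun j _ => by rw [hprsmul, hA]
  choose β hβ using hβ
  have hβ' : ∀ n i, d' n (A (n + 1) i) = (∑ j, M j i • A n j) + c • β n i := fun n i => by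
    rw [hβ]; abel
  let U : ∀ n, Submodule P' (Z P Sm n →₀ P') := fun n => LinearMap.range (d' n) ⊔ 𝔄 • ⊤
  have hkey : ∀ n, t n (A (n + 2) e) - g • A n e ∈ U n := by
    intro n
    have h1 : d' n (d' (n + 1) (A (n + 2) e)) =
        (c * g) • A n e + c • ((∑ j, M j e • β n j) + d' n (β (n + 1) e)) := by
      rw [hβ' (n + 1) e, map_add, map_sum, map_smul]
      simp only [map_smul, hβ' n, smul_add, Finset.sum_add_distrib, Finset.smul_sum, smul_smul]
      have h2 : ∑ j, ∑ k, (M j e * M k j) • A n k = (c * g) • A n e := by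
        rw [Finset.sum_comm]
        have h3 : ∀ k, ∑ j, (M j e * M k j) • A n k =
            ((c * g) * (1 : Matrix ι ι P') k e) • A n k := by
          intro k
          rw [← Finset.sum_smul]
          congr 1
          rw [show (c * g) * (1 : Matrix ι ι P') k e = (M * M) k e by
            rw [hM, Matrix.smul_apply, smul_eq_mul], Matrix.mul_apply]
          exact Finset.sum_congr rfl fun j _ => mul_comm _ _
        rw [Finset.sum_congr rfl fun k _ => h3 k, Finset.sum_eq_single e]
        · rw [Matrix.one_apply_eq, mul_one]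
        · intro k _ hk
          rw [Matrix.one_apply_ne hk, mul_zero, zero_smul]
        · simp
      rw [h2]
      simp only [mul_comm c]
      abel
    rw [ht] at h1
    have h4 : c • (t n (A (n + 2) e) - g • A n e -
        ((∑ j, M j e • β n j) + d' n (β (n + 1) e))) = 0 := by
      rw [smul_sub, smul_sub, smul_smul, h1]
      abel
    have h5 := hann n _ h4
    have h6 : t n (A (n + 2) e) - g • A n e =
        (t n (A (n + 2) e) - g • A n e - ((∑ j, M j e • β n j) + d' n (β (n + 1) e))) +
          ((∑ j, M j e • β n j) + d' n (β (n + 1) e)) := by abel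
    rw [h6]
    refine add_mem (Submodule.mem_sup_right h5) (add_mem (Submodule.mem_sup_right ?_)
      (Submodule.mem_sup_left (LinearMap.mem_range_self _ _)))
    exact sum_mem fun j _ => Submodule.smul_mem_smul (hcol j) Submodule.mem_top
  have hdesc : ∀ n k, g ^ k • A (n + 2) e ∈ U (n + 2) → g ^ (k + 1) • A n e ∈ U n := by
    intro n k hk
    obtain ⟨x, ⟨w, rfl⟩, u, hu, hxu⟩ := Submodule.mem_sup.mp hk
    have h1 : t n (d' (n + 2) w) - d' n (t (n + 1) w) ∈ 𝔄 • (⊤ : Submodule P' (Z P Sm n →₀ P')) := by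
      refine hann n _ ?_
      rw [smul_sub, ← ht, ← map_smul, ← ht, sub_self]
    have h2 : g ^ (k + 1) • A n e = (t n (d' (n + 2) w) - d' n (t (n + 1) w)) +
        d' n (t (n + 1) w) + t n u - g ^ k • (t n (A (n + 2) e) - g • A n e) := by
      rw [sub_add_cancel, ← map_add, hxu, map_smul, smul_sub, smul_smul, ← pow_succ]
      abel
    rw [h2]
    exact sub_mem (add_mem (add_mem (Submodule.mem_sup_right h1)
      (Submodule.mem_sup_left (LinearMap.mem_range_self _ _)))
      (Submodule.mem_sup_right (hAmap _ _ (t n) u hu))) (Submodule.smul_mem _ _ (hkey n))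
  have hiter : ∀ K k, g ^ k • A (2 * K) e ∈ U (2 * K) → g ^ (k + K) • A 0 e ∈ U 0 := by
    intro K
    induction K with
    | zero => intro k hk; simpa using hk
    | succ K ih =>
      intro k hk
      rw [show k + (K + 1) = k + 1 + K by omega]
      exact ih (k + 1) (hdesc (2 * K) k hk)
  have hhigh : ∀ n, d ≤ n → A (n + 1) e ∈ U (n + 1) := by
    intro n hn
    have hx : dd P Sm n ((seq (n + 1)).1 e) ∈
        𝔄.map φ • (⊤ : Submodule P (Z P Sm n →₀ P)) := by
      rw [hseq]
      exact sum_mem fun j _ =>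
        Submodule.smul_mem_smul (Ideal.mem_map_of_mem φ (hcol j)) Submodule.mem_top
    obtain ⟨x, ⟨w, rfl⟩, u, hu, hxu⟩ := Submodule.mem_sup.mp (hexI n hn _ hx)
    have h1 : A (n + 1) e - d' (n + 1) (lift (n + 2) w) ∈
        𝔄 • (⊤ : Submodule P' (Z P Sm (n + 1) →₀ P')) := by
      refine hprA' _ _ ?_
      rw [map_sub, hA, hd', hlift, ← hxu, add_sub_cancel_left]
      exact hu
    rw [show A (n + 1) e = d' (n + 1) (lift (n + 2) w) +
      (A (n + 1) e - d' (n + 1) (lift (n + 2) w)) by abel]
    exact Submodule.add_mem_sup (LinearMap.mem_range_self _ _) h1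
  have htop : A (2 * (d + 1)) e ∈ U (2 * (d + 1)) := hhigh (2 * d + 1) (by omega)
  have hfin := hiter (d + 1) 0 (by rw [pow_zero, one_smul]; exact htop)
  rw [Nat.zero_add] at hfin
  refine ⟨d + 1, ?_⟩
  obtain ⟨x, ⟨w, rfl⟩, u, hu, hxu⟩ := Submodule.mem_sup.mp hfin
  have h1 := congrArg (fun z => cov P Sm 0 (pr 0 z)) hxu
  simp only [map_add, hd', cov_dd, zero_add, hprsmul, map_smul, hA, map_pow] at h1
  have h2 : cov P Sm 0 (pr 0 u) = (Ideal.Quotient.mk J (φ g ^ (d + 1)) : Sm) := by
    rw [h1, ← hone]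
    exact congrArg (fun z => φ g ^ (d + 1) • z) ha0e
  have h3 : (Ideal.Quotient.mk J (φ g ^ (d + 1)) : Sm) ∈ (𝔄.map φ).map (Ideal.Quotient.mk J) := by
    rw [← h2]
    refine Submodule.smul_induction_on (hprA 0 u hu) ?_ ?_
    · intro a ha y _
      rw [map_smul]
      obtain ⟨q, hq⟩ : ∃ q, Ideal.Quotient.mk J q = (cov P Sm 0 y : Sm) :=
        Ideal.Quotient.mk_surjective (cov P Sm 0 y : Sm)
      rw [← hq]
      show Ideal.Quotient.mk J (a * q) ∈ (𝔄.map φ).map (Ideal.Quotient.mk J)
      rw [map_mul]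
      exact Ideal.mul_mem_right _ _ (Ideal.mem_map_of_mem _ ha)
    · intro y z hy hz
      rw [map_add]
      exact Ideal.add_mem _ hy hz
  obtain ⟨a, ha, hag⟩ := (Ideal.mem_map_iff_of_surjective _ Ideal.Quotient.mk_surjective).mp h3
  rw [Submodule.mem_sup]
  exact ⟨φ g ^ (d + 1) - a, Ideal.Quotient.eq.mp hag.symm, a, ha, sub_add_cancel _ _⟩

end main

end Groth.Agent.Flat.TorPeriodic
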