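import Groth.Agent.Flat.FreeLift
import Mathlib.LinearAlgebra.TensorProduct.Prod
import Mathlib.RingTheory.Flat.Tensor
import Mathlib.RingTheory.LocalRing.ResidueField.Basic

/-!
Universal injectivity of maps from projective to flat modules over a local ring.
-/

set_option autoImplicit false

noncomputable section

namespace Groth.Agent.Flat.UnivInjective

universe u

open scoped TensorProduct
open Groth.Agent.Flat.FreeLift

theorem flat_prod (R M N : Type u) [CommRing R] [AddCommGroup M] [Module R M] [AddCommGroup N]
    [Module R N] [Module.Flat R M] [Module.Flat R N] : Module.Flat R (M × N) := by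
  refine Module.Flat.iff_lTensor_injective'.mpr fun a => ?_
  have e : ∀ x, TensorProduct.prodLeft R R M N R (a.subtype.lTensor (M × N) x) =
      Prod.map (a.subtype.lTensor M) (a.subtype.lTensor N) (TensorProduct.prodLeft R R M N a x) := by
    intro x
    induction x using TensorProduct.induction_on with
    | zero => simp [Prod.ext_iff]
    | add p q hp hq => simp only [map_add, hp, hq]; simp [Prod.ext_iff]
    | tmul p r => obtain ⟨m, n⟩ := p; rfl
  intro x y hxy
  apply (TensorProduct.prodLeft R R M N a).injective
  apply (Module.Flat.lTensor_preserves_injective_linearMap (M := M) a.subtype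
    (Submodule.injective_subtype a)).prodMap (Module.Flat.lTensor_preserves_injective_linearMap
    (M := N) a.subtype (Submodule.injective_subtype a))
  rw [← e, ← e, hxy]

/-- modular independence of a family -/
def IndepMod {R N : Type u} [CommRing R] [IsLocalRing R] [AddCommGroup N] [Module R N] {ι : Type u}
    (v : ι → N) : Prop :=
  ∀ c : ι →₀ R, Finsupp.linearCombination R v c ∈ IsLocalRing.maximalIdeal R • (⊤ : Submodule R N) →
    ∀ i, c i ∈ IsLocalRing.maximalIdeal R

theorem linearIndependent_of_indepMod {R N : Type u} [CommRing R] [IsLocalRing R] [AddCommGroup N]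
    [Module R N] [Module.Flat R N] {ι : Type u} {v : ι → N} (h : IndepMod (R := R) v) :
    LinearIndependent R v := by
  refine Module.IsLocalRing.linearIndependent_of_flat v (linearIndependent_iff.mpr fun c hc => ?_)
  obtain ⟨d, rfl⟩ := Finsupp.mapRange_surjective (IsLocalRing.residue R) (map_zero _)
    IsLocalRing.residue_surjective c
  have e : ∀ d : ι →₀ R, (1 : IsLocalRing.ResidueField R) ⊗ₜ[R] Finsupp.linearCombination R v d =
      Finsupp.linearCombination (IsLocalRing.ResidueField R)
        (TensorProduct.mk R (IsLocalRing.ResidueField R) N 1 ∘ v)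
        (Finsupp.mapRange (IsLocalRing.residue R) (map_zero _) d) := by
    intro d
    induction d using Finsupp.induction_linear with
    | zero => simp
    | add p q hp hq =>
      rw [map_add, TensorProduct.tmul_add, hp, hq, Finsupp.mapRange_add (by simp), map_add]
    | single i s =>
      rw [Finsupp.mapRange_single, Finsupp.linearCombination_single,
        Finsupp.linearCombination_single, TensorProduct.tmul_smul]
      exact (algebraMap_smul (IsLocalRing.ResidueField R) s _).symm
  rw [← e] at hc
  have hd := h d (mem_smul_top_of_tmul_eq_zero (IsLocalRing.maximalIdeal R) hc)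
  ext i
  rw [Finsupp.mapRange_apply, Finsupp.zero_apply, IsLocalRing.residue_eq_zero_iff]
  exact hd i

theorem indepMod_baseChange {R N : Type u} [CommRing R] [IsLocalRing R] [AddCommGroup N]
    [Module R N] {ι : Type u} {v : ι → N} (h : IndepMod (R := R) v) (a : Ideal R)
    [IsLocalRing (R ⧸ a)] (ha : a ≤ IsLocalRing.maximalIdeal R) :
    IndepMod (R := R ⧸ a) (fun i => (1 : R ⧸ a) ⊗ₜ[R] v i) := by
  intro c hc i
  obtain ⟨d, rfl⟩ := Finsupp.mapRange_surjective (Ideal.Quotient.mk a) (map_zero _)
    Ideal.Quotient.mk_surjective c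
  have e : ∀ d : ι →₀ R, (1 : R ⧸ a) ⊗ₜ[R] Finsupp.linearCombination R v d =
      Finsupp.linearCombination (R ⧸ a) (fun i => (1 : R ⧸ a) ⊗ₜ[R] v i)
        (Finsupp.mapRange (Ideal.Quotient.mk a) (map_zero _) d) := by
    intro d
    induction d using Finsupp.induction_linear with
    | zero => simp
    | add p q hp hq =>
      rw [map_add, TensorProduct.tmul_add, hp, hq, Finsupp.mapRange_add (by simp), map_add]
    | single i s =>
      rw [Finsupp.mapRange_single, Finsupp.linearCombination_single,
        Finsupp.linearCombination_single, TensorProduct.tmul_smul]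
      exact (algebraMap_smul (R ⧸ a) s _).symm
  rw [← e] at hc
  have hmax : ∀ x : R, Ideal.Quotient.mk a x ∈ IsLocalRing.maximalIdeal (R ⧸ a) ↔
      x ∈ IsLocalRing.maximalIdeal R := by
    intro x
    haveI : IsLocalHom (Ideal.Quotient.mk a) :=
      IsLocalHom.of_surjective _ Ideal.Quotient.mk_surjective
    rw [← Ideal.mem_comap, IsLocalRing.maximalIdeal_comap]
  have key : ∀ y ∈ IsLocalRing.maximalIdeal (R ⧸ a) •
      (⊤ : Submodule (R ⧸ a) ((R ⧸ a) ⊗[R] N)),
      ∃ z ∈ IsLocalRing.maximalIdeal R • (⊤ : Submodule R N), (1 : R ⧸ a) ⊗ₜ[R] z = y := by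
    intro y hy
    refine Submodule.smul_induction_on hy (fun r hr w _ => ?_) ?_
    · obtain ⟨r, rfl⟩ := Ideal.Quotient.mk_surjective r
      obtain ⟨w, rfl⟩ := TensorProduct.mk_surjective R N (R ⧸ a) Ideal.Quotient.mk_surjective w
      refine ⟨r • w, Submodule.smul_mem_smul ((hmax r).mp hr) trivial, ?_⟩
      rw [TensorProduct.tmul_smul]
      exact (algebraMap_smul (R ⧸ a) r _).symm
    · rintro _ _ ⟨z, hz, rfl⟩ ⟨z', hz', rfl⟩
      exact ⟨z + z', add_mem hz hz', TensorProduct.tmul_add _ _ _⟩
  obtain ⟨z, hz, hzy⟩ := key _ hc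
  have h2 := mem_smul_top_of_tmul_eq_zero a
    (p := Finsupp.linearCombination R v d - z) (by rw [TensorProduct.tmul_sub, hzy, sub_self])
  have h3 : Finsupp.linearCombination R v d ∈
      IsLocalRing.maximalIdeal R • (⊤ : Submodule R N) := by
    have := add_mem (Submodule.smul_mono_left ha h2) hz
    rwa [sub_add_cancel] at this
  rw [Finsupp.mapRange_apply, hmax]
  exact h d h3 i

theorem lTensor_injective_of_indepMod {R N : Type u} [CommRing R] [IsLocalRing R] [AddCommGroup N]
    [Module R N] [Module.Flat R N] {ι : Type u} {v : ι → N} (h : IndepMod (R := R) v)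
    (Q : Type u) [AddCommGroup Q] [Module R Q] :
    Function.Injective ((Finsupp.linearCombination R v).lTensor Q) := by
  let u := Finsupp.linearCombination R v
  have hu : Function.Injective u := linearIndependent_of_indepMod h
  have hmem : ∀ (a : Ideal R) (c : ι →₀ R), u c ∈ a • (⊤ : Submodule R N) → ∀ i, c i ∈ a := by
    intro a c hc i
    by_cases ha : a = ⊤
    · rw [ha]; trivial
    haveI : Nontrivial (R ⧸ a) := Ideal.Quotient.nontrivial_iff.mpr ha
    haveI : IsLocalRing (R ⧸ a) :=
      IsLocalRing.of_surjective' _ Ideal.Quotient.mk_surjective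
    have hli := linearIndependent_of_indepMod
      (indepMod_baseChange h a (IsLocalRing.le_maximalIdeal ha))
    have h0 : (1 : R ⧸ a) ⊗ₜ[R] u c = 0 := tmul_eq_zero_of_mem a hc
    have e : ∀ c : ι →₀ R, (1 : R ⧸ a) ⊗ₜ[R] u c =
        Finsupp.linearCombination (R ⧸ a) (fun i => (1 : R ⧸ a) ⊗ₜ[R] v i)
          (Finsupp.mapRange (Ideal.Quotient.mk a) (map_zero _) c) := by
      intro c
      induction c using Finsupp.induction_linear with
      | zero => simp
      | add p q hp hq =>
        rw [map_add, TensorProduct.tmul_add, hp, hq, Finsupp.mapRange_add (by simp), map_add]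
      | single j s =>
        show (1 : R ⧸ a) ⊗ₜ[R] Finsupp.linearCombination R v (Finsupp.single j s) = _
        rw [Finsupp.mapRange_single, Finsupp.linearCombination_single,
          Finsupp.linearCombination_single, TensorProduct.tmul_smul]
        exact (algebraMap_smul (R ⧸ a) s _).symm
    rw [e] at h0
    have := DFunLike.congr_fun (linearIndependent_iff.mp hli _ h0) i
    exact Ideal.Quotient.eq_zero_iff_mem.mp (by simpa using this)
  have hsingle : ∀ (a : Ideal R) (c : ι →₀ R), (∀ i, c i ∈ a) →
      c ∈ a • (⊤ : Submodule R (ι →₀ R)) := by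
    intro a c hc
    rw [← Finsupp.sum_single c]
    refine Submodule.sum_mem _ fun i _ => ?_
    rw [← Finsupp.smul_single_one]
    exact Submodule.smul_mem_smul (hc i) trivial
  have hquot : ∀ a : Ideal R, Function.Injective (u.rTensor (R ⧸ a)) := by
    intro a
    rw [← LinearMap.lTensor_inj_iff_rTensor_inj, injective_iff_map_eq_zero]
    intro t ht
    obtain ⟨c, rfl⟩ := TensorProduct.mk_surjective R (ι →₀ R) (R ⧸ a) Ideal.Quotient.mk_surjective t
    refine tmul_eq_zero_of_mem a (hsingle a c fun i => hmem a c ?_ i)
    exact mem_smul_top_of_tmul_eq_zero a ht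
  haveI : Module.Flat R (N ⧸ LinearMap.range u) := by
    refine Module.Flat.iff_lTensor_injective'.mpr fun a => ?_
    exact lTensor_injective_of_exact_of_exact_of_rTensor_injective (M₂ := N)
      (f₁ := u) (f₂ := (LinearMap.range u).mkQ) (g₁ := a.subtype) (g₂ := a.mkQ)
      (LinearMap.exact_map_mkQ_range u) (Submodule.mkQ_surjective _)
      (LinearMap.exact_subtype_mkQ a) (Submodule.mkQ_surjective a) (hquot a)
      (Module.Flat.lTensor_preserves_injective_linearMap _ (Submodule.injective_subtype _))
  let p : (Q →₀ R) →ₗ[R] Q := Finsupp.linearCombination R id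
  have hp : Function.Surjective p := fun x => ⟨Finsupp.single x 1, by simp [p]⟩
  exact lTensor_injective_of_exact_of_exact_of_rTensor_injective
    (M₁ := ↥(LinearMap.ker p)) (M₂ := Q →₀ R) (M₃ := Q) (N₁ := ι →₀ R) (N₂ := N)
    (f₁ := (LinearMap.ker p).subtype) (f₂ := p) (g₁ := u) (g₂ := (LinearMap.range u).mkQ)
    (LinearMap.exact_subtype_ker_map p) hp (LinearMap.exact_map_mkQ_range u)
    (Submodule.mkQ_surjective _)
    (Module.Flat.rTensor_preserves_injective_linearMap _ (Submodule.injective_subtype _))
    (Module.Flat.lTensor_preserves_injective_linearMap _ hu)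

theorem rTensor_injective_of_projective {R M N : Type u} [CommRing R] [IsLocalRing R]
    [AddCommGroup M] [Module R M] [Module.Projective R M] [AddCommGroup N] [Module R N]
    [Module.Flat R N] (u : M →ₗ[R] N)
    (h : ∀ x, u x ∈ IsLocalRing.maximalIdeal R • (⊤ : Submodule R N) →
      x ∈ IsLocalRing.maximalIdeal R • (⊤ : Submodule R M))
    (Q : Type u) [AddCommGroup Q] [Module R Q] : Function.Injective (u.rTensor Q) := by
  obtain ⟨i, hi⟩ := Module.projective_lifting_property (Finsupp.linearCombination R (id : M → M))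
    LinearMap.id (fun x => ⟨Finsupp.single x 1, by simp⟩)
  let π : (M →₀ R) →ₗ[R] M := Finsupp.linearCombination R (id : M → M)
  let w : (M →₀ R) →ₗ[R] N × (M →₀ R) := (u ∘ₗ π).prod (LinearMap.id - i ∘ₗ π)
  let v : M → N × (M →₀ R) := fun m => w (Finsupp.single m 1)
  have hw : Finsupp.linearCombination R v = w := by
    refine Finsupp.lhom_ext fun m r => ?_
    rw [Finsupp.linearCombination_single, ← map_smul, Finsupp.smul_single_one]
  have hmap : ∀ {P P' : Type u} [AddCommGroup P] [Module R P] [AddCommGroup P'] [Module R P']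
      (f : P →ₗ[R] P') (y : P), y ∈ IsLocalRing.maximalIdeal R • (⊤ : Submodule R P) →
      f y ∈ IsLocalRing.maximalIdeal R • (⊤ : Submodule R P') := by
    intro P P' _ _ _ _ f y hy
    refine Submodule.smul_induction_on hy (fun r hr n _ => ?_) (fun p q hp hq => ?_)
    · rw [map_smul]; exact Submodule.smul_mem_smul hr trivial
    · rw [map_add]; exact add_mem hp hq
  have hv : IndepMod (R := R) v := by
    intro c hc j
    rw [hw] at hc
    have h1 : π c ∈ IsLocalRing.maximalIdeal R • (⊤ : Submodule R M) :=
      h _ (hmap (LinearMap.fst R N (M →₀ R)) _ hc)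
    have h2 := add_mem (hmap (LinearMap.snd R N (M →₀ R)) _ hc) (hmap i _ h1)
    have e : (LinearMap.snd R N (M →₀ R)) (w c) + i (π c) = c := by simp [w]
    rw [e] at h2
    have := hmap (Finsupp.lapply j) _ h2
    simpa using this
  haveI : Module.Flat R (N × (M →₀ R)) := flat_prod R N (M →₀ R)
  have hinj := lTensor_injective_of_indepMod hv Q
  rw [hw, LinearMap.lTensor_inj_iff_rTensor_inj] at hinj
  have hwi : w ∘ₗ i = LinearMap.inl R N (M →₀ R) ∘ₗ u := by
    refine LinearMap.ext fun m => ?_
    have hm : π (i m) = m := LinearMap.congr_fun hi m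
    simp [w, hm]
  have hi' : Function.Injective (i.rTensor Q) := by
    refine Function.LeftInverse.injective (g := π.rTensor Q) fun x => ?_
    rw [← LinearMap.comp_apply, ← LinearMap.rTensor_comp, hi, LinearMap.rTensor_id,
      LinearMap.id_apply]
  intro x y hxy
  refine hi' (hinj ?_)
  rw [← LinearMap.comp_apply, ← LinearMap.comp_apply, ← LinearMap.rTensor_comp, hwi,
    LinearMap.rTensor_comp, LinearMap.comp_apply, LinearMap.comp_apply, hxy]

end Groth.Agent.Flat.UnivInjective
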