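import Groth.Agent.FlatMor.AbsFlat

/-! Flatness ascends along weakly étale algebras. -/

set_option autoImplicit false

noncomputable section

namespace Groth.Agent.Flat.WeaklyEtale

universe u

open TensorProduct Groth.Agent.FlatMor.AbsFlat

variable (A B : Type u) [CommRing A] [CommRing B] [Algebra A B]

/-- the two commuting actions on a tensor product over the base -/
def act (X Z : Type u) [AddCommGroup X] [Module A X] [Module B X] [IsScalarTower A B X]
    [AddCommGroup Z] [Module A Z] [Module B Z] [IsScalarTower A B Z] :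
    B ⊗[A] B →ₐ[A] Module.End A (X ⊗[A] Z) :=
  Algebra.TensorProduct.lift
    ((Module.End.rTensorAlgHom A X Z).comp (Algebra.lsmul A A X))
    ((Module.End.lTensorAlgHom A Z X).comp (Algebra.lsmul A A Z))
    fun b c => TensorProduct.ext' fun x z => rfl

theorem act_tmul (X Z : Type u) [AddCommGroup X] [Module A X] [Module B X] [IsScalarTower A B X]
    [AddCommGroup Z] [Module A Z] [Module B Z] [IsScalarTower A B Z] (b c : B) (x : X) (z : Z) :
    act A B X Z (b ⊗ₜ c) (x ⊗ₜ z) = (b • x) ⊗ₜ[A] (c • z) := by
  rfl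

theorem flat_of_flat_base [Algebra.WeaklyEtale A B] (Z : Type u) [AddCommGroup Z] [Module A Z]
    [Module B Z] [IsScalarTower A B Z] [Module.Flat A Z] : Module.Flat B Z := by
  rw [Module.Flat.iff_rTensor_preserves_injective_linearMap]
  intro X Y _ _ _ _ f hf
  letI : Module A X := Module.compHom X (algebraMap A B)
  letI : Module A Y := Module.compHom Y (algebraMap A B)
  haveI : IsScalarTower A B X := IsScalarTower.of_algebraMap_smul fun _ _ => rfl
  haveI : IsScalarTower A B Y := IsScalarTower.of_algebraMap_smul fun _ _ => rfl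
  haveI := flat_quotient_diag A B
  -- the canonical map to the tensor product over `B`
  let qX : X ⊗[A] Z →+ X ⊗[B] Z := TensorProduct.liftAddHom
    (AddMonoidHom.mk' (fun x => AddMonoidHom.mk' (fun z => x ⊗ₜ[B] z) (tmul_add x))
      fun x y => AddMonoidHom.ext fun z => add_tmul x y z)
    fun a x z => by
      show (a • x) ⊗ₜ[B] z = x ⊗ₜ[B] (a • z)
      rw [← algebraMap_smul B a x, ← algebraMap_smul B a z, smul_tmul]
  have hqsurj : Function.Surjective qX := by
    intro s
    induction s using TensorProduct.induction_on with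
    | zero => exact ⟨0, map_zero _⟩
    | tmul x z => exact ⟨x ⊗ₜ z, rfl⟩
    | add s s' hs hs' =>
      obtain ⟨t, rfl⟩ := hs
      obtain ⟨t', rfl⟩ := hs'
      exact ⟨t + t', map_add _ _ _⟩
  have hqact : ∀ (c : B ⊗[A] B) (t : X ⊗[A] Z),
      qX (act A B X Z c t) = Algebra.TensorProduct.lmul' A (S := B) c • qX t := by
    intro c t
    induction c using TensorProduct.induction_on with
    | zero => simp
    | add c c' hc hc' => simp only [map_add, LinearMap.add_apply, hc, hc', add_smul]
    | tmul b b' =>
      induction t using TensorProduct.induction_on with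
      | zero => simp
      | add t t' ht ht' => simp only [map_add, ht, ht', smul_add]
      | tmul x z =>
        rw [act_tmul, Algebra.TensorProduct.lmul'_apply_tmul]
        show (b • x) ⊗ₜ[B] (b' • z) = (b * b') • (x ⊗ₜ[B] z)
        rw [tmul_smul, smul_tmul', smul_tmul', smul_smul, mul_comm b' b]
  -- the submodule of elements fixed by an element of the diagonal ideal
  let U : AddSubgroup (Y ⊗[A] Z) :=
    { carrier := {u | ∃ e ∈ diag A B, act A B Y Z e u = u}
      zero_mem' := ⟨0, zero_mem _, by simp⟩
      add_mem' := by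
        rintro u v ⟨e, he, hu⟩ ⟨e', he', hv⟩
        refine ⟨e + e' - e * e',
          sub_mem (add_mem he he') ((diag A B).mul_mem_left _ he'), ?_⟩
        have h1 : act A B Y Z (e * e') u = act A B Y Z e' u := by
          rw [mul_comm, map_mul, Module.End.mul_apply, hu]
        have h2 : act A B Y Z (e * e') v = act A B Y Z e v := by
          rw [map_mul, Module.End.mul_apply, hv]
        simp only [map_add, map_sub, LinearMap.add_apply, LinearMap.sub_apply, h1, h2, hu, hv]
        abel
      neg_mem' := by
        rintro u ⟨e, he, hu⟩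
        exact ⟨e, he, by rw [map_neg, hu]⟩ }
  have hrel : ∀ (b : B) (y : Y) (z : Z), (b • y) ⊗ₜ[A] z - y ⊗ₜ[A] (b • z) ∈ U := by
    intro b y z
    obtain ⟨e, he, hey⟩ := exists_mul_eq_of_flat_quotient (diag A B)
      (y := b ⊗ₜ[A] (1 : B) - (1 : B) ⊗ₜ[A] b) (by simp [RingHom.mem_ker])
    refine ⟨e, he, ?_⟩
    have h1 : (b • y) ⊗ₜ[A] z - y ⊗ₜ[A] (b • z) =
        act A B Y Z (b ⊗ₜ[A] (1 : B) - (1 : B) ⊗ₜ[A] b) (y ⊗ₜ z) := by
      rw [map_sub, LinearMap.sub_apply, act_tmul, act_tmul, one_smul, one_smul]
    rw [h1, ← Module.End.mul_apply, ← map_mul, hey]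
  let qY : Y ⊗[B] Z →+ (Y ⊗[A] Z) ⧸ U := TensorProduct.liftAddHom
    (AddMonoidHom.mk' (fun y => AddMonoidHom.mk'
        (fun z => ((y ⊗ₜ[A] z : Y ⊗[A] Z) : (Y ⊗[A] Z) ⧸ U))
        fun z z' => by rw [tmul_add, QuotientAddGroup.mk_add])
      fun y y' => AddMonoidHom.ext fun z => by
        show ((((y + y') ⊗ₜ[A] z : Y ⊗[A] Z)) : (Y ⊗[A] Z) ⧸ U) = _
        rw [add_tmul, QuotientAddGroup.mk_add]
        rfl)
    fun b y z => QuotientAddGroup.eq_iff_sub_mem.mpr (hrel b y z)
  have hqY : ∀ t : X ⊗[A] Z, qY (f.rTensor Z (qX t)) =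
      (((f.restrictScalars A).rTensor Z t : Y ⊗[A] Z) : (Y ⊗[A] Z) ⧸ U) := by
    intro t
    induction t using TensorProduct.induction_on with
    | zero => simp
    | tmul x z => rfl
    | add t t' ht ht' => simp only [map_add, ht, ht', QuotientAddGroup.mk_add]
  rw [injective_iff_map_eq_zero]
  intro s hs
  obtain ⟨t, rfl⟩ := hqsurj s
  have h0 := hqY t
  rw [hs, map_zero] at h0
  obtain ⟨e, he, hfix⟩ := (QuotientAddGroup.eq_zero_iff _).mp h0.symm
  have hnat : ∀ (c : B ⊗[A] B) (t : X ⊗[A] Z), act A B Y Z c ((f.restrictScalars A).rTensor Z t) =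
      (f.restrictScalars A).rTensor Z (act A B X Z c t) := by
    intro c t
    induction c using TensorProduct.induction_on with
    | zero => simp
    | add c c' hc hc' => simp only [map_add, LinearMap.add_apply, hc, hc']
    | tmul b b' =>
      induction t using TensorProduct.induction_on with
      | zero => simp
      | add t t' ht ht' => simp only [map_add, ht, ht']
      | tmul x z => simp [act_tmul]
  rw [hnat] at hfix
  have ht := Module.Flat.rTensor_preserves_injective_linearMap (M := Z) (f.restrictScalars A)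
    (show Function.Injective (f.restrictScalars A) from hf) hfix
  rw [← ht, hqact, show Algebra.TensorProduct.lmul' A (S := B) e = 0 from he, zero_smul]

end Groth.Agent.Flat.WeaklyEtale
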